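import Cfsg.Agent.Lib.TwoClosedInverted.Basic
import Cfsg.Agent.Lib.OddOrderTheorem.Basic

/-!
# Groups with a disconnected prime graph on real class sizes: general facts (owner: helper55)

* `two_dvd_index` : a real element of order at least three has even class size;
* `exists_mul_of_coprime` : subgroups of coprime index factorise the group;
* `exists_involution_lift`, `exists_centralizing_lift` : lifting through odd kernels;
* `exists_real_lift` : real elements of odd prime-power order lift through any surjection.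
-/

set_option autoImplicit false

namespace Cfsg.Agent.RealClassGraph

open Subgroup
open scoped Pointwise

universe u v

variable {G : Type u} [Group G]

theorem conj_pow_inv {t y : G} (h : t * y * t⁻¹ = y⁻¹) (k : ℕ) :
    t ^ k * y * (t ^ k)⁻¹ = if Even k then y else y⁻¹ := by
  induction k with
  | zero => simp
  | succ k ih =>
    rw [pow_succ', show t * t ^ k * y * (t * t ^ k)⁻¹ = t * (t ^ k * y * (t ^ k)⁻¹) * t⁻¹ by group, ih]
    by_cases hk : Even k
    · rw [if_pos hk, if_neg (by simpa [Nat.even_add_one] using hk), h]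
    · rw [if_neg hk, if_pos (by simpa [Nat.even_add_one] using hk),
        show t * y⁻¹ * t⁻¹ = (t * y * t⁻¹)⁻¹ by group, h, inv_inv]

theorem conj_odd_pow {t y : G} (h : t * y * t⁻¹ = y⁻¹) {k : ℕ} (hk : Odd k) :
    t ^ k * y * (t ^ k)⁻¹ = y⁻¹ := by
  rw [conj_pow_inv h, if_neg (Nat.not_even_iff_odd.2 hk)]

theorem conj_pow_pow {t y : G} (h : t * y * t⁻¹ = y⁻¹) (j : ℕ) :
    t * y ^ j * t⁻¹ = (y ^ j)⁻¹ := by
  rw [← conj_pow, h, inv_pow]

theorem eq_one_of_sq {y : G} (hy : Odd (orderOf y)) (h : y * y = 1) : y = 1 := by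
  have h2 : orderOf y ∣ 2 := orderOf_dvd_of_pow_eq_one (by rw [pow_two, h])
  rcases (Nat.dvd_prime Nat.prime_two).1 h2 with h' | h'
  · exact orderOf_eq_one_iff.1 h'
  · rw [h'] at hy; exact absurd hy (by decide)

theorem not_commute_of_inverted {t y : G} (hy : Odd (orderOf y)) (h : t * y * t⁻¹ = y⁻¹)
    (hc : t * y = y * t) : y = 1 := by
  refine eq_one_of_sq hy ?_
  rw [hc, mul_inv_cancel_right] at h
  nth_rw 2 [h]
  exact mul_inv_cancel y

theorem conj_mul_eq (a b x : G) : a * b * x * (a * b)⁻¹ = a * (b * x * b⁻¹) * a⁻¹ := by group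

theorem mem_centralizer_iff' {x g : G} :
    g ∈ centralizer ({x} : Set G) ↔ g * x = x * g := Subgroup.mem_centralizer_singleton_iff

theorem isPGroup_zpowers_two {t : G} {k : ℕ} (ht : orderOf t = 2 ^ k) : IsPGroup 2 ↥(zpowers t) :=
  IsPGroup.of_card (n := k) (by rw [Nat.card_zpowers, ht])

theorem exists_mem_pow {t : G} {k : ℕ} (ht : orderOf t = 2 ^ k) (j : ℕ) :
    ∃ i, orderOf (t ^ j) = 2 ^ i := by
  obtain ⟨i, -, hi⟩ := (Nat.dvd_prime_pow Nat.prime_two).1
    (ht ▸ orderOf_dvd_of_pow_eq_one (show (t ^ j) ^ orderOf t = 1 by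
      rw [← pow_mul, mul_comm, pow_mul, pow_orderOf_eq_one, one_pow]))
  exact ⟨i, hi⟩

variable [Finite G]

/-- The 2-part of an element, with the odd exponent. -/
theorem exists_two_part (t : G) : ∃ o k : ℕ, Odd o ∧ orderOf (t ^ o) = 2 ^ k := by
  obtain ⟨a, o, ho, hto⟩ := Nat.exists_eq_two_pow_mul_odd (orderOf_pos t).ne'
  refine ⟨o, a, ho, ?_⟩
  rw [orderOf_pow_of_dvd ho.pos.ne' (hto ▸ Dvd.intro_left _ rfl), hto, Nat.mul_div_cancel _ ho.pos]

theorem exists_two_inverter {t y : G} (h : t * y * t⁻¹ = y⁻¹) :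
    ∃ s k, orderOf s = 2 ^ k ∧ s * y * s⁻¹ = y⁻¹ := by
  obtain ⟨o, k, ho, hk⟩ := exists_two_part t
  exact ⟨t ^ o, k, hk, conj_odd_pow h ho⟩

theorem two_dvd_index {t x : G} (h : t * x * t⁻¹ = x⁻¹) (hx : x * x ≠ 1) :
    2 ∣ (centralizer ({x} : Set G)).index := by
  classical
  let D : Subgroup G :=
    { carrier := {g | g * x * g⁻¹ = x ∨ g * x * g⁻¹ = x⁻¹}
      one_mem' := Or.inl (by group)
      mul_mem' := by
        intro a b ha hb
        show a * b * x * (a * b)⁻¹ = x ∨ a * b * x * (a * b)⁻¹ = x⁻¹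
        rw [show a * b * x * (a * b)⁻¹ = a * (b * x * b⁻¹) * a⁻¹ by group]
        rcases hb with hb | hb <;> rw [hb]
        · exact ha
        · rw [show a * x⁻¹ * a⁻¹ = (a * x * a⁻¹)⁻¹ by group]
          rcases ha with ha | ha <;> rw [ha]
          · exact Or.inr rfl
          · exact Or.inl (inv_inv x)
      inv_mem' := by
        intro a ha
        show a⁻¹ * x * a⁻¹⁻¹ = x ∨ a⁻¹ * x * a⁻¹⁻¹ = x⁻¹
        rcases ha with ha | ha
        · left; nth_rw 1 [← ha]; group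
        · right; rw [← inv_inv (a⁻¹ * x * a⁻¹⁻¹)]; congr 1
          rw [show (a⁻¹ * x * a⁻¹⁻¹)⁻¹ = a⁻¹ * x⁻¹ * a by group, ← ha]; group }
  have hCD : centralizer ({x} : Set G) ≤ D := fun g hg => Or.inl (by
    rw [mem_centralizer_iff'] at hg; rw [hg, mul_inv_cancel_right])
  have h2 : (centralizer ({x} : Set G)).relIndex D = 2 := by
    rw [relIndex, index_eq_two_iff]
    refine ⟨⟨t, Or.inr h⟩, fun b => ?_⟩
    have hne : x ≠ x⁻¹ := fun e => hx (by nth_rw 2 [e]; exact mul_inv_cancel x)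
    simp only [mem_subgroupOf, Subgroup.coe_mul, mem_centralizer_iff']
    have key : ∀ g : G, g * x = x * g ↔ g * x * g⁻¹ = x := fun g =>
      ⟨fun e => by rw [e, mul_inv_cancel_right], fun e => mul_inv_eq_iff_eq_mul.1 e⟩
    rw [key, key, show (b : G) * t * x * ((b : G) * t)⁻¹ = (b : G) * (t * x * t⁻¹) * (b : G)⁻¹ by group, h,
      show (b : G) * x⁻¹ * (b : G)⁻¹ = ((b : G) * x * (b : G)⁻¹)⁻¹ by group]
    rcases b.2 with hb | hb
    · rw [hb]
      exact Or.inr ⟨rfl, fun e => hne e.symm⟩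
    · rw [hb, inv_inv]
      exact Or.inl ⟨rfl, fun e => hne e.symm⟩
  rw [← relIndex_mul_index hCD, h2]
  exact dvd_mul_right 2 _

theorem exists_mul_of_coprime (A B : Subgroup G) (h : A.index.Coprime B.index) (g : G) :
    ∃ a ∈ A, ∃ b ∈ B, g = a * b := by
  classical
  let f : ↥A ⧸ B.subgroupOf A → G ⧸ B :=
    Quotient.map' Subtype.val fun a b hab => by
      rw [QuotientGroup.leftRel_apply] at hab ⊢
      exact hab
  have hinj : Function.Injective f := by
    intro p q hpq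
    obtain ⟨a, rfl⟩ := QuotientGroup.mk_surjective p
    obtain ⟨b, rfl⟩ := QuotientGroup.mk_surjective q
    have hpq' : ((a : G) : G ⧸ B) = ((b : G) : G ⧸ B) := hpq
    rw [QuotientGroup.eq] at hpq'
    rw [QuotientGroup.eq, mem_subgroupOf]
    exact hpq'
  have hdvd : B.index ∣ B.relIndex A := by
    have h1 : (A ⊓ B).relIndex A * A.index = (A ⊓ B).index := relIndex_mul_index inf_le_left
    rw [inf_comm, inf_relIndex_right] at h1
    have h2 : B.index ∣ (B ⊓ A).index := index_dvd_of_le inf_le_left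
    rw [← h1] at h2
    exact h.symm.dvd_of_dvd_mul_right h2
  have hsurj : Function.Surjective f := by
    refine ((Nat.bijective_iff_injective_and_card f).2 ⟨hinj, le_antisymm ?_ ?_⟩).2
    · exact Nat.card_le_card_of_injective f hinj
    · exact Nat.le_of_dvd (Nat.card_pos) hdvd
  obtain ⟨p, hp⟩ := hsurj (g : G ⧸ B)
  obtain ⟨a, rfl⟩ := QuotientGroup.mk_surjective p
  have hp' : ((a : G) : G ⧸ B) = (g : G ⧸ B) := hp
  rw [QuotientGroup.eq] at hp'
  exact ⟨a, a.2, (a : G)⁻¹ * g, hp', by group⟩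

theorem centralizer_mul_le {a b : G} (hab : a * b = b * a) (hco : (orderOf a).Coprime (orderOf b)) :
    centralizer ({a * b} : Set G) ≤ centralizer ({a} : Set G) := by
  obtain ⟨e, he1, he2⟩ := Nat.chineseRemainder hco 1 0
  have hpow : (a * b) ^ e = a := by
    rw [Commute.mul_pow hab, orderOf_dvd_iff_pow_eq_one.1 (Nat.modEq_zero_iff_dvd.1 he2), mul_one]
    conv_rhs => rw [← pow_one a]
    exact pow_eq_pow_iff_modEq.2 he1
  intro g hg
  rw [mem_centralizer_iff'] at hg ⊢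
  rw [← hpow]
  exact Commute.pow_right (show Commute g (a * b) from hg) e

theorem orderOf_eq_two {w : G} (h2 : w * w = 1) (h1 : w ≠ 1) : orderOf w = 2 :=
  orderOf_eq_prime (by rw [pow_two, h2]) h1

variable {H : Type v} [Group H]

theorem odd_of_mem_ker (f : G →* H) (hodd : Odd (Nat.card f.ker)) {d : G} (hd : f d = 1) :
    Odd (orderOf d) :=
  hodd.of_dvd_nat (Subgroup.orderOf_dvd_natCard f.ker (MonoidHom.mem_ker.2 hd))

theorem exists_involution_lift (f : G →* H) (hf : Function.Surjective f)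
    (hodd : Odd (Nat.card f.ker)) {w : H} (hw : orderOf w = 2) :
    ∃ v : G, orderOf v = 2 ∧ f v = w := by
  obtain ⟨g, rfl⟩ := hf w
  obtain ⟨o, k, ho, hk⟩ := exists_two_part g
  have hfv : f (g ^ o) = f g := by
    obtain ⟨m, rfl⟩ := ho
    have hp : (f g) ^ 2 = 1 := by rw [← hw]; exact pow_orderOf_eq_one _
    rw [map_pow, pow_succ, pow_mul, hp, one_pow, one_mul]
  refine ⟨g ^ o, orderOf_eq_two ?_ (fun e => ?_), hfv⟩
  · have hker : f (g ^ o * g ^ o) = 1 := by
      rw [map_mul, hfv, ← pow_two, ← hw]; exact pow_orderOf_eq_one _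
    obtain ⟨i, hi⟩ := exists_mem_pow hk 2
    rw [pow_two] at hi
    have h1 := odd_of_mem_ker f hodd hker
    rw [hi] at h1
    rcases Nat.eq_zero_or_pos i with rfl | hi0
    · exact orderOf_eq_one_iff.1 (by simpa using hi)
    · exact absurd h1 (Nat.not_odd_iff_even.2 (Nat.even_pow.2 ⟨even_two, hi0.ne'⟩))
  · rw [e, map_one] at hfv
    rw [← hfv, orderOf_one] at hw
    omega

theorem exists_centralizing_lift (f : G →* H) (hodd : Odd (Nat.card f.ker)) {v g : G}
    (hv : v * v = 1) (hg : f g * f v = f v * f g) :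
    ∃ c : G, c * v = v * c ∧ f c = f g := by
  set d := g * v * g⁻¹ * v with hd
  have hvi : v⁻¹ = v := inv_eq_of_mul_eq_one_right hv
  have hfd : f d = 1 := by
    rw [hd, map_mul, map_mul, map_mul, map_inv, hg, mul_inv_cancel_right, ← map_mul, hv, map_one]
  obtain ⟨m, hm⟩ := odd_of_mem_ker f hodd hfd
  have hvd : v * d * v⁻¹ = d⁻¹ := by
    rw [hd, mul_inv_rev, mul_inv_rev, mul_inv_rev, inv_inv, hvi]
    calc v * (g * v * g⁻¹ * v) * v = v * (g * v * g⁻¹) * (v * v) := by group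
      _ = v * (g * v * g⁻¹) := by rw [hv, mul_one]
      _ = _ := by group
  set a := d ^ (m + 1) with ha
  have haa : a * a = d := by
    rw [ha, ← pow_add, show m + 1 + (m + 1) = orderOf d + 1 by omega, pow_succ, pow_orderOf_eq_one,
      one_mul]
  have hva : v * a * v⁻¹ = a⁻¹ := conj_pow_pow hvd _
  have hconj : a * v * a⁻¹ = g * v * g⁻¹ := by
    calc a * v * a⁻¹ = a * (v * a * v⁻¹)⁻¹ * v := by group
      _ = a * a * v := by rw [hva, inv_inv]
      _ = g * v * g⁻¹ * (v * v) := by rw [haa, hd]; group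
      _ = _ := by rw [hv, mul_one]
  refine ⟨a⁻¹ * g, ?_, ?_⟩
  · calc a⁻¹ * g * v = a⁻¹ * (g * v * g⁻¹) * g := by group
      _ = a⁻¹ * (a * v * a⁻¹) * g := by rw [hconj]
      _ = _ := by group
  · rw [map_mul, map_inv, ha, map_pow, hfd, one_pow, inv_one, one_mul]

theorem exists_fixed_point {P : Type*} [Group P] [Finite P] (hP : IsPGroup 2 P) (α : Type*) [MulAction P α]
    [Finite α] (hα : Odd (Nat.card α)) : ∃ a : α, ∀ p : P, p • a = a := by
  haveI : Fact (Nat.Prime 2) := ⟨Nat.prime_two⟩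
  obtain ⟨a, ha⟩ := hP.nonempty_fixed_point_of_prime_not_dvd_card α (Nat.two_dvd_ne_zero.2 (Nat.odd_iff.1 hα))
  exact ⟨a, ha⟩

/-- Real elements of odd prime-power order lift through surjections. -/
theorem exists_real_lift [Finite H] (f : G →* H) (hf : Function.Surjective f) {y' t' : H} (hpp : IsPrimePow (orderOf y'))
    (hodd : Odd (orderOf y')) (hinv : t' * y' * t'⁻¹ = y'⁻¹) :
    ∃ y t : G, f y = y' ∧ y ≠ 1 ∧ IsPrimePow (orderOf y) ∧ Odd (orderOf y) ∧ t * y * t⁻¹ = y⁻¹ := by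
  classical
  obtain ⟨r, k, hr, hk, hrk⟩ := hpp
  rw [← Nat.prime_iff] at hr
  haveI : Fact r.Prime := ⟨hr⟩
  have hr2 : r ≠ 2 := fun e => by
    rw [← hrk, e] at hodd
    exact absurd hodd (Nat.not_odd_iff_even.2 (Nat.even_pow.2 ⟨even_two, hk.ne'⟩))
  obtain ⟨t₁, ht₁⟩ := hf t'
  set Y := (zpowers y').comap f with hY
  obtain ⟨R⟩ : Nonempty (Sylow r ↥Y) := inferInstance
  -- adjust `t₁` by an element of `Y` to normalise `R`
  have hYt : ∀ a, a ∈ Y ↔ t₁ * a * t₁⁻¹ ∈ Y := by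
    intro a
    show f a ∈ zpowers y' ↔ f (t₁ * a * t₁⁻¹) ∈ zpowers y'
    rw [map_mul, map_mul, map_inv, ht₁]
    constructor
    · intro ha
      obtain ⟨i, hi⟩ := mem_zpowers_iff.1 ha
      rw [← hi, ← conj_zpow, hinv]
      exact zpow_mem (inv_mem (mem_zpowers _)) i
    · intro ha
      obtain ⟨i, hi⟩ := mem_zpowers_iff.1 ha
      have h2 : f a = t'⁻¹ * y' ^ i * t' := by rw [hi]; group
      have h3 : t'⁻¹ * y' * t' = y'⁻¹ := by
        have h4 := congrArg (fun z : H => t'⁻¹ * z⁻¹ * t') hinv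
        simp only [inv_inv] at h4
        rw [← h4]; group
      have h5 : t'⁻¹ * y' ^ i * t' = (t'⁻¹ * y' * t') ^ i := by
        have := (conj_zpow (i := i) (a := t'⁻¹) (b := y')).symm
        rwa [inv_inv] at this
      rw [h2, h5, h3]
      exact zpow_mem (inv_mem (mem_zpowers _)) i
  let e : ↥Y ≃* ↥Y :=
    { toFun := fun a => ⟨t₁ * a * t₁⁻¹, (hYt a).1 a.2⟩
      invFun := fun a => ⟨t₁⁻¹ * a * t₁, (hYt _).2 (by simpa [mul_assoc] using a.2)⟩
      left_inv := fun a => Subtype.ext (by simp [mul_assoc])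
      right_inv := fun a => Subtype.ext (by simp [mul_assoc])
      map_mul' := fun a b => Subtype.ext (by simp [mul_assoc]) }
  obtain ⟨c, hc⟩ := MulAction.exists_smul_eq ↥Y (R.mapSurjective (f := e.toMonoidHom) e.surjective) R
  set R' := (R : Subgroup ↥Y).map Y.subtype with hR'
  have hnorm : ∀ a ∈ R', (c : G) * t₁ * a * ((c : G) * t₁)⁻¹ ∈ R' := by
    rintro _ ⟨a, ha, rfl⟩
    have h1 : c * e a * c⁻¹ ∈ (R : Subgroup ↥Y) := by
      rw [← hc]
      show c * e a * c⁻¹ ∈ MulAut.conj c • (R : Subgroup ↥Y).map e.toMonoidHom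
      exact Subgroup.smul_mem_pointwise_smul _ (MulAut.conj c) _ ⟨a, ha, rfl⟩
    refine ⟨_, h1, ?_⟩
    simp [e, mul_assoc]
  obtain ⟨ci, hci⟩ := mem_zpowers_iff.1 (show f (c : G) ∈ zpowers y' from c.2)
  have hfc : f ((c : G) * t₁) * y' * (f ((c : G) * t₁))⁻¹ = y'⁻¹ := by
    rw [map_mul, ht₁, ← hci, show y' ^ ci * t' * y' * (y' ^ ci * t')⁻¹ = y' ^ ci * (t' * y' * t'⁻¹) * (y' ^ ci)⁻¹ by group,
      hinv]
    group
  -- the 2-part still inverts and normalises
  obtain ⟨o, kk, ho, hkk⟩ := exists_two_part ((c : G) * t₁)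
  set t := ((c : G) * t₁) ^ o with ht
  have hft : f t * y' * (f t)⁻¹ = y'⁻¹ := by rw [ht, map_pow]; exact conj_odd_pow hfc ho
  have htR : ∀ a ∈ R', t * a * t⁻¹ ∈ R' := by
    rw [ht]
    clear hft ht t hkk ho
    induction o with
    | zero => intro a ha; simpa using ha
    | succ o ih =>
      intro a ha
      rw [pow_succ', conj_mul_eq]
      exact hnorm _ (ih a ha)
  -- `R'` maps onto the cyclic group
  let g : ↥Y →* ↥(zpowers y') := (f.comp Y.subtype).codRestrict _ fun a => a.2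
  have hg : Function.Surjective g := by
    rintro ⟨z, hz⟩
    obtain ⟨z₀, rfl⟩ := hf z
    exact ⟨⟨z₀, hz⟩, rfl⟩
  have hRtop : ((R.mapSurjective hg : Sylow r ↥(zpowers y')) : Subgroup ↥(zpowers y')) = ⊤ := by
    have hzp : IsPGroup r (⊤ : Subgroup ↥(zpowers y')) :=
      IsPGroup.of_card (n := k) (by rw [Subgroup.card_top, Nat.card_zpowers, hrk])
    exact ((R.mapSurjective hg).is_maximal' hzp le_top).symm
  -- a preimage fixed by `t * t`
  set K := R' ⊓ f.ker
  have hR'p : IsPGroup r ↥R' := R.isPGroup'.map _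
  have hK : IsPGroup r ↥K := hR'p.to_le inf_le_left
  obtain ⟨m, hm⟩ := hodd
  obtain ⟨a₀, ha₀, ha₀e⟩ : ∃ a ∈ (R : Subgroup ↥Y), g a = ⟨y' ^ (m + 1), npow_mem_zpowers _ _⟩ :=
    (show _ ∈ ((R.mapSurjective hg : Sylow r ↥(zpowers y')) : Subgroup ↥(zpowers y')) by rw [hRtop]; exact mem_top _)
  let α := {a : G // a ∈ R' ∧ f a = y' ^ (m + 1)}
  have haα : (a₀ : G) ∈ R' ∧ f (a₀ : G) = y' ^ (m + 1) :=
    ⟨⟨a₀, ha₀, rfl⟩, congrArg Subtype.val ha₀e⟩
  have hαcard : Nat.card α = Nat.card ↥K := by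
    refine Nat.card_congr
      { toFun := fun a => ⟨(a₀ : G)⁻¹ * a.1, ⟨R'.mul_mem (R'.inv_mem haα.1) a.2.1, by
          show f _ = 1; rw [map_mul, map_inv, a.2.2, haα.2, inv_mul_cancel]⟩⟩
        invFun := fun x => ⟨(a₀ : G) * x.1, R'.mul_mem haα.1 x.2.1, by
          rw [map_mul, haα.2, MonoidHom.mem_ker.1 x.2.2, mul_one]⟩
        left_inv := fun a => Subtype.ext (by simp)
        right_inv := fun x => Subtype.ext (by simp) }
  have hαodd : Odd (Nat.card α) := by
    obtain ⟨i, hi⟩ := hK.exists_card_eq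
    rw [hαcard, hi]
    exact (hr.odd_of_ne_two hr2).pow
  have hft2 : ∀ j : ℕ, f ((t * t) ^ j) * y' * (f ((t * t) ^ j))⁻¹ = y' := by
    intro j
    rw [map_pow, map_mul, ← pow_two, ← pow_mul, conj_pow_inv hft, if_pos (even_two_mul j)]
  have htwo : ∀ j : ℕ, ∀ a : G, (a ∈ R' ∧ f a = y' ^ (m + 1)) →
      ((t * t) ^ j * a * ((t * t) ^ j)⁻¹ ∈ R' ∧ f ((t * t) ^ j * a * ((t * t) ^ j)⁻¹) = y' ^ (m + 1)) := by
    intro j a ha
    constructor
    · induction j with
      | zero => simpa using ha.1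
      | succ j ih =>
        rw [pow_succ', conj_mul_eq, conj_mul_eq]
        exact htR _ (htR _ ih)
    · rw [map_mul, map_mul, map_inv, ha.2, ← conj_pow, hft2]
  obtain ⟨i2, hi2⟩ := exists_mem_pow hkk 2
  rw [pow_two] at hi2
  have hT : IsPGroup 2 ↥(zpowers (t * t)) := isPGroup_zpowers_two hi2
  letI : MulAction ↥(zpowers (t * t)) α :=
    { smul := fun p a => ⟨(p : G) * a.1 * (p : G)⁻¹, by
        obtain ⟨j, hj⟩ := (isOfFinOrder_of_finite (t * t)).mem_powers_iff_mem_zpowers.2 p.2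
        simp only at hj
        rw [← hj]
        exact htwo j a.1 a.2⟩
      one_smul := fun a => Subtype.ext (by
        show ((1 : ↥(zpowers (t * t))) : G) * a.1 * ((1 : ↥(zpowers (t * t))) : G)⁻¹ = a.1
        simp)
      mul_smul := fun p q a => Subtype.ext (by
        show ((p * q : ↥(zpowers (t * t))) : G) * a.1 * ((p * q : ↥(zpowers (t * t))) : G)⁻¹ =
          (p : G) * ((q : G) * a.1 * (q : G)⁻¹) * (p : G)⁻¹
        simp [mul_assoc]) }
  obtain ⟨a, ha⟩ := exists_fixed_point hT α hαodd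
  have hfix : t * (t * a.1 * t⁻¹) * t⁻¹ = a.1 := by
    have h9 : t * t * a.1 * (t * t)⁻¹ = a.1 := congrArg Subtype.val (ha ⟨t * t, mem_zpowers _⟩)
    rwa [conj_mul_eq] at h9
  set y := a.1 * (t * a.1 * t⁻¹)⁻¹ with hy
  have hfy : f y = y' := by
    rw [hy, map_mul, map_inv, map_mul, map_mul, map_inv, a.2.2, ← conj_pow, hft, inv_pow, inv_inv,
      ← pow_add, show m + 1 + (m + 1) = orderOf y' + 1 by omega, pow_succ, pow_orderOf_eq_one, one_mul]
  have hyR : y ∈ R' := R'.mul_mem a.2.1 (R'.inv_mem (htR _ a.2.1))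
  have hy1 : y ≠ 1 := fun e1 => by
    rw [e1, map_one] at hfy
    rw [← hfy, orderOf_one] at hrk
    exact absurd hrk (Nat.one_lt_pow hk.ne' hr.one_lt).ne'
  obtain ⟨i, hi⟩ := IsPGroup.iff_orderOf.1 hR'p ⟨y, hyR⟩
  rw [Subgroup.orderOf_mk] at hi
  refine ⟨y, t, hfy, hy1, ⟨r, i, hr.prime, Nat.pos_of_ne_zero fun e0 => hy1 ?_, hi.symm⟩, ?_, ?_⟩
  · rw [e0, pow_zero] at hi
    exact orderOf_eq_one_iff.1 hi
  · rw [hi]; exact (hr.odd_of_ne_two hr2).pow
  · rw [hy, show t * (a.1 * (t * a.1 * t⁻¹)⁻¹) * t⁻¹ =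
      (t * a.1 * t⁻¹) * (t * (t * a.1 * t⁻¹) * t⁻¹)⁻¹ by group, hfix, mul_inv_rev, inv_inv]

theorem isPGroup_two_pair {t s : G} (htt : t * t = 1) (hss : s * s = 1) {j : ℕ}
    (hj : (t * s) ^ 2 ^ j = 1) : IsPGroup 2 ↥(closure ({t, s} : Set G)) := by
  haveI : Fact (Nat.Prime 2) := ⟨Nat.prime_two⟩
  have hD : IsPGroup 2 ↥(zpowers (t * s)) := by
    obtain ⟨i, -, hi⟩ := (Nat.dvd_prime_pow Nat.prime_two).1 (orderOf_dvd_of_pow_eq_one hj)
    exact isPGroup_zpowers_two hi
  have htN : zpowers t ≤ normalizer ((zpowers (t * s) : Subgroup G) : Set G) := by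
    rw [zpowers_le]
    refine mem_normalizer_fintype fun y hy => ?_
    obtain ⟨i, rfl⟩ := mem_zpowers_iff.1 hy
    have h6 : t * (t * s) * t⁻¹ = (t * s)⁻¹ := by
      rw [inv_eq_of_mul_eq_one_right htt, mul_inv_rev, inv_eq_of_mul_eq_one_right htt,
        inv_eq_of_mul_eq_one_right hss, ← mul_assoc, htt, one_mul]
    rw [← conj_zpow, h6]
    exact zpow_mem (inv_mem (mem_zpowers _)) i
  have hT : IsPGroup 2 ↥(zpowers t) := by
    obtain ⟨i, -, hi⟩ := (Nat.dvd_prime_pow Nat.prime_two).1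
      (orderOf_dvd_of_pow_eq_one (show t ^ 2 ^ 1 = 1 by rw [pow_one, pow_two, htt]))
    exact isPGroup_zpowers_two hi
  refine (hT.to_sup_of_normal_right' hD htN).to_le ((closure_le _).2 ?_)
  rintro y (hy | hy) <;> (replace hy : y = _ := hy) <;> rw [hy]
  · exact mem_sup_left (mem_zpowers _)
  · have h7 := mul_mem (mem_sup_left (mem_zpowers t) :
      t ∈ zpowers t ⊔ zpowers (t * s)) (mem_sup_right (mem_zpowers (t * s)))
    have h7' : t * (t * s) = s := by rw [← mul_assoc, htt, one_mul]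
    rw [h7'] at h7
    exact h7

/-- A group with a normal Sylow 2-subgroup is solvable. -/
theorem isSolvable_of_two_closed {K : Type u} [Group K] [Finite K] (P : Sylow 2 K)
    (hP : (P : Subgroup K).Normal) : Group.IsSolvable K := by
  haveI : Fact (Nat.Prime 2) := ⟨Nat.prime_two⟩
  haveI := hP
  haveI := P.isPGroup'.isNilpotent
  haveI : Group.IsSolvable ↥(P : Subgroup K) := inferInstance
  haveI : Group.IsSolvable (K ⧸ (P : Subgroup K)) := by
    refine OddOrderTheorem.solvable ?_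
    rw [Nat.odd_iff, ← Nat.two_dvd_ne_zero]
    exact P.not_dvd_index
  exact Group.isSolvable_of_ker_le_range (P : Subgroup K).subtype (QuotientGroup.mk' (P : Subgroup K))
    (by rw [QuotientGroup.ker_mk', Subgroup.range_subtype])

/-- Without inverted elements of odd prime-power order all Sylow 2-subgroups are normal. -/
theorem two_closed_of_no_real {K : Type u} [Group K] [Finite K]
    (h : ∀ y t : K, y ≠ 1 → IsPrimePow (orderOf y) → Odd (orderOf y) → t * y * t⁻¹ = y⁻¹ → False)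
    (P : Sylow 2 K) : (P : Subgroup K).Normal := by
  by_contra hP
  obtain ⟨q, hq, x, g, hq2, hx, hg⟩ := TwoClosedInverted.exists_inverted (fun h' => hP (h' P))
  exact h x g (fun e => by rw [e, orderOf_one] at hx; exact hq.ne_one hx.symm)
    (hx ▸ hq.isPrimePow) (hx ▸ hq.odd_of_ne_two hq2) hg

end Cfsg.Agent.RealClassGraph
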