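import Cfsg.Agent.Lib.RealClassGraph.SixtyThreePivot
import Cfsg.Agent.Lib.Zsigmondy.Basic

/-!
# Existence of a pivot when an involution of `N` lies in two points (owner: helper55)
-/

set_option autoImplicit false

namespace Cfsg.Agent.RealClassGraph

open Subgroup
open scoped Pointwise

universe u

variable {H U : Type u} [Group H] [Finite H] [CommGroup U] [Finite U] [MulDistribMulAction H U]
  [FaithfulSMul H U] {N : Subgroup H}

/-- An involution of `N` lying in at least two points, with the resulting counting. -/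
structure Doubled (U : Type u) [CommGroup U] [MulDistribMulAction H U] [N.Normal] (u : H) (S : Pts N) (h k : ℕ) :
    Prop where
  ord : orderOf u = 2
  mem : u ∈ S.1
  fix_card : Nat.card ↥(fix U ({u} : Set H)) = 2 ^ h
  card : Nat.card U = 2 ^ (2 * h)
  pts : Nat.card (Pts N) * fixCount U S = 2 ^ (2 * h) - 1
  fix_pts : k * fixCount U S = 2 ^ h - 1
  two_le : 2 ≤ k

theorem Data.exists_doubled (D : Data H U) [N.Normal] {u : H} {S T : Pts N} (hu : orderOf u = 2) (huS : u ∈ S.1)
    (huT : u ∈ T.1) (hST : S ≠ T) : ∃ h k : ℕ, Doubled U u S h k := by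
  classical
  haveI : Fact (Nat.Prime 2) := ⟨Nat.prime_two⟩
  obtain ⟨h, hh⟩ := (D.pgroup.to_subgroup (fix U ({u} : Set H))).exists_card_eq
  have hcard : Nat.card U = 2 ^ (2 * h) := by
    rw [D.card_fix_involution hu, hh, two_mul, pow_add]
  have h1 := D.card_union (N := N) ⊤ (fun _ => True) (fun _ x _ _ => iff_of_true (mem_top x) trivial) S
  rw [card_top, hcard, Nat.card_congr (Equiv.subtypeUnivEquiv fun _ => trivial)] at h1
  have h2 := D.card_union (N := N) (fix U ({u} : Set H)) (fun R => u ∈ R.1) (fun R x hx hxR => by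
    rw [mem_fix_singleton]; exact D.fix_involution_iff hu (pts_le S huS) hx hxR) S
  rw [hh] at h2
  refine ⟨h, Nat.card {R : Pts N // u ∈ R.1}, hu, huS, hh, hcard, h1, h2, ?_⟩
  haveI : Nontrivial {R : Pts N // u ∈ R.1} :=
    ⟨⟨⟨S, huS⟩, ⟨T, huT⟩, fun e => hST (congrArg Subtype.val e)⟩⟩
  exact Finite.one_lt_card

theorem Doubled.fixCount_pos (D : Data H U) [N.Normal] {u : H} {S : Pts N} {h k : ℕ} (E : Doubled U u S h k) :
    0 < fixCount U S ∧ 2 ≤ h := by
  have hne := D.fix_pt_ne_bot S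
  have h1 : 0 < fixCount U S := by
    rw [fixCount_def]
    have : Nontrivial ↥(fix U (S.1 : Set H)) := (nontrivial_iff_ne_bot _).2 hne
    have := Finite.one_lt_card (α := ↥(fix U (S.1 : Set H)))
    omega
  refine ⟨h1, ?_⟩
  by_contra hlt
  have h2 : k * fixCount U S ≤ 1 := by
    rw [E.fix_pts]
    have : 2 ^ h ≤ 2 := le_trans (Nat.pow_le_pow_right two_pos (by omega : h ≤ 1)) (by norm_num)
    omega
  have h3 : 2 * 1 ≤ k * fixCount U S := Nat.mul_le_mul E.two_le h1
  omega

theorem Data.exists_pivot (D : Data H U) [hN : N.Normal] {u : H} {S : Pts N} {h k : ℕ}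
    (E : Doubled U u S h k) : ∃ g : H, Pivot g := by
  classical
  obtain ⟨hm, hh⟩ := E.fixCount_pos D
  obtain ⟨y₀, hy₀, hy₀odd, hy₀inv⟩ := D.exists_inverted E.ord
  obtain ⟨r, hr, hrd⟩ := Nat.exists_prime_and_dvd (fun e : orderOf y₀ = 1 => hy₀ (orderOf_eq_one_iff.1 e))
  set y := y₀ ^ (orderOf y₀ / r)
  have hyo : orderOf y = r := orderOf_pow_orderOf_div (orderOf_pos y₀).ne' hrd
  have hinv : u * y * u⁻¹ = y⁻¹ := conj_pow_pow hy₀inv _
  have hy : y ≠ 1 := fun e => hr.ne_one (by rw [← hyo, e, orderOf_one])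
  have hodd : Odd (orderOf y) := hyo ▸ hy₀odd.of_dvd_nat hrd
  by_cases h6 : 2 * h = 6
  · have h3 : h = 3 := by omega
    have hm1 : fixCount U S = 1 := by
      have h7 := E.fix_pts
      rw [h3] at h7
      norm_num at h7
      rcases (Nat.dvd_prime (by norm_num : (7).Prime)).1 (h7 ▸ dvd_mul_left (fixCount U S) k) with e | e
      · exact e
      · rw [e] at h7
        have := E.two_le
        omega
    have B : Big63 H U := by
      refine ⟨D, by rw [E.card, h6], fun z s hz hpp hzodd hzs v w hv hw => ?_⟩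
      obtain ⟨Sv, hSv, -⟩ := D.pt_of (N := N) hv
      obtain ⟨Sw, hSw, -⟩ := D.pt_of (N := N) hw
      obtain ⟨c, hc, hcS⟩ := D.real_trans hz hpp hzodd hzs Sv Sw
      refine ⟨c, hc, ?_⟩
      have hcv : c • v ∈ fix U (Sw.1 : Set H) := hcS ▸ smul_mem_fix_pt c hSv
      have hone : Nat.card {x : ↥(fix U (Sw.1 : Set H)) // x ≠ 1} = 1 := (fixCount_eq Sw S).trans hm1
      obtain ⟨hsub, -⟩ := Nat.card_eq_one_iff_unique.1 hone
      have hcv1 : c • v ≠ 1 := fun e => hv (MulAction.injective c (e.trans (smul_one c).symm))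
      exact congrArg (fun x : {x : ↥(fix U (Sw.1 : Set H)) // x ≠ 1} => (x.1.1 : U))
        (hsub.elim ⟨⟨c • v, hcv⟩, fun e => hcv1 (congrArg Subtype.val e)⟩
          ⟨⟨w, hSw⟩, fun e => hw (congrArg Subtype.val e)⟩)
    exact B.exists_pivot (B.order_eq_three (hyo ▸ hr) hodd hinv) hinv
  · obtain ⟨z, hz, hzd, hzp⟩ := Zsigmondy.exists_primitive (a := 2) (n := 2 * h) one_lt_two (by omega)
      (fun e => h6 e.2) (fun e => by omega)
    have hz2 : z ≠ 2 := by
      rintro rfl
      have : 2 ∣ 2 ^ (2 * h) := dvd_pow_self 2 (by omega)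
      have := Nat.one_le_two_pow (n := 2 * h)
      omega
    have hzn : z ∣ Nat.card (Pts N) := by
      rcases hz.dvd_mul.1 (E.pts ▸ hzd : z ∣ Nat.card (Pts N) * fixCount U S) with h1 | h1
      · exact h1
      · exact absurd (h1.trans (E.fix_pts ▸ dvd_mul_left _ _)) (hzp h (by omega) (by omega))
    exact pivot_of_primitive D hy hodd hinv hz hz2 E.card hzp
      (hzn.trans (dvd_card_centralizer D hy (hyo ▸ hr.isPrimePow) hodd hinv))

end Cfsg.Agent.RealClassGraph
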