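import Cfsg.Agent.Lib.RealClassGraph.Setup

/-!
# Elementary consequences of `Data` (owner: helper55)

* `Data.fpf` : inverted elements of odd order act without non-trivial fixed points;
* `Data.sylow_fix` : each vector has a Sylow 2-subgroup containing every 2-subgroup fixing it;
* `Data.normal_two_eq_bot` : no non-trivial normal 2-subgroup;
* `Data.exists_inverted`, `Data.card_fix_involution` : each involution inverts an element of odd prime
  order and fixes exactly half of `U`.
-/

set_option autoImplicit false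

namespace Cfsg.Agent.RealClassGraph

open Subgroup
open scoped Pointwise

universe u

variable {H U : Type u} [Group H] [CommGroup U] [MulDistribMulAction H U]

/-- The vectors fixed by a set of group elements. -/
def fix (U : Type u) [CommGroup U] [MulDistribMulAction H U] (s : Set H) : Subgroup U where
  carrier := {x | ∀ g ∈ s, g • x = x}
  one_mem' := fun g _ => smul_one g
  mul_mem' := fun {a b} ha hb g hg => by rw [smul_mul', ha g hg, hb g hg]
  inv_mem' := fun {a} ha g hg => by rw [smul_inv', ha g hg]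

theorem mem_fix {s : Set H} {x : U} : x ∈ fix U s ↔ ∀ g ∈ s, g • x = x := Iff.rfl

theorem mem_fix_singleton {g : H} {x : U} : x ∈ fix U ({g} : Set H) ↔ g • x = x := by
  rw [mem_fix]; simp

variable [Finite H] [Finite U] [FaithfulSMul H U]

theorem Data.card_pow (D : Data H U) : ∃ d, Nat.card U = 2 ^ d := by
  haveI : Fact (Nat.Prime 2) := ⟨Nat.prime_two⟩
  have hU : IsPGroup 2 U := fun x => ⟨1, by rw [pow_one, pow_two, D.two]⟩
  exact hU.exists_card_eq

theorem Data.pgroup (D : Data H U) : IsPGroup 2 U := fun x => ⟨1, by rw [pow_one, pow_two, D.two]⟩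

theorem Data.eq_one_iff (D : Data H U) {x y : U} : x * y = 1 ↔ x = y := by
  rw [mul_eq_one_iff_eq_inv, inv_eq_of_mul_eq_one_right (D.two y)]

theorem Data.isSolvable_stabilizer (D : Data H U) {x : U} (hx : x ≠ 1) :
    Group.IsSolvable ↥(MulAction.stabilizer H x) := by
  obtain ⟨P⟩ : Nonempty (Sylow 2 ↥(MulAction.stabilizer H x)) := inferInstance
  exact isSolvable_of_two_closed P (D.stab_closed x hx P)

theorem Data.exists_fixed_in (D : Data H U) {W : Subgroup U} (hW : W ≠ ⊥) {P : Subgroup H}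
    (hP : IsPGroup 2 ↥P) (hinv : ∀ p ∈ P, ∀ w ∈ W, p • w ∈ W) :
    ∃ w ∈ W, w ≠ 1 ∧ ∀ p ∈ P, p • w = w := by
  haveI : Fact (Nat.Prime 2) := ⟨Nat.prime_two⟩
  letI : MulAction ↥P ↥W :=
    { smul := fun p w => ⟨(p : H) • (w : U), hinv p p.2 w w.2⟩
      one_smul := fun w => Subtype.ext (one_smul H (w : U))
      mul_smul := fun p q w => Subtype.ext (mul_smul (p : H) (q : H) (w : U)) }
  obtain ⟨j, hj⟩ := (D.pgroup.to_subgroup W).exists_card_eq
  have hj0 : j ≠ 0 := fun e => hW (card_eq_one.1 (by rw [hj, e, pow_zero]))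
  obtain ⟨w, hw, hw1⟩ := hP.exists_fixed_point_of_prime_dvd_card_of_fixed_point ↥W
    (hj ▸ dvd_pow_self 2 hj0) (a := 1) (fun p => Subtype.ext (smul_one (p : H)))
  exact ⟨w, w.2, fun e => hw1 (Subtype.ext e).symm, fun p hp => congrArg Subtype.val (hw ⟨p, hp⟩)⟩

theorem Data.fpf (D : Data H U) {y t : H} (hy : y ≠ 1) (hodd : Odd (orderOf y))
    (hinv : t * y * t⁻¹ = y⁻¹) {x : U} (hx : y • x = x) : x = 1 := by
  by_contra hx1
  obtain ⟨s, k, hs, hsy⟩ := exists_two_inverter hinv
  have hW : fix U ({y} : Set H) ≠ ⊥ := fun e => hx1 (by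
    rw [← mem_bot, ← e]; exact mem_fix_singleton.2 hx)
  have hinvW : ∀ p ∈ zpowers s, ∀ w ∈ fix U ({y} : Set H), p • w ∈ fix U ({y} : Set H) := by
    intro p hp w hw
    obtain ⟨i, rfl⟩ := mem_zpowers_iff.1 hp
    have hsN : s ∈ normalizer ((zpowers y : Subgroup H) : Set H) := by
      refine mem_normalizer_fintype fun v hv => ?_
      obtain ⟨j, rfl⟩ := mem_zpowers_iff.1 hv
      rw [← conj_zpow, hsy]
      exact zpow_mem (inv_mem (mem_zpowers y)) j
    have h1 : (s ^ i)⁻¹ * y * s ^ i ∈ zpowers y :=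
      (Subgroup.mem_normalizer_iff''.1 (zpow_mem hsN i) y).1 (mem_zpowers y)
    obtain ⟨j, hj⟩ := mem_zpowers_iff.1 h1
    have h2 : (y ^ j) • w = w :=
      (zpowers_le.2 (MulAction.mem_stabilizer_iff.2 (mem_fix_singleton.1 hw)) :
        zpowers y ≤ MulAction.stabilizer H w) (zpow_mem (mem_zpowers y) j)
    rw [mem_fix_singleton]
    calc y • s ^ i • w = s ^ i • ((s ^ i)⁻¹ * y * s ^ i) • w := by
          simp only [← mul_smul, mul_assoc, mul_inv_cancel_left]
      _ = _ := by rw [← hj, h2]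
  obtain ⟨w, hw, hw1, hwP⟩ := D.exists_fixed_in hW (isPGroup_zpowers_two hs) hinvW
  have hys : y ∈ MulAction.stabilizer H w := mem_fix_singleton.1 hw
  have hss : s ∈ MulAction.stabilizer H w := hwP s (mem_zpowers s)
  have := TwoClosedInverted.eq_one_of_inverted (D.stab_closed w hw1)
    (x := (⟨y, hys⟩ : ↥(MulAction.stabilizer H w))) (g := ⟨s, hss⟩)
    (by rwa [Subgroup.orderOf_mk]) (Subtype.ext hsy)
  exact hy (congrArg Subtype.val this)

theorem Data.sylow_fix (D : Data H U) {x : U} (hx : x ≠ 1) :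
    ∃ P : Sylow 2 H, (∀ p ∈ (P : Subgroup H), p • x = x) ∧
      ∀ Q : Subgroup H, IsPGroup 2 ↥Q → (∀ q ∈ Q, q • x = x) → Q ≤ (P : Subgroup H) := by
  haveI : Fact (Nat.Prime 2) := ⟨Nat.prime_two⟩
  set St := MulAction.stabilizer H x
  obtain ⟨R⟩ : Nonempty (Sylow 2 ↥St) := inferInstance
  haveI := D.stab_closed x hx R
  let P : Sylow 2 H := (R.isPGroup'.map St.subtype).toSylow (by
    rw [index_map, St.ker_subtype, sup_bot_eq, St.range_subtype]
    exact Nat.prime_two.not_dvd_mul R.not_dvd_index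
      (Nat.two_dvd_ne_zero.2 (Nat.odd_iff.1 (D.stab_odd x hx))))
  refine ⟨P, fun p hp => ?_, fun Q hQ hQx q hq => ?_⟩
  · obtain ⟨p', -, rfl⟩ := (hp : p ∈ (R : Subgroup ↥St).map St.subtype)
    exact p'.2
  · have hQS : Q ≤ St := fun q hq => hQx q hq
    have h2 : IsPGroup 2 ↥(Q.subgroupOf St) := hQ.comap_of_injective _ St.subtype_injective
    have h3 : Q.subgroupOf St ≤ (R : Subgroup ↥St) :=
      le_sup_left.trans (R.is_maximal' (h2.to_sup_of_normal_right R.isPGroup') le_sup_right).le
    exact mem_map_of_mem St.subtype (h3 (show (⟨q, hQS hq⟩ : ↥St) ∈ Q.subgroupOf St from hq))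

theorem Data.normal_two_eq_bot (D : Data H U) {R : Subgroup H} (hR : R.Normal) (hR2 : IsPGroup 2 ↥R) :
    R = ⊥ := by
  haveI := hR
  rw [eq_bot_iff]
  intro r hr
  refine eq_of_smul_eq_smul (α := U) fun x => ?_
  rw [one_smul]
  by_cases hx : x = 1
  · rw [hx, smul_one]
  · obtain ⟨P, hP, -⟩ := D.sylow_fix hx
    exact hP r ((le_sup_right.trans (P.is_maximal' (P.isPGroup'.to_sup_of_normal_right hR2) le_sup_left).le) hr)

theorem Data.exists_inverted (D : Data H U) {u : H} (hu : orderOf u = 2) :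
    ∃ y : H, y ≠ 1 ∧ Odd (orderOf y) ∧ u * y * u⁻¹ = y⁻¹ := by
  haveI : Fact (Nat.Prime 2) := ⟨Nat.prime_two⟩
  by_contra hcon
  push_neg at hcon
  have huu : u * u = 1 := by have := pow_orderOf_eq_one u; rwa [hu, pow_two] at this
  have hpair : ∀ g : H, IsPGroup 2 ↥(closure ({u, g * u * g⁻¹} : Set H)) := by
    intro g
    set w := g * u * g⁻¹ with hw
    have hww : w * w = 1 := by
      rw [hw, show g * u * g⁻¹ * (g * u * g⁻¹) = g * (u * u) * g⁻¹ by group, huu]; group
    obtain ⟨a, o, ho, hao⟩ := Nat.exists_eq_two_pow_mul_odd (orderOf_pos (u * w)).ne'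
    refine isPGroup_two_pair huu hww (j := a) ?_
    by_contra hne
    refine hcon _ hne ?_ (conj_pow_pow ?_ _)
    · exact ho.of_dvd_nat (orderOf_dvd_of_pow_eq_one (by rw [← pow_mul, ← hao, pow_orderOf_eq_one]))
    · rw [← mul_assoc, huu, one_mul, mul_inv_rev, inv_eq_of_mul_eq_one_right hww]
  have h := D.normal_two_eq_bot normalClosure_normal (Involution.baer_suzuki_element u hpair)
  have h1 : u = 1 := by rw [← mem_bot, ← h]; exact subset_normalClosure rfl
  rw [h1, orderOf_one] at hu
  omega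

theorem Data.card_fix_involution (D : Data H U) {u : H} (hu : orderOf u = 2) :
    Nat.card U = Nat.card ↥(fix U ({u} : Set H)) * Nat.card ↥(fix U ({u} : Set H)) := by
  obtain ⟨y, hy, hodd, hinv⟩ := D.exists_inverted hu
  have huu : u * u = 1 := by have := pow_orderOf_eq_one u; rwa [hu, pow_two] at this
  have hui : u⁻¹ = u := inv_eq_of_mul_eq_one_right huu
  rw [hui] at hinv
  let ψ : U →* U :=
    { toFun := fun x => x * u • x
      map_one' := by simp
      map_mul' := fun a b => by rw [smul_mul', mul_mul_mul_comm] }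
  let α : U →* U :=
    { toFun := fun x => y • x * y⁻¹ • x
      map_one' := by simp
      map_mul' := fun a b => by rw [smul_mul', smul_mul', mul_mul_mul_comm] }
  have hαinj : Function.Injective α := by
    rw [← MonoidHom.ker_eq_bot_iff, eq_bot_iff]
    intro x hx
    have h1 : y • x = y⁻¹ • x := D.eq_one_iff.1 hx
    have h2 : (y * y) • x = x := by rw [mul_smul, h1, smul_inv_smul]
    have hyy : y * y ≠ 1 := fun e => hy (eq_one_of_sq hodd e)
    refine D.fpf (t := u) hyy (hodd.of_dvd_nat (orderOf_dvd_of_pow_eq_one ?_)) ?_ h2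
    · rw [← pow_two, ← pow_mul, mul_comm 2, pow_mul, pow_orderOf_eq_one, one_pow]
    · rw [hui, ← pow_two]
      have := conj_pow_pow (t := u) (y := y) (by rw [hui]; exact hinv) 2
      rwa [hui] at this
  have hαsurj : Function.Surjective α := Finite.injective_iff_surjective.1 hαinj
  have huα : ∀ x, u • α x = α (u • x) := by
    intro x
    show u • (y • x * y⁻¹ • x) = y • u • x * y⁻¹ • u • x
    have h1 : u * y = y⁻¹ * u := by rw [← hinv, mul_assoc, mul_assoc, huu, mul_one]
    have h2 : u * y⁻¹ = y * u := by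
      rw [← hinv, show u * (u * y * u) = (u * u) * y * u by group, huu, one_mul]
    rw [smul_mul', ← mul_smul, ← mul_smul, h1, h2, mul_smul, mul_smul, mul_comm]
  have hrange : ψ.range = fix U ({u} : Set H) := by
    refine le_antisymm ?_ ?_
    · rintro _ ⟨x, rfl⟩
      rw [mem_fix_singleton]
      show u • (x * u • x) = x * u • x
      rw [smul_mul', ← mul_smul, huu, one_smul, mul_comm]
    · intro w hw
      rw [mem_fix_singleton] at hw
      obtain ⟨x, rfl⟩ := hαsurj w
      have hx : u • x = x := hαinj ((huα x).symm.trans hw)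
      refine ⟨y • x, ?_⟩
      show y • x * u • y • x = y • x * y⁻¹ • x
      congr 1
      have h1 : u * y = y⁻¹ * u := by rw [← hinv, mul_assoc, mul_assoc, huu, mul_one]
      rw [← mul_smul, h1, mul_smul, hx]
  have hker : ψ.ker = fix U ({u} : Set H) := by
    ext x
    rw [MonoidHom.mem_ker, mem_fix_singleton]
    show x * u • x = 1 ↔ _
    rw [D.eq_one_iff, eq_comm]
  have hcard := ψ.ker.card_mul_index
  rw [index_ker, hker, hrange] at hcard
  exact hcard.symm

end Cfsg.Agent.RealClassGraph
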