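import Cfsg.Agent.Lib.RealClassGraph.Points
import Cfsg.Agent.S0215

/-!
# Each involution of `N` in only one point is impossible (owner: helper55)

A class of involutions meets each point in `m` elements. If `m = 1` the `Z*`-theorem makes `N`
solvable. If `m > 1`, two involutions outside a point `S` move it equally, their product normalises `S`,
so it is a 2-element of `S` and one of its powers forces both into `S`.
-/

set_option autoImplicit false

namespace Cfsg.Agent.RealClassGraph

open Subgroup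
open scoped Pointwise

universe u

variable {H U : Type u} [Group H] [Finite H] [CommGroup U] [Finite U] [MulDistribMulAction H U]
  [FaithfulSMul H U] {N : Subgroup H}

theorem isSolvable_normalizer [N.Normal] (S : Pts N) :
    Group.IsSolvable ↥(normalizer (S.1 : Set H) ⊓ N) := by
  haveI : Fact (Nat.Prime 2) := ⟨Nat.prime_two⟩
  set M := normalizer (S.1 : Set H) ⊓ N with hM
  have hSM : S.1 ≤ M := le_inf Subgroup.le_normalizer (pts_le S)
  let P : Sylow 2 ↥M :=
    { toSubgroup := S.1.subgroupOf M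
      isPGroup' := (pts_pgroup S).comap_of_injective _ M.subtype_injective
      is_maximal' := fun {Q} hQ hle => by
        have h1 : S.1 ≤ Q.map M.subtype := fun s hs => ⟨⟨s, hSM hs⟩, hle (show _ ∈ S.1.subgroupOf M from hs), rfl⟩
        have h2 : Q.map M.subtype = S.1 :=
          pts_max h1 ((map_subtype_le Q).trans inf_le_right) (hQ.map _)
        refine le_antisymm (fun q hq => ?_) hle
        show (q : H) ∈ S.1
        rw [← h2]
        exact mem_map_of_mem _ hq }
  exact isSolvable_of_two_closed P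
    ((normal_subgroupOf_iff_le_normalizer hSM).2 inf_le_left)

set_option maxHeartbeats 1000000 in
theorem Data.false_of_unique (D : Data H U) [hN : N.Normal] (R : Residual N)
    (huniq : ∀ (u : H) (S T : Pts N), orderOf u = 2 → u ∈ S.1 → u ∈ T.1 → S = T) : False := by
  classical
  haveI : Fact (Nat.Prime 2) := ⟨Nat.prime_two⟩
  haveI := R.pts_nontrivial
  obtain ⟨S₀⟩ : Nonempty (Pts N) := inferInstance
  obtain ⟨u, huS, hu⟩ := R.exists_involution S₀
  let fib : Pts N → ℕ := fun T => Nat.card {t : H // IsConj u t ∧ t ∈ T.1}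
  have hfib : ∀ T, fib T = fib S₀ := by
    intro T
    obtain ⟨g, rfl⟩ := MulAction.exists_smul_eq H S₀ T
    refine Nat.card_congr (Equiv.subtypeEquiv (MulAut.conj g).toEquiv fun t => ?_).symm
    show IsConj u t ∧ t ∈ S₀.1 ↔ IsConj u (MulAut.conj g t) ∧ MulAut.conj g t ∈ (g • S₀).1
    rw [pts_smul_val, mem_conj_smul, MulAut.conj_apply, show g⁻¹ * (g * t * g⁻¹) * g = t by group]
    exact and_congr_left fun _ => ⟨fun h => h.trans (isConj_iff.2 ⟨g, rfl⟩),
      fun h => h.trans (isConj_iff.2 ⟨g⁻¹, by group⟩)⟩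
  have hord : ∀ t : H, IsConj u t → orderOf t = 2 := by
    intro t ht
    obtain ⟨g, rfl⟩ := isConj_iff.1 ht
    rw [← MulAut.conj_apply, MulEquiv.orderOf_eq, hu]
  have hmemN : ∀ t : H, IsConj u t → t ∈ N := by
    intro t ht
    obtain ⟨g, rfl⟩ := isConj_iff.1 ht
    exact hN.conj_mem u (pts_le S₀ huS) g
  by_cases hm : fib S₀ ≤ 1
  · -- isolated: Z*
    have hiso : ∀ t : H, IsConj u t → t ∈ S₀.1 → t = u := by
      intro t ht htS
      haveI : Subsingleton {t : H // IsConj u t ∧ t ∈ S₀.1} := Finite.card_le_one_iff_subsingleton.1 hm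
      exact congrArg Subtype.val (Subsingleton.elim (⟨t, ht, htS⟩ : {t : H // IsConj u t ∧ t ∈ S₀.1})
        ⟨u, IsConj.refl u, huS⟩)
    let P : Sylow 2 ↥N :=
      { toSubgroup := S₀.1.subgroupOf N
        isPGroup' := (pts_pgroup S₀).comap_of_injective _ N.subtype_injective
        is_maximal' := fun {Q} hQ hle => by
          have h1 : S₀.1 ≤ Q.map N.subtype := fun s hs =>
            ⟨⟨s, pts_le S₀ hs⟩, hle (show _ ∈ S₀.1.subgroupOf N from hs), rfl⟩
          have h2 : Q.map N.subtype = S₀.1 := pts_max h1 (map_subtype_le Q) (hQ.map _)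
          refine le_antisymm (fun q hq => ?_) hle
          show (q : H) ∈ S₀.1
          rw [← h2]
          exact mem_map_of_mem _ hq }
    let u' : ↥N := ⟨u, pts_le S₀ huS⟩
    obtain ⟨O, hO, hOodd, hcomm⟩ := S0215.result P u' (by rw [Subgroup.orderOf_mk, hu]) huS
      fun g hg => Subtype.ext (hiso _ (isConj_iff.2 ⟨(g : H), rfl⟩) hg)
    haveI := hO
    haveI : Group.IsSolvable ↥O := OddOrderTheorem.solvable hOodd
    set M := normalizer (S₀.1 : Set H) ⊓ N
    haveI : Group.IsSolvable ↥M := isSolvable_normalizer S₀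
    let φ : ↥M →* ↥N ⧸ O := (QuotientGroup.mk' O).comp (Subgroup.inclusion (inf_le_right : M ≤ N))
    have hφ : Function.Surjective φ := by
      intro q
      obtain ⟨g, rfl⟩ := QuotientGroup.mk'_surjective O q
      have hu' : u' * u' = 1 := Subtype.ext (by
        show u * u = 1
        have := pow_orderOf_eq_one u; rwa [hu, pow_two] at this)
      obtain ⟨c, hc, hfc⟩ := exists_centralizing_lift (QuotientGroup.mk' O)
        (by rw [QuotientGroup.ker_mk']; exact hOodd) (g := g) hu' (by
          have h1 : QuotientGroup.mk' O (u' * g * u'⁻¹ * g⁻¹) = 1 :=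
            (QuotientGroup.eq_one_iff _).2 (hcomm g)
          rw [map_mul, map_mul, map_mul, map_inv, map_inv, mul_inv_eq_one, mul_inv_eq_iff_eq_mul] at h1
          exact h1.symm)
      have hcS : (c : H) • S₀ = S₀ := by
        refine huniq u _ _ hu ?_ huS
        rw [pts_smul_val, mem_conj_smul]
        have h2 : (c : H) * u = u * c := congrArg Subtype.val hc
        rw [mul_assoc, ← h2, inv_mul_cancel_left]
        exact huS
      exact ⟨⟨c, (pts_smul_eq_iff _ _).1 hcS, c.2⟩, hfc⟩
    haveI : Group.IsSolvable (↥N ⧸ O) := solvable_of_surjective hφ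
    exact R.nonsol (Group.isSolvable_of_ker_le_range O.subtype (QuotientGroup.mk' O)
      (by rw [QuotientGroup.ker_mk', Subgroup.range_subtype]))
  · -- two involutions moving `S₀` equally
    have hpt : ∀ t : H, IsConj u t → ∃ T : Pts N, t ∈ T.1 := fun t ht => by
      obtain ⟨T, hT⟩ := exists_pt_ge (zpowers_le.2 (hmemN t ht))
        (isPGroup_zpowers_two (k := 1) (by rw [hord t ht, pow_one]))
      exact ⟨T, hT (mem_zpowers t)⟩
    let A := {t : H // IsConj u t ∧ t ∉ S₀.1}
    let B := {T : Pts N // T ≠ S₀}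
    have hmove : ∀ t : A, t.1 • S₀ ≠ S₀ := fun t h => t.2.2 (mem_pt_of_normalizes (hmemN _ t.2.1) (k := 1)
      (by rw [hord _ t.2.1, pow_one]) ((pts_smul_eq_iff _ _).1 h))
    have hAB : Nat.card (Σ T : B, {t : H // IsConj u t ∧ t ∈ T.1.1}) = Nat.card A := by
      refine Nat.card_eq_of_bijective (fun q => ⟨q.2.1, q.2.2.1, fun h =>
        q.1.2 (huniq _ _ _ (hord _ q.2.2.1) q.2.2.2 h)⟩) ⟨?_, ?_⟩
      · rintro ⟨⟨T, hT⟩, ⟨t, ht⟩⟩ ⟨⟨T', hT'⟩, ⟨t', ht'⟩⟩ h
        have e : t = t' := congrArg (fun a : A => a.1) h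
        subst e
        obtain rfl := huniq t T T' (hord t ht.1) ht.2 ht'.2
        rfl
      · rintro ⟨t, ht, htS⟩
        obtain ⟨T, hT⟩ := hpt t ht
        exact ⟨⟨⟨T, fun e => htS (e ▸ hT)⟩, ⟨t, ht, hT⟩⟩, rfl⟩
    haveI := Fintype.ofFinite B
    rw [Nat.card_sigma, Finset.sum_congr rfl (fun (T : B) _ => (hfib T.1 :
      Nat.card {t : H // IsConj u t ∧ t ∈ T.1.1} = fib S₀)), Finset.sum_const, Finset.card_univ,
      smul_eq_mul, ← Nat.card_eq_fintype_card] at hAB
    obtain ⟨T₁, hT₁⟩ := exists_ne S₀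
    haveI : Nonempty B := ⟨⟨T₁, hT₁⟩⟩
    have hninj : ¬ Function.Injective (fun t : A => (⟨t.1 • S₀, hmove t⟩ : B)) := by
      intro hinj
      have h1 := Nat.card_le_card_of_injective _ hinj
      rw [← hAB] at h1
      have h2 : 0 < Nat.card B := Nat.card_pos
      have h3 : Nat.card B * 2 ≤ Nat.card B := le_trans (Nat.mul_le_mul_left _ (by omega)) h1
      omega
    rw [Function.not_injective_iff] at hninj
    obtain ⟨⟨t, ht, htS⟩, ⟨t', ht', ht'S⟩, heq, hne⟩ := hninj
    have heq' : t • S₀ = t' • S₀ := congrArg (fun T : B => T.1) heq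
    have htt : t * t = 1 := by have := pow_orderOf_eq_one t; rwa [hord t ht, pow_two] at this
    have htt' : t' * t' = 1 := by have := pow_orderOf_eq_one t'; rwa [hord t' ht', pow_two] at this
    set d := t * t' with hd
    have hdS : d • S₀ = S₀ := by rw [hd, mul_smul, ← heq', ← mul_smul, htt, one_smul]
    have hdN : d ∈ N := N.mul_mem (hmemN t ht) (hmemN t' ht')
    have hdinv : t * d * t⁻¹ = d⁻¹ := by
      rw [hd, ← mul_assoc, htt, one_mul, mul_inv_rev, inv_eq_of_mul_eq_one_right htt']
    have hd1 : d ≠ 1 := fun e => hne (Subtype.ext (by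
      rw [hd, mul_eq_one_iff_eq_inv, inv_eq_of_mul_eq_one_right htt'] at e
      exact e))
    obtain ⟨a, o, ho, hao⟩ := Nat.exists_eq_two_pow_mul_odd (orderOf_pos d).ne'
    have hy1 : d ^ 2 ^ a = 1 := by
      by_contra hy
      set y := d ^ 2 ^ a
      have hyo : Odd (orderOf y) := ho.of_dvd_nat (orderOf_dvd_of_pow_eq_one (by
        rw [← pow_mul, ← hao, pow_orderOf_eq_one]))
      obtain ⟨r, hr, hrd⟩ := Nat.exists_prime_and_dvd (fun e : orderOf y = 1 => hy (orderOf_eq_one_iff.1 e))
      set y' := y ^ (orderOf y / r)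
      have hy' : orderOf y' = r := orderOf_pow_orderOf_div (orderOf_pos y).ne' hrd
      refine D.real_moves R (y := y') (t := t) (fun e => hr.ne_one (by rw [← hy', e, orderOf_one]))
        (N.pow_mem (N.pow_mem hdN _) _) (hmemN t ht) (hy' ▸ hr.isPrimePow) (hy' ▸ hyo.of_dvd_nat hrd)
        (conj_pow_pow (conj_pow_pow hdinv _) _) S₀ ?_
      have : d ∈ MulAction.stabilizer H S₀ := hdS
      exact pow_mem (pow_mem this _) _
    obtain ⟨j, -, hj⟩ := (Nat.dvd_prime_pow Nat.prime_two).1 (orderOf_dvd_of_pow_eq_one hy1)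
    have hdmem : d ∈ S₀.1 := mem_pt_of_normalizes hdN hj ((pts_smul_eq_iff _ _).1 hdS)
    set i := d ^ (orderOf d / 2) with hi
    have hj1 : 2 ∣ orderOf d := by
      rw [hj]
      refine dvd_pow_self 2 fun e => hd1 ?_
      rw [e, pow_zero] at hj
      exact orderOf_eq_one_iff.1 hj
    have hio : orderOf i = 2 := orderOf_pow_orderOf_div (orderOf_pos d).ne' hj1
    have hti : t * i * t⁻¹ = i := by
      have hii : i * i = 1 := by have := pow_orderOf_eq_one i; rwa [hio, pow_two] at this
      rw [hi, conj_pow_pow hdinv, ← hi]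
      exact inv_eq_of_mul_eq_one_right hii
    have htn : zpowers i ≤ normalizer ((zpowers t : Subgroup H) : Set H) := by
      rw [zpowers_le]
      refine mem_normalizer_fintype fun w hw => ?_
      obtain ⟨l, rfl⟩ := mem_zpowers_iff.1 hw
      rw [← conj_zpow, mul_inv_eq_iff_eq_mul.1 hti |>.symm, mul_inv_cancel_right]
      exact zpow_mem (mem_zpowers t) l
    have h2 := (isPGroup_zpowers_two (k := 1) (by rw [hio, pow_one] : orderOf i = 2 ^ 1)).to_sup_of_normal_right'
      (isPGroup_zpowers_two (k := 1) (by rw [hord t ht, pow_one] : orderOf t = 2 ^ 1)) htn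
    obtain ⟨T, hT⟩ := exists_pt_ge (sup_le (zpowers_le.2 (N.pow_mem hdN _)) (zpowers_le.2 (hmemN t ht))) h2
    obtain rfl := huniq i S₀ T hio (S₀.1.pow_mem hdmem _) (hT (mem_sup_left (mem_zpowers i)))
    exact htS (hT (mem_sup_right (mem_zpowers t)))

end Cfsg.Agent.RealClassGraph
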