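import Cfsg.Agent.Lib.RealClassGraph.Primitive
import Cfsg.Agent.Lib.RealClassGraph.UniqueCase

/-!
# No group has the data (owner: helper55)

With `F = fix S₀`, the preimage of the `S₀`-fixed vectors of `U ⧸ F` meets the other points equally, by double
transitivity; counting makes it everything, so an involution of `S₀` fixes no more than `|F|` vectors.
-/

set_option autoImplicit false

namespace Cfsg.Agent.RealClassGraph

open Subgroup
open scoped Pointwise

universe u

theorem pow_exponent_eq {e p q c : ℕ} (he : 0 < e) (hep : e < p) (hq : 0 < q) (hqp : q ≤ p)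
    (h : (2 ^ q - 1) * (2 ^ e - 1) = (2 ^ p - 1) * (2 ^ c - 1)) : q = p := by
  by_contra hne
  have hlt : q < p := lt_of_le_of_ne hqp hne
  have h2 : ∀ i : ℕ, 0 < i → 2 ≤ 2 ^ i := fun i hi => Nat.le_self_pow hi.ne' 2
  have hc : 0 < c := by
    by_contra hc0
    obtain rfl : c = 0 := by omega
    simp only [pow_zero, Nat.sub_self, mul_zero, mul_eq_zero] at h
    have := h2 q hq
    have := h2 e he
    omega
  obtain ⟨A, hA⟩ : ∃ A, 2 ^ q = A + 1 := ⟨2 ^ q - 1, by have := h2 q hq; omega⟩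
  obtain ⟨B, hB⟩ : ∃ B, 2 ^ e = B + 1 := ⟨2 ^ e - 1, by have := h2 e he; omega⟩
  obtain ⟨A', hA'⟩ : ∃ A, 2 ^ p = A + 1 := ⟨2 ^ p - 1, by have := h2 p (by omega); omega⟩
  obtain ⟨B', hB'⟩ : ∃ B, 2 ^ c = B + 1 := ⟨2 ^ c - 1, by have := h2 c hc; omega⟩
  rw [hA, hB, hA', hB'] at h
  simp only [Nat.add_sub_cancel] at h
  have hsum : 2 ^ (q + e) + 2 ^ p + 2 ^ c = 2 ^ (p + c) + 2 ^ q + 2 ^ e := by
    rw [pow_add, pow_add, hA, hB, hA', hB']
    simp only [Nat.add_mul, Nat.mul_add, Nat.one_mul, Nat.mul_one, h]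
    omega
  have hce : c < e := by
    have hAA : A < A' := by
      have := Nat.pow_lt_pow_right (a := 2) one_lt_two hlt
      omega
    have hBB : B' < B := by
      by_contra hle
      have hB0 : 0 < B := by have := h2 e he; omega
      have : A * B < A' * B' :=
        lt_of_lt_of_le (Nat.mul_lt_mul_of_pos_right hAA hB0) (Nat.mul_le_mul_left _ (by omega))
      omega
    exact (Nat.pow_lt_pow_iff_right (by norm_num : 1 < 2)).1 (by omega)
  rcases lt_trichotomy q c with hqc | rfl | hqc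
  · have h1 : 2 ^ (q + 1) ∣ 2 ^ (q + e) + 2 ^ p + 2 ^ c :=
      dvd_add (dvd_add (pow_dvd_pow 2 (by omega)) (pow_dvd_pow 2 (by omega))) (pow_dvd_pow 2 (by omega))
    rw [hsum, Nat.dvd_add_iff_left (pow_dvd_pow 2 (by omega : q + 1 ≤ e)) |>.symm,
      Nat.dvd_add_iff_right (pow_dvd_pow 2 (by omega : q + 1 ≤ p + c)) |>.symm] at h1
    have := Nat.le_of_dvd (by positivity) h1
    have := Nat.pow_lt_pow_right (a := 2) one_lt_two (Nat.lt_succ_self q)
    omega
  · have h1 : 2 ^ (q + e) + 2 ^ p = 2 ^ (p + q) + 2 ^ e := by omega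
    have h3 : A * B = A' * B' := h
    obtain rfl : B' = A := by omega
    rw [mul_comm A' B'] at h3
    have hA0 : 0 < B' := by have := h2 q hq; omega
    have := Nat.eq_of_mul_eq_mul_left hA0 h3
    have h4 : 2 ^ e = 2 ^ p := by omega
    exact absurd (Nat.pow_right_injective le_rfl h4) hep.ne
  · have h1 : 2 ^ (c + 1) ∣ 2 ^ (p + c) + 2 ^ q + 2 ^ e :=
      dvd_add (dvd_add (pow_dvd_pow 2 (by omega)) (pow_dvd_pow 2 (by omega))) (pow_dvd_pow 2 (by omega))
    rw [← hsum, Nat.dvd_add_iff_right (dvd_add (pow_dvd_pow 2 (by omega : c + 1 ≤ q + e))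
      (pow_dvd_pow 2 (by omega : c + 1 ≤ p))) |>.symm] at h1
    have := Nat.le_of_dvd (by positivity) h1
    have := Nat.pow_lt_pow_right (a := 2) one_lt_two (Nat.lt_succ_self c)
    omega

variable {H U : Type u} [Group H] [Finite H] [CommGroup U] [Finite U] [MulDistribMulAction H U]
  [FaithfulSMul H U] {N : Subgroup H}

theorem Data.card_meet (D : Data H U) [N.Normal] (W : Subgroup U) (S₀ : Pts N) (c : ℕ)
    (hc : ∀ T : Pts N, T ≠ S₀ → Nat.card {x : ↥(fix U (T.1 : Set H) ⊓ W) // x ≠ 1} = c) :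
    Nat.card {x : ↥W // x ≠ 1} =
      Nat.card {x : ↥(fix U (S₀.1 : Set H) ⊓ W) // x ≠ 1} + (Nat.card (Pts N) - 1) * c := by
  classical
  haveI := Fintype.ofFinite (Pts N)
  have hsig : Nat.card (Σ S : Pts N, {x : ↥(fix U (S.1 : Set H) ⊓ W) // x ≠ 1}) =
      Nat.card {x : ↥W // x ≠ 1} := by
    refine Nat.card_eq_of_bijective (fun q => ⟨⟨q.2.1.1, q.2.1.2.2⟩,
      fun e => q.2.2 (Subtype.ext (congrArg (fun w : ↥W => (w : U)) e))⟩) ⟨?_, ?_⟩
    · rintro ⟨S, ⟨x, hx⟩, hx1⟩ ⟨T, ⟨y, hy⟩, hy1⟩ heq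
      have hxy : x = y := congrArg (fun w : {x : ↥W // x ≠ 1} => ((w : ↥W) : U)) heq
      subst hxy
      obtain rfl := D.pt_unique (fun e => hx1 (Subtype.ext e)) hx.1 hy.1
      rfl
    · rintro ⟨⟨x, hxW⟩, hx1⟩
      have hx : x ≠ 1 := fun e => hx1 (Subtype.ext e)
      obtain ⟨S, hS, -⟩ := D.pt_of (N := N) hx
      exact ⟨⟨S, ⟨x, hS, hxW⟩, fun e => hx (congrArg Subtype.val e)⟩, rfl⟩
  rw [← hsig, Nat.card_sigma, ← Finset.add_sum_erase _ _ (Finset.mem_univ S₀),
    Finset.sum_congr rfl (fun T hT => hc T (Finset.ne_of_mem_erase hT)), Finset.sum_const,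
    Finset.card_erase_of_mem (Finset.mem_univ S₀), Finset.card_univ, smul_eq_mul, ← Nat.card_eq_fintype_card]

theorem Data.false (D : Data H U) (hns : ¬ Group.IsSolvable H) : False := by
  classical
  haveI : Fact (Nat.Prime 2) := ⟨Nat.prime_two⟩
  obtain ⟨N, R⟩ := exists_residual hns
  haveI := R.normal
  haveI := R.pts_nontrivial
  by_cases huniq : ∀ (u : H) (S T : Pts N), orderOf u = 2 → u ∈ S.1 → u ∈ T.1 → S = T
  · exact D.false_of_unique R huniq
  push_neg at huniq
  obtain ⟨u, S₀, T₀, hu, huS, huT, hST⟩ := huniq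
  obtain ⟨h, k, E⟩ := D.exists_doubled hu huS huT hST
  obtain ⟨hm, hh⟩ := E.fixCount_pos D
  set F := fix U (S₀.1 : Set H) with hF
  obtain ⟨e, he⟩ := (D.pgroup.to_subgroup F).exists_card_eq
  have hfc : fixCount U S₀ = 2 ^ e - 1 := by rw [fixCount_def, he]
  have he0 : 0 < e := by
    by_contra he0
    obtain rfl : e = 0 := by omega
    rw [hfc] at hm
    norm_num at hm
  have heh : e < h := by
    by_contra hle
    have h1 := E.fix_pts
    rw [hfc] at h1
    have h2 := Nat.pow_le_pow_right two_pos (not_lt.1 hle : h ≤ e)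
    have h3 := Nat.le_self_pow he0.ne' 2
    have h4 : 2 * (2 ^ e - 1) ≤ k * (2 ^ e - 1) := Nat.mul_le_mul_right _ E.two_le
    omega
  have hS_F : ∀ s ∈ S₀.1, ∀ x ∈ F, s • x = x := fun s hs x hx => hx s hs
  -- the preimage of the fixed vectors of `U ⧸ F`
  let U₁ : Subgroup U :=
    { carrier := {w | ∀ s ∈ S₀.1, s • w * w ∈ F}
      one_mem' := fun s _ => by rw [smul_one, one_mul]; exact F.one_mem
      mul_mem' := fun {a b} ha hb s hs => by
        rw [smul_mul', mul_mul_mul_comm]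
        exact F.mul_mem (ha s hs) (hb s hs)
      inv_mem' := fun {a} ha s hs => by
        rw [smul_inv', ← mul_inv]
        exact F.inv_mem (ha s hs) }
  have hFU : F ≤ U₁ := fun x hx s hs => by rw [hS_F s hs x hx, D.two]; exact F.one_mem
  have hbig : ∃ w ∈ U₁, w ∉ F := by
    have hφ : ∀ s : ↥S₀.1, F ≤ F.comap (MulDistribMulAction.toMonoidHom U (s : H)) := fun s x hx => by
      show (s : H) • x ∈ F
      rw [hS_F s s.2 x hx]; exact hx
    letI : MulAction ↥S₀.1 (U ⧸ F) :=
      { smul := fun s q => QuotientGroup.map F F (MulDistribMulAction.toMonoidHom U (s : H)) (hφ s) q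
        one_smul := fun q => by
          induction q using QuotientGroup.induction_on with
          | H x => exact congrArg QuotientGroup.mk (one_smul H x)
        mul_smul := fun a b q => by
          induction q using QuotientGroup.induction_on with
          | H x => exact congrArg QuotientGroup.mk (mul_smul (a : H) (b : H) x) }
    have hcard : Nat.card (U ⧸ F) = 2 ^ (2 * h - e) := by
      refine Nat.eq_of_mul_eq_mul_right (pow_pos two_pos e : 0 < 2 ^ e) ?_
      rw [← he, ← F.card_eq_card_quotient_mul_card_subgroup, E.card, he, ← pow_add]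
      congr 1; omega
    obtain ⟨q, hq, hq1⟩ := (pts_pgroup S₀).exists_fixed_point_of_prime_dvd_card_of_fixed_point (U ⧸ F)
      (hcard ▸ dvd_pow_self 2 (by omega)) (a := (1 : U ⧸ F)) (fun s =>
        map_one (QuotientGroup.map F F (MulDistribMulAction.toMonoidHom U (s : H)) (hφ s)))
    obtain ⟨w, rfl⟩ := QuotientGroup.mk_surjective q
    refine ⟨w, fun s hs => ?_, fun hw => hq1 ((QuotientGroup.eq_one_iff w).2 hw).symm⟩
    have h1 : (s • w : U)⁻¹ * w ∈ F := QuotientGroup.eq.1 (hq ⟨s, hs⟩)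
    rwa [inv_eq_of_mul_eq_one_right (D.two (s • w))] at h1
  obtain ⟨f, hf⟩ := (D.pgroup.to_subgroup U₁).exists_card_eq
  have hef : e < f := by
    obtain ⟨w, hw, hwF⟩ := hbig
    have hlt : Nat.card ↥F < Nat.card ↥U₁ := by
      refine lt_of_le_of_ne (card_le_of_le hFU) fun heq => hwF ?_
      rw [eq_of_le_of_card_ge hFU heq.ge]
      exact hw
    rw [he, hf] at hlt
    exact (Nat.pow_lt_pow_iff_right (by norm_num : 1 < 2)).1 hlt
  -- it meets the other points equally
  have hmove : ∀ c ∈ MulAction.stabilizer H S₀, ∀ w ∈ U₁, c • w ∈ U₁ := by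
    intro c hc w hw s hs
    have hs' : c⁻¹ * s * c ∈ S₀.1 := by
      rw [← mem_conj_smul, ← pts_smul_val, MulAction.mem_stabilizer_iff.1 hc]; exact hs
    have h1 : s • c • w * c • w = c • ((c⁻¹ * s * c) • w * w) := by
      rw [smul_mul', ← mul_smul, ← mul_smul, mul_assoc c⁻¹, mul_inv_cancel_left]
    rw [h1, hF, show S₀.1 = (c • S₀).1 from congrArg Subtype.val (MulAction.mem_stabilizer_iff.1 hc).symm]
    exact smul_mem_fix_pt c (hw _ hs')
  obtain ⟨T₁, hT₁⟩ := exists_ne S₀
  have hconst : ∀ T : Pts N, T ≠ S₀ → Nat.card {x : ↥(fix U (T.1 : Set H) ⊓ U₁) // x ≠ 1} =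
      Nat.card {x : ↥(fix U (T₁.1 : Set H) ⊓ U₁) // x ≠ 1} := by
    intro T hT
    obtain ⟨c, hc, hcT⟩ := D.two_transitive R E S₀ T T₁ hT hT₁
    subst hcT
    refine Nat.card_congr
      { toFun := fun x => ⟨⟨c • x.1.1, smul_mem_fix_pt c x.1.2.1, hmove c hc _ x.1.2.2⟩,
          fun e1 => x.2 (Subtype.ext (MulAction.injective c ((congrArg Subtype.val e1).trans (smul_one c).symm)))⟩
        invFun := fun x => ⟨⟨c⁻¹ • x.1.1, by
            have := smul_mem_fix_pt c⁻¹ x.1.2.1
            rwa [inv_smul_smul] at this, hmove c⁻¹ (inv_mem hc) _ x.1.2.2⟩,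
          fun e1 => x.2 (Subtype.ext (MulAction.injective c⁻¹ ((congrArg Subtype.val e1).trans (smul_one c⁻¹).symm)))⟩
        left_inv := fun x => Subtype.ext (Subtype.ext (inv_smul_smul c x.1.1))
        right_inv := fun x => Subtype.ext (Subtype.ext (smul_inv_smul c x.1.1)) }
  obtain ⟨c, hc⟩ := (D.pgroup.to_subgroup (fix U (T₁.1 : Set H) ⊓ U₁)).exists_card_eq
  have hmeet := D.card_meet U₁ S₀ _ hconst
  rw [inf_eq_left.2 hFU, card_ne_one, card_ne_one, card_ne_one, hf, he, hc] at hmeet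
  have hn := E.pts
  rw [hfc] at hn
  have hf2 : f ≤ 2 * h := by
    have := card_le_card_group U₁
    rw [hf, E.card] at this
    exact (Nat.pow_le_pow_iff_right (by norm_num : 1 < 2)).1 this
  have htop : f = 2 * h := by
    have h1 : f - e = 2 * h - e := by
      refine pow_exponent_eq he0 (by omega) (by omega) (by omega) (c := c) ?_
      apply Nat.eq_of_mul_eq_mul_left (pow_pos two_pos e : 0 < 2 ^ e)
      have key : ∀ i, 2 ^ e * (2 ^ i - 1) = 2 ^ (e + i) - 2 ^ e := fun i => by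
        rw [Nat.mul_sub, mul_one, ← pow_add]
      rw [← mul_assoc, ← mul_assoc, key, key, Nat.add_sub_cancel' hef.le, Nat.add_sub_cancel' (by omega : e ≤ 2 * h)]
      have h2 : 2 ^ f - 2 ^ e = (Nat.card (Pts N) - 1) * (2 ^ c - 1) := by
        have := Nat.pow_le_pow_right two_pos hef.le
        have := Nat.one_le_two_pow (n := e)
        omega
      have h3 : (Nat.card (Pts N) - 1) * (2 ^ e - 1) = 2 ^ (2 * h) - 2 ^ e := by
        rw [Nat.sub_mul, hn, one_mul]
        have := Nat.one_le_two_pow (n := e)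
        omega
      rw [h2, ← h3]
      ac_rfl
    omega
  have hU₁ : U₁ = ⊤ := eq_top_of_card_eq _ (by rw [hf, E.card, htop])
  -- so `u` fixes at most `|F|` vectors
  have huu : u * u = 1 := by have := pow_orderOf_eq_one u; rwa [hu, pow_two] at this
  let ψ : U →* U :=
    { toFun := fun x => x * u • x
      map_one' := by simp
      map_mul' := fun a b => by rw [smul_mul', mul_mul_mul_comm] }
  have hker : ψ.ker = fix U ({u} : Set H) := by
    ext x
    rw [MonoidHom.mem_ker, mem_fix_singleton]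
    show x * u • x = 1 ↔ _
    rw [D.eq_one_iff, eq_comm]
  have hrange : ψ.range ≤ F := by
    rintro _ ⟨x, rfl⟩
    show x * u • x ∈ F
    rw [mul_comm]
    exact (hU₁ ▸ mem_top x : x ∈ U₁) u huS
  have h1 := ψ.ker.card_mul_index
  rw [index_ker, hker, E.fix_card, E.card] at h1
  have h2 := card_le_of_le hrange
  rw [he] at h2
  have h3 : 2 ^ (2 * h) ≤ 2 ^ (h + e) := by
    rw [← h1, pow_add]; exact Nat.mul_le_mul_left _ h2
  have := (Nat.pow_le_pow_iff_right (by norm_num : 1 < 2)).1 h3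
  omega

end Cfsg.Agent.RealClassGraph
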