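import Cfsg.Agent.Lib.RealClassGraph.Setup
import Cfsg.Agent.Lib.Cores.Basic
import Cfsg.Agent.Lib.Cores.Subnormal
import Cfsg.Agent.Lib.Involution.BaerSuzuki

/-!
# From a disconnected real class graph to `Setup` (owner: helper55)

`solvable_or_setup` : with `2 ∈ π₁` and a real element `z` of class size divisible by some prime of
`π₂`, either `G` is solvable or `z` modulo the odd core gives a `Setup`.
-/

set_option autoImplicit false

namespace Cfsg.Agent.RealClassGraph

open Subgroup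
open scoped Pointwise

universe u

/-- The hypotheses on real class sizes: they never mix the two classes of primes. -/
structure Split (G : Type u) [Group G] (π₁ π₂ : Set ℕ) : Prop where
  two_mem : 2 ∈ π₁
  cover : ∀ x t : G, t * x * t⁻¹ = x⁻¹ → ∀ q : ℕ, q.Prime →
    q ∣ (centralizer ({x} : Set G)).index → q ∈ π₁ ∨ q ∈ π₂
  noedge : ∀ x t : G, t * x * t⁻¹ = x⁻¹ → ∀ a ∈ π₁, ∀ b ∈ π₂,
    a ∣ (centralizer ({x} : Set G)).index → b ∣ (centralizer ({x} : Set G)).index → False

variable {G : Type u} [Group G] [Finite G] {π₁ π₂ : Set ℕ}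

theorem inv_of_sq {v : G} (hv : v * v = 1) : (1 : G) * v * (1 : G)⁻¹ = v⁻¹ := by
  rw [one_mul, inv_one, mul_one, inv_eq_of_mul_eq_one_right hv]

theorem Split.coprime (hS : Split G π₁ π₂) {z tz : G} (hz : tz * z * tz⁻¹ = z⁻¹) {q : ℕ} (hq : q ∈ π₂)
    (hqz : q ∣ (centralizer ({z} : Set G)).index) {x t : G} (hx : t * x * t⁻¹ = x⁻¹)
    (h2 : 2 ∣ (centralizer ({x} : Set G)).index) :
    (centralizer ({x} : Set G)).index.Coprime (centralizer ({z} : Set G)).index := by
  by_contra hc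
  obtain ⟨r, hr, hrx, hrz⟩ := Nat.Prime.not_coprime_iff_dvd.1 hc
  rcases hS.cover x t hx r hr hrx with h | h
  · exact hS.noedge z tz hz r h q hq hrz hqz
  · exact hS.noedge x t hx 2 hS.two_mem r h h2 hrx

theorem exists_real_mul {x t v : G} (hx : t * x * t⁻¹ = x⁻¹) (hxodd : Odd (orderOf x)) (hv : v * v = 1)
    (hxv : x * v = v * x) (htv : t * v = v * t) (hx1 : x ≠ 1) :
    (t * (v * x) * t⁻¹ = (v * x)⁻¹) ∧ (v * x) * (v * x) ≠ 1 ∧ (orderOf v).Coprime (orderOf x) := by
  have hvi : v⁻¹ = v := inv_eq_of_mul_eq_one_right hv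
  refine ⟨?_, fun e => hx1 ?_, ?_⟩
  · rw [mul_inv_rev, hvi, ← mul_assoc, htv, mul_assoc v, mul_assoc v, hx]
    exact (Commute.inv_right (show Commute v x from hxv.symm)).eq
  · rw [mul_assoc, ← mul_assoc x, hxv, mul_assoc v, ← mul_assoc v v, hv, one_mul] at e
    exact eq_one_of_sq hxodd e
  · have hd : orderOf v ∣ 2 := orderOf_dvd_of_pow_eq_one (by rw [pow_two, hv])
    exact (Nat.coprime_two_left.2 hxodd).coprime_dvd_left hd

set_option maxHeartbeats 1000000 in
theorem solvable_or_setup (hS : Split G π₁ π₂) {z tz : G} (hz : tz * z * tz⁻¹ = z⁻¹) {q : ℕ}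
    (hq : q ∈ π₂) (hqp : q.Prime) (hqz : q ∣ (centralizer ({z} : Set G)).index) :
    Group.IsSolvable G ∨ Setup (G ⧸ pPrimeCore 2 G) (QuotientGroup.mk' (pPrimeCore 2 G) z) := by
  haveI : Fact (Nat.Prime 2) := ⟨Nat.prime_two⟩
  set Cz := centralizer ({z} : Set G) with hCz
  have hodd : Odd Cz.index :=
    Nat.odd_iff.2 (Nat.two_dvd_ne_zero.1 fun h2 => hS.noedge z tz hz 2 hS.two_mem q hq h2 hqz)
  have hzz : z * z = 1 := by
    by_contra h
    exact Nat.two_dvd_ne_zero.2 (Nat.odd_iff.1 hodd) (two_dvd_index hz h)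
  have hz1 : z ≠ 1 := fun e => by
    have htop : Cz = ⊤ := eq_top_iff.2 fun g _ => by
      rw [hCz, mem_centralizer_iff', e, one_mul, mul_one]
    rw [htop, index_top] at hqz
    exact hqp.one_lt.ne' (Nat.dvd_one.1 hqz)
  have hzi : z⁻¹ = z := inv_eq_of_mul_eq_one_right hzz
  -- `C(z)` has no real element of odd order
  have hCzreal : ∀ y t : ↥Cz, y ≠ 1 → IsPrimePow (orderOf y) → Odd (orderOf y) →
      t * y * t⁻¹ = y⁻¹ → False := by
    intro y t hy _ hyodd hinv
    have hinv' : (t : G) * y * (t : G)⁻¹ = (y : G)⁻¹ := by exact_mod_cast congrArg Subtype.val hinv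
    have hy1 : (y : G) ≠ 1 := fun e => hy (Subtype.ext e)
    have hyodd' : Odd (orderOf (y : G)) := by rwa [Subgroup.orderOf_coe]
    obtain ⟨hinv2, hne, hco⟩ := exists_real_mul hinv' hyodd' hzz (mem_centralizer_iff'.1 y.2)
      (mem_centralizer_iff'.1 t.2) hy1
    exact hS.noedge _ _ hinv2 2 hS.two_mem q hq (two_dvd_index hinv2 hne)
      (hqz.trans (index_dvd_of_le (centralizer_mul_le (mem_centralizer_iff'.1 y.2).symm hco)))
  obtain ⟨Pz⟩ : Nonempty (Sylow 2 ↥Cz) := inferInstance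
  have hPz := two_closed_of_no_real hCzreal Pz
  haveI hsolCz : Group.IsSolvable ↥Cz := isSolvable_of_two_closed Pz hPz
  set O := pPrimeCore 2 G with hO
  haveI : O.Normal := Cores.pPrimeCore_normal 2 G
  set f := QuotientGroup.mk' O with hf
  have hfs : Function.Surjective f := QuotientGroup.mk'_surjective O
  have hker : Odd (Nat.card f.ker) := by
    rw [hf, QuotientGroup.ker_mk']
    exact Nat.coprime_two_right.1 (Cores.coprime_card_pPrimeCore 2)
  have hCimg : ∀ v : G, v * v = 1 →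
      centralizer ({f v} : Set (G ⧸ O)) = (centralizer ({v} : Set G)).map f := by
    intro v hv
    refine le_antisymm (fun g hg => ?_) ?_
    · obtain ⟨g, rfl⟩ := hfs g
      obtain ⟨c, hc, hfc⟩ := exists_centralizing_lift f hker hv (mem_centralizer_iff'.1 hg)
      exact ⟨c, mem_centralizer_iff'.2 hc, hfc⟩
    · rintro _ ⟨c, hc, rfl⟩
      rw [mem_centralizer_iff', ← map_mul, ← map_mul, mem_centralizer_iff'.1 hc]
  -- factorisations
  have hfac : ∀ x t : G, t * x * t⁻¹ = x⁻¹ → 2 ∣ (centralizer ({x} : Set G)).index →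
      ∀ g : G, ∃ c k : G, c * x = x * c ∧ k * z = z * k ∧ g = c * k := by
    intro x t hx h2 g
    obtain ⟨c, hc, k, hk, rfl⟩ := exists_mul_of_coprime _ _ (hS.coprime hz hq hqz hx h2) g
    exact ⟨c, k, mem_centralizer_iff'.1 hc, mem_centralizer_iff'.1 hk, rfl⟩
  have hO2 : z ∉ O := fun h => by
    have h1 := odd_of_mem_ker f hker (show f z = 1 from (QuotientGroup.eq_one_iff z).2 h)
    exact hz1 (eq_one_of_sq h1 hzz)
  by_cases htop : centralizer ({f z} : Set (G ⧸ O)) = ⊤
  · left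
    haveI : Group.IsSolvable ↥O := OddOrderTheorem.solvable (by
      rw [hf, QuotientGroup.ker_mk'] at hker; exact hker)
    have hsurj : Function.Surjective (f.comp Cz.subtype) := fun g => by
      obtain ⟨c, hc, rfl⟩ := (hCimg z hzz ▸ htop ▸ mem_top g : g ∈ Cz.map f)
      exact ⟨⟨c, hc⟩, rfl⟩
    haveI : Group.IsSolvable (G ⧸ O) := solvable_of_surjective hsurj
    exact Group.isSolvable_of_ker_le_range O.subtype f
      (by rw [hf, QuotientGroup.ker_mk', Subgroup.range_subtype])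
  right
  -- pairs of conjugates generate 2-groups modulo `O`
  have hpair : ∀ g : G ⧸ O, IsPGroup 2 ↥(closure ({f z, g * f z * g⁻¹} : Set (G ⧸ O))) := by
    intro g
    obtain ⟨g, rfl⟩ := hfs g
    rw [← map_inv, ← map_mul, ← map_mul]
    set w := g * z * g⁻¹ with hw
    have hww : w * w = 1 := by
      rw [hw, show g * z * g⁻¹ * (g * z * g⁻¹) = g * (z * z) * g⁻¹ by group, hzz]; group
    obtain ⟨a, o, ho, hao⟩ := Nat.exists_eq_two_pow_mul_odd (orderOf_pos (z * w)).ne'
    refine isPGroup_two_pair (j := a) (by rw [← map_mul, hzz, map_one])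
      (by rw [← map_mul, hww, map_one]) ?_
    rw [← map_mul, ← map_pow]
    set x := (z * w) ^ 2 ^ a with hx
    by_cases hx1 : x = 1
    · rw [hx1, map_one]
    have hxodd : Odd (orderOf x) := ho.of_dvd_nat (orderOf_dvd_of_pow_eq_one (by
      rw [hx, ← pow_mul, ← hao, pow_orderOf_eq_one]))
    have hzx : z * x * z⁻¹ = x⁻¹ := by
      refine conj_pow_pow ?_ _
      rw [← mul_assoc, hzz, one_mul, mul_inv_rev, inv_eq_of_mul_eq_one_right hww]
    have hall : ∀ h : G, h * z * h⁻¹ * x * (h * z * h⁻¹)⁻¹ = x⁻¹ := by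
      intro h
      obtain ⟨c, k, hc, hk, rfl⟩ := hfac x z hzx
        (two_dvd_index hzx fun e => hx1 (eq_one_of_sq hxodd e)) h
      have h1 : c * k * z * (c * k)⁻¹ = c * z * c⁻¹ := by
        rw [conj_mul_eq, hk, mul_inv_cancel_right]
      rw [h1, show c * z * c⁻¹ * x * (c * z * c⁻¹)⁻¹ = c * (z * (c⁻¹ * x * c) * z⁻¹) * c⁻¹ by group,
        show c⁻¹ * x * c = x by rw [mul_assoc, ← hc, inv_mul_cancel_left], hzx,
        show c * x⁻¹ * c⁻¹ = (c * x * c⁻¹)⁻¹ by group, hc, mul_inv_cancel_right]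
    set D := normalClosure ({z} : Set G) with hD
    have hzD : z ∈ D := subset_normalClosure rfl
    have hxD : x ∈ D := by
      refine pow_mem (mul_mem hzD ?_) _
      exact normalClosure_normal.conj_mem z hzD g
    have hDN : D ≤ normalizer ((zpowers x : Subgroup G) : Set G) := by
      rw [hD, normalClosure, closure_le]
      intro d hd
      obtain ⟨z', hz', hconj⟩ := Group.mem_conjugatesOfSet_iff.1 hd
      rw [Set.mem_singleton_iff] at hz'
      subst hz'
      obtain ⟨h, rfl⟩ := isConj_iff.1 hconj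
      refine mem_normalizer_fintype fun y hy => ?_
      obtain ⟨i, rfl⟩ := mem_zpowers_iff.1 hy
      rw [← conj_zpow, hall]
      exact zpow_mem (inv_mem (mem_zpowers x)) i
    have hle : zpowers x ≤ D := zpowers_le.2 hxD
    have hsub : (zpowers x).IsSubnormal :=
      Subgroup.IsSubnormal.step _ D hle normalClosure_normal.isSubnormal
        ((normal_subgroupOf_iff_le_normalizer hle).2 hDN)
    have hxO : zpowers x ≤ O := Cores.le_pPrimeCore_of_isSubnormal hsub
      (by rw [Nat.card_zpowers]; exact Nat.coprime_two_right.2 hxodd)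
    exact (QuotientGroup.eq_one_iff x).2 (hxO (mem_zpowers x))
  have hnc := Involution.baer_suzuki_element (p := 2) (f z) hpair
  have hzbar : orderOf (f z) = 2 := orderOf_eq_two (by rw [← map_mul, hzz, map_one])
    (fun e => hO2 ((QuotientGroup.eq_one_iff z).1 e))
  have hCodd : Odd (centralizer ({f z} : Set (G ⧸ O))).index := by
    rw [hCimg z hzz]
    exact hodd.of_dvd_nat (index_map_dvd _ hfs)
  refine ⟨hzbar, ?_, ?_, hCodd, htop, ?_, ?_⟩
  · intro g
    set Cb := centralizer ({f z} : Set (G ⧸ O))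
    obtain ⟨P⟩ : Nonempty (Sylow 2 ↥Cb) := inferInstance
    let P' : Sylow 2 (G ⧸ O) := (P.isPGroup'.map Cb.subtype).toSylow (by
      rw [index_map, Cb.ker_subtype, sup_bot_eq, Cb.range_subtype]
      exact Nat.prime_two.not_dvd_mul P.not_dvd_index (Nat.two_dvd_ne_zero.2 (Nat.odd_iff.1 hCodd)))
    have hNP : normalClosure ({f z} : Set (G ⧸ O)) ≤ (P' : Subgroup (G ⧸ O)) := by
      have hsup : IsPGroup 2 ↥((P' : Subgroup (G ⧸ O)) ⊔ normalClosure ({f z} : Set (G ⧸ O))) :=
        P'.isPGroup'.to_sup_of_normal_right hnc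
      exact le_sup_right.trans (P'.is_maximal' hsup le_sup_left).le
    have hP' : (P' : Subgroup (G ⧸ O)) = (P : Subgroup ↥Cb).map Cb.subtype := rfl
    have hmem : g * f z * g⁻¹ ∈ (P : Subgroup ↥Cb).map Cb.subtype := hP' ▸
      hNP ((normalClosure_normal (s := ({f z} : Set (G ⧸ O)))).conj_mem (f z) (subset_normalClosure rfl) g)
    exact mem_centralizer_iff'.1 (map_subtype_le _ hmem)
  · intro P
    refine two_closed_of_no_real (fun y t hy hpp hyodd hinv => ?_) P
    let φ : ↥Cz →* ↥(centralizer ({f z} : Set (G ⧸ O))) :=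
      (f.comp Cz.subtype).codRestrict _ fun c => by
        rw [hCimg z hzz]; exact mem_map_of_mem f c.2
    have hφ : Function.Surjective φ := by
      rintro ⟨g, hg⟩
      rw [hCimg z hzz] at hg
      obtain ⟨c, hc, rfl⟩ := hg
      exact ⟨⟨c, hc⟩, rfl⟩
    obtain ⟨y₀, t₀, -, h1, h2, h3, h4⟩ := exists_real_lift φ hφ hpp hyodd hinv
    exact hCzreal y₀ t₀ h1 h2 h3 h4
  · intro v y t _ hvv hy hpp hyodd hinv hyv htv g
    obtain ⟨v₀, hv₀, hfv₀⟩ : ∃ v₀ : G, v₀ * v₀ = 1 ∧ f v₀ = v := by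
      by_cases h1 : v = 1
      · exact ⟨1, one_mul 1, by rw [map_one, h1]⟩
      · obtain ⟨v₀, h2, h3⟩ := exists_involution_lift f hfs hker (orderOf_eq_two hvv h1)
        exact ⟨v₀, by have := pow_orderOf_eq_one v₀; rwa [h2, pow_two] at this, h3⟩
    subst hfv₀
    let φ : ↥(centralizer ({v₀} : Set G)) →* ↥(centralizer ({f v₀} : Set (G ⧸ O))) :=
      (f.comp (centralizer ({v₀} : Set G)).subtype).codRestrict _ fun c => by
        rw [hCimg v₀ hv₀]; exact mem_map_of_mem f c.2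
    have hφ : Function.Surjective φ := by
      rintro ⟨g, hg⟩
      rw [hCimg v₀ hv₀] at hg
      obtain ⟨c, hc, rfl⟩ := hg
      exact ⟨⟨c, hc⟩, rfl⟩
    obtain ⟨y₀, t₀, hy₀, h1, -, h3, h4⟩ := exists_real_lift φ hφ
      (y' := ⟨y, mem_centralizer_iff'.2 hyv⟩) (t' := ⟨t, mem_centralizer_iff'.2 htv⟩)
      (by rwa [Subgroup.orderOf_mk]) (by rwa [Subgroup.orderOf_mk]) (Subtype.ext hinv)
    have hy₀' : f (y₀ : G) = y := congrArg Subtype.val hy₀
    have h4' : (t₀ : G) * y₀ * (t₀ : G)⁻¹ = (y₀ : G)⁻¹ := by exact_mod_cast congrArg Subtype.val h4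
    have h3' : Odd (orderOf (y₀ : G)) := by rwa [Subgroup.orderOf_coe]
    obtain ⟨hx, hne, hco⟩ := exists_real_mul h4' h3' hv₀ (mem_centralizer_iff'.1 y₀.2)
      (mem_centralizer_iff'.1 t₀.2) (fun e => h1 (Subtype.ext e))
    obtain ⟨g₀, rfl⟩ := hfs g
    obtain ⟨c, k, hc, hk, rfl⟩ := hfac _ _ hx (two_dvd_index hx hne) g₀
    have hvy : v₀ * (y₀ : G) = (y₀ : G) * v₀ := (mem_centralizer_iff'.1 y₀.2).symm
    have hcv := mem_centralizer_iff'.1 (centralizer_mul_le hvy hco (mem_centralizer_iff'.2 hc))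
    have hc' : c ∈ centralizer ({(y₀ : G) * v₀} : Set G) := by
      rw [← hvy]; exact mem_centralizer_iff'.2 hc
    have hcy := mem_centralizer_iff'.1 (centralizer_mul_le hvy.symm hco.symm hc')
    refine ⟨f c, f k, ?_, ?_, ?_, map_mul f c k⟩
    · rw [← map_mul, ← map_mul, hcv]
    · rw [← hy₀', ← map_mul, ← map_mul, hcy]
    · rw [← map_mul, ← map_mul, hk]
  · intro v _ hvv
    obtain ⟨v₀, hv₀, hfv₀⟩ : ∃ v₀ : G, v₀ * v₀ = 1 ∧ f v₀ = v := by
      by_cases h1 : v = 1
      · exact ⟨1, one_mul 1, by rw [map_one, h1]⟩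
      · obtain ⟨v₀, h2, h3⟩ := exists_involution_lift f hfs hker (orderOf_eq_two hvv h1)
        exact ⟨v₀, by have := pow_orderOf_eq_one v₀; rwa [h2, pow_two] at this, h3⟩
    subst hfv₀
    rcases Nat.even_or_odd (centralizer ({v₀} : Set G)).index with he | ho
    · refine Or.inr fun g => ?_
      obtain ⟨g₀, rfl⟩ := hfs g
      obtain ⟨c, k, hc, hk, rfl⟩ := hfac v₀ 1 (inv_of_sq hv₀) (even_iff_two_dvd.1 he) g₀
      exact ⟨f c, f k, by rw [← map_mul, ← map_mul, hc], by rw [← map_mul, ← map_mul, hk], map_mul f c k⟩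
    · refine Or.inl ?_
      rw [hCimg v₀ hv₀]
      exact ho.of_dvd_nat (index_map_dvd _ hfs)

end Cfsg.Agent.RealClassGraph
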