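import Cfsg.Agent.Lib.RealClassGraph.DataBasic
import Cfsg.Agent.Lib.HallHigman.PrimeOrder
import Mathlib.RingTheory.LittleWedderburn

/-!
# Semiregular elements without invariant subgroups (owner: helper55)

If every non-trivial power of `g` fixes only `1 : U` and `orderOf g` divides no `2 ^ b - 1` with
`0 < b < d`, `|U| = 2 ^ d`, then `g` has no invariant subgroup besides `1` and `U`; its centraliser is
cyclic (finite commutant domain) and semiregular.
-/

set_option autoImplicit false

namespace Cfsg.Agent.RealClassGraph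

open Subgroup
open scoped Pointwise

universe u

variable {H U : Type u} [Group H] [Finite H] [CommGroup U] [Finite U] [MulDistribMulAction H U]

variable (U) in
/-- All non-trivial powers of `g` fix only `1`. -/
def Semireg (g : H) : Prop := ∀ i : ℕ, g ^ i ≠ 1 → ∀ x : U, g ^ i • x = x → x = 1

theorem semireg_of_prime {g : H} (hr : (orderOf g).Prime) (h : ∀ x : U, g • x = x → x = 1) :
    Semireg U g := by
  intro i hi x hx
  refine h x ?_
  have hco : i.Coprime (orderOf g) :=
    ((hr.coprime_iff_not_dvd).2 fun hd => hi (orderOf_dvd_iff_pow_eq_one.1 hd)).symm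
  obtain ⟨j, hj⟩ := exists_pow_eq_self_of_coprime hco
  have hmem : g ^ i ∈ MulAction.stabilizer H x := hx
  have := pow_mem hmem j
  rwa [hj] at this

theorem pow_smul_mem {g : H} {W : Subgroup U} (hW : ∀ w ∈ W, g • w ∈ W) (i : ℕ) :
    ∀ w ∈ W, g ^ i • w ∈ W := by
  induction i with
  | zero => intro w hw; rwa [pow_zero, one_smul]
  | succ i ih => intro w hw; rw [pow_succ, mul_smul]; exact ih _ (hW w hw)

theorem zpowers_smul_mem {g : H} {W : Subgroup U} (hW : ∀ w ∈ W, g • w ∈ W) :
    ∀ p ∈ zpowers g, ∀ w ∈ W, p • w ∈ W := by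
  intro p hp w hw
  obtain ⟨i, rfl⟩ := (isOfFinOrder_of_finite g).mem_powers_iff_mem_zpowers.2 hp
  exact pow_smul_mem hW i w hw

theorem orderOf_dvd_card_sub_one {g : H} (hg : Semireg U g) {W : Subgroup U}
    (hW : ∀ w ∈ W, g • w ∈ W) : orderOf g ∣ Nat.card ↥W - 1 := by
  classical
  have hinv := zpowers_smul_mem hW
  letI act : MulAction ↥(zpowers g) {x : ↥W // x ≠ 1} :=
    { smul := fun p x => ⟨⟨(p : H) • (x.1 : U), hinv p p.2 _ x.1.2⟩, fun e => x.2 (Subtype.ext (by
        have h1 : (p : H) • (x.1 : U) = 1 := congrArg Subtype.val e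
        rw [← inv_smul_smul (p : H) (x.1 : U), h1, smul_one]; rfl))⟩
      one_smul := fun x => Subtype.ext (Subtype.ext (one_smul H (x.1 : U)))
      mul_smul := fun p q x => Subtype.ext (Subtype.ext (mul_smul (p : H) (q : H) (x.1 : U))) }
  have hfree : ∀ b : {x : ↥W // x ≠ 1}, MulAction.stabilizer ↥(zpowers g) b = ⊥ := by
    intro b
    rw [eq_bot_iff]
    rintro ⟨p, hp⟩ hpb
    obtain ⟨i, rfl⟩ := (isOfFinOrder_of_finite g).mem_powers_iff_mem_zpowers.2 hp
    rw [mem_bot]
    by_contra hne
    exact b.2 (Subtype.ext (hg i (fun e => hne (Subtype.ext e)) _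
      (congrArg (fun w : {x : ↥W // x ≠ 1} => ((w.1 : ↥W) : U)) (MulAction.mem_stabilizer_iff.1 hpb))))
  have h1 := Nat.card_congr (MulAction.selfEquivOrbitsQuotientProd hfree)
  rw [Nat.card_prod, Nat.card_zpowers] at h1
  have h2 : Nat.card {x : ↥W // x ≠ 1} = Nat.card ↥W - 1 := by
    haveI := Fintype.ofFinite ↥W
    rw [Nat.card_eq_fintype_card, Nat.card_eq_fintype_card, Fintype.card_subtype_compl,
      Fintype.card_subtype_eq]
  rw [← h2, h1]
  exact dvd_mul_left _ _

/-- `g` leaves no subgroup other than `1` and `U` invariant. -/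
structure Irred (U : Type u) [CommGroup U] [MulDistribMulAction H U] (g : H) : Prop where
  inv_eq : ∀ W : Subgroup U, (∀ w ∈ W, g • w ∈ W) → W = ⊥ ∨ W = ⊤

variable [FaithfulSMul H U]

theorem Data.irred (D : Data H U) {g : H} {d : ℕ} (hd : Nat.card U = 2 ^ d) (hg : Semireg U g)
    (hn : ∀ b, 0 < b → b < d → ¬ orderOf g ∣ 2 ^ b - 1) : Irred U g := by
  haveI : Fact (Nat.Prime 2) := ⟨Nat.prime_two⟩
  refine ⟨fun W hW => ?_⟩
  obtain ⟨b, hb⟩ := (D.pgroup.to_subgroup W).exists_card_eq
  have h1 := orderOf_dvd_card_sub_one hg hW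
  rw [hb] at h1
  rcases Nat.eq_zero_or_pos b with rfl | hb0
  · exact Or.inl (card_eq_one.1 (by rw [hb, pow_zero]))
  · by_cases hbd : b < d
    · exact absurd h1 (hn b hb0 hbd)
    · refine Or.inr (eq_top_of_card_eq _ (le_antisymm (card_le_card_group W) ?_))
      rw [hd, hb]
      exact Nat.pow_le_pow_right two_pos (not_lt.1 hbd)

theorem Irred.eq_one_of_fix {g : H} (hI : Irred U g) {c : H} (hc : c * g = g * c) {x : U} (hx : x ≠ 1)
    (hcx : c • x = x) : c = 1 := by
  rcases hI.inv_eq (fix U ({c} : Set H)) (fun w hw => by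
      rw [mem_fix_singleton] at hw ⊢
      rw [← mul_smul, hc, mul_smul, hw]) with h | h
  · exact absurd (by rw [← mem_bot, ← h]; exact mem_fix_singleton.2 hcx) hx
  · refine eq_of_smul_eq_smul (α := U) fun w => ?_
    rw [one_smul]
    exact mem_fix_singleton.1 (h ▸ mem_top w)

variable (H U) in
/-- The action as additive endomorphisms. -/
def toEnd : H →* AddMonoid.End (Additive U) where
  toFun g :=
    { toFun := fun v => Additive.ofMul (g • v.toMul)
      map_zero' := congrArg Additive.ofMul (smul_one g)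
      map_add' := fun v w => congrArg Additive.ofMul (smul_mul' g v.toMul w.toMul) }
  map_one' := AddMonoidHom.ext fun v => congrArg Additive.ofMul (one_smul H v.toMul)
  map_mul' a b := AddMonoidHom.ext fun v => congrArg Additive.ofMul (mul_smul a b v.toMul)

omit [Finite H] [Finite U] in
theorem toEnd_injective : Function.Injective (toEnd H U) := by
  intro a b h
  refine eq_of_smul_eq_smul (α := U) fun x => ?_
  exact Additive.ofMul.injective (congrArg (fun φ : AddMonoid.End (Additive U) => φ (Additive.ofMul x)) h)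

theorem Irred.isCyclic {g : H} (hI : Irred U g) (hU : ∃ x : U, x ≠ 1) :
    IsCyclic ↥(centralizer ({g} : Set H)) := by
  classical
  set R := Subring.centralizer ({toEnd H U g} : Set (AddMonoid.End (Additive U))) with hR
  haveI : Finite (AddMonoid.End (Additive U)) :=
    Finite.of_injective (fun φ => (φ : Additive U → Additive U)) DFunLike.coe_injective
  haveI : Nontrivial ↥R := by
    obtain ⟨x, hx⟩ := hU
    refine ⟨⟨0, 1, fun e => hx ?_⟩⟩
    have := congrArg (fun φ : ↥R => (φ : AddMonoid.End (Additive U)) (Additive.ofMul x)) e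
    exact (Additive.ofMul.injective (this : (0 : Additive U) = Additive.ofMul x)).symm
  haveI : NoZeroDivisors ↥R := by
    refine ⟨fun {a b} hab => ?_⟩
    by_contra hne
    push_neg at hne
    have hinj : ∀ v, (a : AddMonoid.End (Additive U)) v = 0 → v = 0 := by
      intro v hv
      let W : Subgroup U :=
        { carrier := {w | (a : AddMonoid.End (Additive U)) (Additive.ofMul w) = 0}
          one_mem' := map_zero (a : AddMonoid.End (Additive U))
          mul_mem' := fun {p q} hp hq => by
            show (a : AddMonoid.End (Additive U)) (Additive.ofMul p + Additive.ofMul q) = 0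
            rw [map_add, hp, hq, add_zero]
          inv_mem' := fun {p} hp => by
            show (a : AddMonoid.End (Additive U)) (-Additive.ofMul p) = 0
            rw [map_neg, hp, neg_zero] }
      rcases hI.inv_eq W (fun w hw => by
          show (a : AddMonoid.End (Additive U)) (Additive.ofMul (g • w)) = 0
          have h1 := congrArg (fun φ : AddMonoid.End (Additive U) => φ (Additive.ofMul w))
            (Subring.mem_centralizer_iff.1 a.2 _ rfl)
          have h2 : toEnd H U g ((a : AddMonoid.End (Additive U)) (Additive.ofMul w)) =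
              (a : AddMonoid.End (Additive U)) (Additive.ofMul (g • w)) := h1
          rw [← h2, show (a : AddMonoid.End (Additive U)) (Additive.ofMul w) = 0 from hw, map_zero]) with h | h
      · have : Additive.toMul v ∈ W := hv
        rw [h, mem_bot] at this
        exact congrArg Additive.ofMul this
      · have hall : ∀ w, (a : AddMonoid.End (Additive U)) w = 0 := fun w => by
          have : Additive.toMul w ∈ W := h ▸ mem_top _
          exact this
        exact absurd (Subtype.ext (AddMonoidHom.ext hall)) hne.1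
    exact hne.2 (Subtype.ext (AddMonoidHom.ext fun w =>
      hinj _ (congrArg (fun φ : ↥R => (φ : AddMonoid.End (Additive U)) w) hab)))
  haveI : IsDomain ↥R := NoZeroDivisors.to_isDomain _
  letI : CommRing ↥R :=
    { (inferInstance : Ring ↥R) with mul_comm := (Finite.isDomain_to_isField ↥R).mul_comm }
  let f : ↥(centralizer ({g} : Set H)) →* ↥R :=
    { toFun := fun c => ⟨toEnd H U c, Subring.mem_centralizer_iff.2 fun φ hφ => by
        rw [Set.mem_singleton_iff] at hφ
        rw [hφ, ← map_mul, ← map_mul, mem_centralizer_singleton_iff.1 c.2]⟩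
      map_one' := Subtype.ext (map_one _)
      map_mul' := fun a b => Subtype.ext (map_mul _ _ _) }
  exact isCyclic_of_subgroup_isDomain f fun a b h =>
    Subtype.ext (toEnd_injective (congrArg Subtype.val h))

theorem Data.semireg_of_primitive (D : Data H U) {c : H} {r d : ℕ} (hr : r.Prime) (hc : orderOf c = r)
    (hd : Nat.card U = 2 ^ d) (hn : ∀ b, 0 < b → b < d → ¬ r ∣ 2 ^ b - 1) (hr2 : r ≠ 2) :
    Semireg U c ∧ Irred U c := by
  haveI : Fact r.Prime := ⟨hr⟩
  haveI : Fact (Nat.Prime 2) := ⟨Nat.prime_two⟩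
  have hs : Semireg U c := by
    refine semireg_of_prime (hc ▸ hr) fun x hx => ?_
    by_contra hx1
    obtain ⟨b, hb⟩ := (D.pgroup.to_subgroup (fix U ({c} : Set H))).exists_card_eq
    have hp : IsPGroup r ↥(zpowers c) := IsPGroup.of_card (n := 1) (by rw [Nat.card_zpowers, hc, pow_one])
    have h1 := hp.card_modEq_card_fixedPoints U
    have h2 : Nat.card (MulAction.fixedPoints ↥(zpowers c) U) = 2 ^ b := by
      rw [← hb]
      refine Nat.card_congr (Equiv.subtypeEquivRight fun w => ?_)
      rw [mem_fix_singleton, MulAction.mem_fixedPoints]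
      refine ⟨fun h => h ⟨c, mem_zpowers c⟩, fun h => ?_⟩
      rintro ⟨p, hp'⟩
      exact (zpowers_le.2 (MulAction.mem_stabilizer_iff.2 h) :
        zpowers c ≤ MulAction.stabilizer H w) hp'
    rw [hd, h2] at h1
    have hb0 : 0 < b := by
      by_contra hb0
      refine hx1 ?_
      have h3 : fix U ({c} : Set H) = ⊥ := card_eq_one.1 (by rw [hb, Nat.le_zero.1 (not_lt.1 hb0), pow_zero])
      rw [← mem_bot, ← h3]
      exact mem_fix_singleton.2 hx
    have hbd : b < d := by
      refine (Nat.pow_lt_pow_iff_right (by norm_num : 1 < 2)).1 ?_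
      rw [← hd, ← hb]
      refine lt_of_le_of_ne (card_le_card_group _) fun e => ?_
      have h3 := eq_top_of_card_eq _ e
      have : c = 1 := eq_of_smul_eq_smul (α := U) fun w => by
        rw [one_smul]; exact mem_fix_singleton.1 (h3 ▸ mem_top w)
      rw [this, orderOf_one] at hc
      exact hr.ne_one hc.symm
    have h3 := (Nat.modEq_iff_dvd' (Nat.pow_le_pow_right two_pos hbd.le)).1 h1.symm
    rw [show 2 ^ d - 2 ^ b = 2 ^ b * (2 ^ (d - b) - 1) by
      rw [Nat.mul_sub, ← pow_add, Nat.add_sub_cancel' hbd.le, mul_one]] at h3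
    rcases hr.dvd_mul.1 h3 with h4 | h4
    · exact hr2 ((Nat.prime_dvd_prime_iff_eq hr Nat.prime_two).1 (hr.dvd_of_dvd_pow h4))
    · exact hn (d - b) (by omega) (by omega) h4
  exact ⟨hs, D.irred hd hs (hc ▸ hn)⟩

/-- An element of odd prime order without fixed points centralises every odd group of coprime
prime-power order which it normalises. -/
theorem Data.commute_of_fpf (D : Data H U) {x : H} {r q : ℕ} (hr : r.Prime) (hx : orderOf x = r)
    (hr2 : r ≠ 2) (hfix : ∀ v : U, x • v = v → v = 1) [Fact q.Prime] (hqr : q ≠ r) (hq2 : q ≠ 2)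
    {P : Subgroup H} (hP : IsPGroup q ↥P) (hxP : x ∈ normalizer (P : Set H)) {b : H} (hb : b ∈ P) :
    x * b = b * x := by
  haveI : Fact r.Prime := ⟨hr⟩
  haveI : Fact (Nat.Prime 2) := ⟨Nat.prime_two⟩
  letI : Module (ZMod 2) (Additive U) := AddCommGroup.zmodModule fun v => by
    rw [two_nsmul]; exact congrArg Additive.ofMul (D.two v.toMul)
  haveI : Module.Finite (ZMod 2) (Additive U) := Module.Finite.of_finite
  let ρ : H →* Module.End (ZMod 2) (Additive U) :=
    { toFun := fun g => (toEnd H U g).toZModLinearMap 2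
      map_one' := LinearMap.ext fun v => congrArg (fun φ : AddMonoid.End (Additive U) => φ v) (map_one (toEnd H U))
      map_mul' := fun a b => LinearMap.ext fun v =>
        congrArg (fun φ : AddMonoid.End (Additive U) => φ v) (map_mul (toEnd H U) a b) }
  have hxr : x ^ r = 1 := hx ▸ pow_orderOf_eq_one x
  have hsum : ∑ i ∈ Finset.range r, ρ (x ^ i) = 0 := by
    refine LinearMap.ext fun w => ?_
    rw [LinearMap.sum_apply, LinearMap.zero_apply]
    have hfixed : ρ x (∑ i ∈ Finset.range r, ρ (x ^ i) w) = ∑ i ∈ Finset.range r, ρ (x ^ i) w := by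
      rw [map_sum]
      have hstep : ∀ i, ρ x (ρ (x ^ i) w) = ρ (x ^ (i + 1)) w := fun i => by
        rw [pow_succ', map_mul, Module.End.mul_apply]
      simp_rw [hstep]
      have h3 := Finset.sum_range_succ (fun i => ρ (x ^ i) w) r
      rw [Finset.sum_range_succ' (fun i => ρ (x ^ i) w) r, hxr, pow_zero, add_right_cancel_iff] at h3
      exact h3
    exact congrArg Additive.ofMul (hfix _ (congrArg Additive.toMul hfixed))
  have hcast : ∀ {l : ℕ}, l.Prime → l ≠ 2 → ((l : ℕ) : ZMod 2) ≠ 0 := fun hl hne h =>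
    hne ((Nat.prime_dvd_prime_iff_eq Nat.prime_two hl).mp ((CharP.cast_eq_zero_iff (ZMod 2) 2 _).mp h)).symm
  have hc := HallHigman.commute_of_sum_eq_zero (ℓ := 2) ρ P x hxP hxr (hcast hr hr2) hqr
    (hcast (Fact.out (p := q.Prime)) hq2) hq2 hP hsum hb
  refine eq_of_smul_eq_smul (α := U) fun v => ?_
  have := congrArg (fun φ : Module.End (ZMod 2) (Additive U) => φ (Additive.ofMul v))
    ((map_mul ρ x b).trans (hc.eq.trans (map_mul ρ b x).symm))
  exact congrArg Additive.toMul this

end Cfsg.Agent.RealClassGraph
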