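import Cfsg.Agent.Lib.RealClassGraph.Basic

/-!
# Traces over odd subgroups in an elementary abelian 2-group spanned by one orbit (owner: helper55)

* `trace` : the product of the images under a subgroup;
* `Orbit` : `ψ : G →* MulAut M`, `M` of exponent 2 spanned by the orbit of `z`, with odd stabiliser index;
* `Orbit.eq_of_fixed` : if all traces of orbit points over an odd subgroup agree, its fixed points are
  `1` and the orbit product `σ`.
-/

set_option autoImplicit false

namespace Cfsg.Agent.RealClassGraph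

open Subgroup

universe u

variable {G M : Type u} [Group G] [Finite G] [CommGroup M] (ψ : G →* MulAut M)

noncomputable def trace (A : Subgroup G) : M →* M :=
  haveI := Fintype.ofFinite ↥A
  { toFun := fun m => ∏ a : ↥A, ψ (a : G) m
    map_one' := by simp
    map_mul' := fun m n => by simp [Finset.prod_mul_distrib] }

theorem trace_apply (A : Subgroup G) [Fintype ↥A] (m : M) : trace ψ A m = ∏ a : ↥A, ψ (a : G) m := by
  unfold trace
  simp only [MonoidHom.coe_mk, OneHom.coe_mk]
  congr 1
  · congr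
    exact Subsingleton.elim _ _

theorem trace_normalizer (A : Subgroup G) {g : G} (hg : g ∈ normalizer (A : Set G)) (m : M) :
    ψ g (trace ψ A m) = trace ψ A (ψ g m) := by
  haveI := Fintype.ofFinite ↥A
  rw [trace_apply, trace_apply, map_prod]
  let e : ↥A ≃ ↥A :=
    { toFun := fun a => ⟨g * a * g⁻¹, (Subgroup.mem_normalizer_iff.1 hg a).1 a.2⟩
      invFun := fun a => ⟨g⁻¹ * a * g, (Subgroup.mem_normalizer_iff.1 hg _).2 (by simp [mul_assoc])⟩
      left_inv := fun a => Subtype.ext (by simp [mul_assoc])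
      right_inv := fun a => Subtype.ext (by simp [mul_assoc]) }
  refine Fintype.prod_equiv e _ _ fun a => ?_
  show ψ g (ψ (a : G) m) = ψ (g * (a : G) * g⁻¹) (ψ g m)
  rw [← MulAut.mul_apply, ← MulAut.mul_apply, ← map_mul, ← map_mul, inv_mul_cancel_right]

theorem trace_shift (A : Subgroup G) {b : G} (hb : b ∈ A) (m : M) :
    trace ψ A (ψ b m) = trace ψ A m := by
  haveI := Fintype.ofFinite ↥A
  rw [trace_apply, trace_apply]
  refine Fintype.prod_equiv (Equiv.mulRight ⟨b, hb⟩) _ _ fun a => ?_
  show ψ (a : G) (ψ b m) = ψ ((a : G) * b) m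
  rw [map_mul, MulAut.mul_apply]

theorem trace_fixed (A : Subgroup G) {m : M} (h : ∀ a ∈ A, ψ a m = m) :
    trace ψ A m = m ^ Nat.card ↥A := by
  haveI := Fintype.ofFinite ↥A
  rw [trace_apply, Finset.prod_congr rfl (fun (a : ↥A) _ => h (a : G) a.2), Finset.prod_const, Finset.card_univ,
    Nat.card_eq_fintype_card]

theorem fixed_trace (A : Subgroup G) {a : G} (ha : a ∈ A) (m : M) :
    ψ a (trace ψ A m) = trace ψ A m := by
  rw [trace_normalizer ψ A (le_normalizer ha), trace_shift ψ A ha]

/-- An elementary abelian 2-group spanned by the orbit of `z` under `G`, of odd length. -/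
structure Orbit (C : Subgroup G) (z : M) : Prop where
  two : ∀ m : M, m * m = 1
  stab : ∀ g : G, g ∈ C → ψ g z = z
  gen : closure (Set.range fun g : G => ψ g z) = ⊤
  odd : Odd C.index

variable {ψ}

theorem Orbit.pow_odd {C : Subgroup G} {z : M} (h : Orbit ψ C z) (m : M) {n : ℕ} (hn : Odd n) :
    m ^ n = m := by
  obtain ⟨j, rfl⟩ := hn
  rw [pow_succ, pow_mul, pow_two, h.two, one_pow, one_mul]

noncomputable def orbitPoint {C : Subgroup G} {z : M} (h : Orbit ψ C z) : G ⧸ C → M :=
  Quotient.lift (fun g => ψ g z) fun a b hab => by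
    replace hab : a⁻¹ * b ∈ C := QuotientGroup.leftRel_apply.1 hab
    rw [show b = a * (a⁻¹ * b) by group, map_mul, MulAut.mul_apply, h.stab _ hab]

theorem orbitPoint_mk {C : Subgroup G} {z : M} (h : Orbit ψ C z) (g : G) :
    orbitPoint h (g : G ⧸ C) = ψ g z := rfl

theorem orbitPoint_smul {C : Subgroup G} {z : M} (h : Orbit ψ C z) (g : G) (q : G ⧸ C) :
    orbitPoint h (g • q) = ψ g (orbitPoint h q) := by
  obtain ⟨a, rfl⟩ := QuotientGroup.mk_surjective q
  rw [MulAction.Quotient.smul_mk, orbitPoint_mk, orbitPoint_mk, smul_eq_mul, map_mul, MulAut.mul_apply]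

noncomputable def orbitProd {C : Subgroup G} {z : M} (h : Orbit ψ C z) : M :=
  letI := Fintype.ofFinite (G ⧸ C)
  ∏ q : G ⧸ C, orbitPoint h q

theorem orbitProd_fixed {C : Subgroup G} {z : M} (h : Orbit ψ C z) (g : G) :
    ψ g (orbitProd h) = orbitProd h := by
  letI := Fintype.ofFinite (G ⧸ C)
  unfold orbitProd
  rw [map_prod]
  exact Fintype.prod_equiv (MulAction.toPerm g) _ _ fun q => (orbitPoint_smul h g q).symm

theorem Orbit.eq_of_fixed {C : Subgroup G} {z : M} (h : Orbit ψ C z) (A : Subgroup G)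
    (hA : Odd (Nat.card ↥A)) (huni : ∀ g : G, trace ψ A (ψ g z) = trace ψ A z) {m : M}
    (hm : ∀ a ∈ A, ψ a m = m) : m = 1 ∨ m = orbitProd h := by
  have hrange : ∀ n : M, trace ψ A n ∈ zpowers (trace ψ A z) := by
    intro n
    have : (⊤ : Subgroup M) ≤ (zpowers (trace ψ A z)).comap (trace ψ A) := by
      rw [← h.gen, closure_le]
      rintro _ ⟨g, rfl⟩
      show trace ψ A (ψ g z) ∈ (zpowers (trace ψ A z) : Subgroup M)
      rw [huni]
      exact mem_zpowers _
    exact this (mem_top n)
  have hσ : orbitProd h = trace ψ A z := by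
    have h1 := trace_fixed ψ A (m := orbitProd h) (fun a _ => orbitProd_fixed h a)
    rw [h.pow_odd _ hA] at h1
    rw [← h1]
    letI := Fintype.ofFinite (G ⧸ C)
    unfold orbitProd
    rw [map_prod, Finset.prod_congr rfl (fun q _ => show trace ψ A (orbitPoint h q) = trace ψ A z by
      obtain ⟨g, rfl⟩ := QuotientGroup.mk_surjective q
      exact huni g), Finset.prod_const, Finset.card_univ, ← Nat.card_eq_fintype_card]
    exact h.pow_odd _ h.odd
  have h2 := trace_fixed ψ A hm
  rw [h.pow_odd _ hA] at h2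
  obtain ⟨i, hi⟩ := mem_zpowers_iff.1 (h2 ▸ hrange m)
  rw [← hσ] at hi
  rcases Int.even_or_odd' i with ⟨j, rfl | rfl⟩
  · left; rw [← hi, zpow_mul, zpow_two, h.two, one_zpow]
  · right; rw [← hi, zpow_add, zpow_mul, zpow_two, h.two, one_zpow, one_mul, zpow_one]

end Cfsg.Agent.RealClassGraph
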