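import Cfsg.Agent.Lib.RealClassGraph.Setup
import Cfsg.Agent.Lib.RealClassGraph.Trace

/-!
# From `Setup` to `Data` (owner: helper55)

`exists_data` : if a group with a `Setup` is not solvable then it maps onto a non-solvable group with a `Data`.

Every real element `y` of odd prime-power order has only the orbit product `σ` as non-trivial fixed
point on `V = ⟨z^G⟩`: the trace over `⟨y⟩` of a conjugate of `z` fixed by an inverter is fixed by `y`
and the inverter, so a subgroup centralising it and `y` is transitive on the conjugates.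
-/

set_option autoImplicit false

namespace Cfsg.Agent.RealClassGraph

open Subgroup
open scoped Pointwise

universe u

variable {G : Type u} [Group G] [Finite G] {z : G}

theorem Setup.commute (h : Setup G z) {a b : G} (ha : a ∈ normalClosure ({z} : Set G))
    (hb : b ∈ normalClosure ({z} : Set G)) : a * b = b * a := by
  have hgen : ∀ x ∈ Group.conjugatesOfSet ({z} : Set G), ∀ y ∈ Group.conjugatesOfSet ({z} : Set G),
      x * y = y * x := by
    intro x hx y hy
    obtain ⟨x', hx', hxc⟩ := Group.mem_conjugatesOfSet_iff.1 hx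
    obtain ⟨y', hy', hyc⟩ := Group.mem_conjugatesOfSet_iff.1 hy
    rw [Set.mem_singleton_iff] at hx' hy'
    rw [hx'] at hxc
    rw [hy'] at hyc
    obtain ⟨g, rfl⟩ := isConj_iff.1 hxc
    obtain ⟨k, rfl⟩ := isConj_iff.1 hyc
    have h1 := congrArg (fun w => g * w * g⁻¹) (h.comm (g⁻¹ * k))
    simp only [mul_inv_rev, inv_inv] at h1
    calc _ = g * (z * (g⁻¹ * k * z * (k⁻¹ * g))) * g⁻¹ := by group
      _ = g * (g⁻¹ * k * z * (k⁻¹ * g) * z) * g⁻¹ := h1.symm
      _ = _ := by group
  have h1 : normalClosure ({z} : Set G) ≤ centralizer (Group.conjugatesOfSet ({z} : Set G)) := by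
    rw [normalClosure, closure_le]
    exact fun x hx => mem_centralizer_iff.2 fun y hy => hgen y hy x hx
  have h2 : normalClosure ({z} : Set G) ≤ centralizer (normalClosure ({z} : Set G) : Set G) := by
    intro x hx
    refine mem_centralizer_iff.2 fun y hy => ?_
    have h3 : normalClosure ({z} : Set G) ≤ centralizer ({x} : Set G) := by
      rw [normalClosure, closure_le]
      exact fun w hw => mem_centralizer_singleton_iff.2 (mem_centralizer_iff.1 (h1 hx) w hw)
    exact mem_centralizer_singleton_iff.1 (h3 hy)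
  exact mem_centralizer_iff.1 (h2 hb) a ha

theorem Setup.zz (h : Setup G z) : z * z = 1 := by
  have := pow_orderOf_eq_one z
  rwa [h.z_inv, pow_two] at this

theorem Setup.two (h : Setup G z) {a : G} (ha : a ∈ normalClosure ({z} : Set G)) : a * a = 1 := by
  induction ha using closure_induction with
  | mem x hx =>
    obtain ⟨x', hx', hxc⟩ := Group.mem_conjugatesOfSet_iff.1 hx
    rw [Set.mem_singleton_iff] at hx'
    rw [hx'] at hxc
    obtain ⟨g, rfl⟩ := isConj_iff.1 hxc
    rw [show g * z * g⁻¹ * (g * z * g⁻¹) = g * (z * z) * g⁻¹ by group, h.zz]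
    group
  | one => exact one_mul 1
  | mul x y hx hy hx2 hy2 =>
    rw [show x * y * (x * y) = x * (y * x) * y by group, h.commute hy hx,
      show x * (x * y) * y = (x * x) * (y * y) by group, hx2, hy2, one_mul]
  | inv x _ hx2 => rw [← mul_inv_rev, hx2, inv_one]

theorem isSolvable_centralizer (h : Setup G z) : Group.IsSolvable ↥(centralizer ({z} : Set G)) := by
  obtain ⟨P⟩ : Nonempty (Sylow 2 ↥(centralizer ({z} : Set G))) := inferInstance
  exact isSolvable_of_two_closed P (h.two_closed P)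

set_option maxHeartbeats 2000000 in
/-- A non-solvable group with a `Setup` maps onto one with a `Data`. -/
theorem exists_data (h : Setup G z) (hns : ¬ Group.IsSolvable G) :
    ∃ (H U : Type u) (_ : Group H) (_ : Finite H) (_ : CommGroup U) (_ : Finite U)
      (_ : MulDistribMulAction H U) (_ : FaithfulSMul H U), ¬ Group.IsSolvable H ∧ Data H U := by
  classical
  haveI : Fact (Nat.Prime 2) := ⟨Nat.prime_two⟩
  set V := normalClosure ({z} : Set G) with hV
  haveI : V.Normal := normalClosure_normal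
  letI : CommGroup ↥V :=
    { (inferInstance : Group ↥V) with
      mul_comm := fun a b => Subtype.ext (h.commute a.2 b.2) }
  let ψ : G →* MulAut ↥V := MulAut.conjNormal
  have hψ : ∀ (g : G) (m : ↥V), ((ψ g m : ↥V) : G) = g * m * g⁻¹ := fun g m =>
    MulAut.conjNormal_apply g m
  let z₀ : ↥V := ⟨z, subset_normalClosure rfl⟩
  set C := centralizer ({z} : Set G) with hC
  have hfix : ∀ (g : G) (m : ↥V), ψ g m = m ↔ g * m = m * g := by
    intro g m
    rw [Subtype.ext_iff, hψ, mul_inv_eq_iff_eq_mul]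
  have hO : Orbit ψ C z₀ := by
    refine ⟨fun m => Subtype.ext (h.two m.2), fun g hg => (hfix g z₀).2 (mem_centralizer_iff'.1 hg), ?_,
      h.index_odd⟩
    rw [eq_top_iff]
    intro m _
    have hV' : V ≤ (closure (Set.range fun g : G => ψ g z₀)).map V.subtype := by
      show closure (Group.conjugatesOfSet ({z} : Set G)) ≤ _
      rw [closure_le]
      intro x hx
      obtain ⟨x', hx', hxc⟩ := Group.mem_conjugatesOfSet_iff.1 hx
      rw [Set.mem_singleton_iff] at hx'
      rw [hx'] at hxc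
      obtain ⟨g, rfl⟩ := isConj_iff.1 hxc
      exact ⟨ψ g z₀, subset_closure ⟨g, rfl⟩, hψ g z₀⟩
    obtain ⟨m', hm', he⟩ := hV' m.2
    rwa [← Subtype.ext (he : (m' : G) = m)]
  set σ := orbitProd hO with hσ
  have hσc : ∀ g : G, g * (σ : G) = σ * g := fun g => (hfix g σ).1 (orbitProd_fixed hO g)
  -- real elements fix only `σ`
  have hreal : ∀ y t : G, y ≠ 1 → IsPrimePow (orderOf y) → Odd (orderOf y) → t * y * t⁻¹ = y⁻¹ →
      ∀ m : ↥V, y * (m : G) = m * y → m = 1 ∨ m = σ := by
    intro y t hy hpp hyodd hinv m hm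
    set A := zpowers y with hA
    have hAodd : Odd (Nat.card ↥A) := by rwa [hA, Nat.card_zpowers]
    obtain ⟨s, k, hs, hsy⟩ := exists_two_inverter hinv
    -- an orbit point fixed by the inverter
    obtain ⟨q, hq⟩ := exists_fixed_point (isPGroup_zpowers_two hs) (G ⧸ C)
      (by rw [← index_eq_card]; exact h.index_odd)
    obtain ⟨g₀, rfl⟩ := QuotientGroup.mk_surjective q
    set x₀ := ψ g₀ z₀ with hx₀
    have hsx : ψ s x₀ = x₀ := by
      have := congrArg (orbitPoint hO) (show s • ((g₀ : G) : G ⧸ C) = _ from hq ⟨s, mem_zpowers s⟩)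
      rwa [orbitPoint_smul, orbitPoint_mk] at this
    set v₀ := trace ψ A x₀ with hv₀
    have hyN : ∀ c : G, c * y = y * c → c ∈ normalizer (A : Set G) := by
      intro c hc
      refine mem_normalizer_fintype fun w hw => ?_
      obtain ⟨i, rfl⟩ := mem_zpowers_iff.1 hw
      rw [← conj_zpow, hc, mul_inv_cancel_right]
      exact zpow_mem (mem_zpowers y) i
    have hsN : s ∈ normalizer (A : Set G) := by
      refine mem_normalizer_fintype fun w hw => ?_
      obtain ⟨i, rfl⟩ := mem_zpowers_iff.1 hw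
      rw [← conj_zpow, hsy]
      exact zpow_mem (inv_mem (mem_zpowers y)) i
    have hsv : ψ s v₀ = v₀ := by rw [hv₀, trace_normalizer ψ A hsN, hsx]
    have hyv : ψ y v₀ = v₀ := fixed_trace ψ A (mem_zpowers y) x₀
    have huni : ∀ g : G, trace ψ A (ψ g z₀) = trace ψ A z₀ := by
      have hall : ∀ g : G, trace ψ A (ψ g z₀) = v₀ := by
        intro g
        obtain ⟨c, k, hcv, hcy, hk, hgk⟩ := h.mixed v₀ y s v₀.2 (h.two v₀.2) hy hpp hyodd hsy
          ((hfix y v₀).1 hyv) ((hfix s v₀).1 hsv) g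
        obtain ⟨c', k', hcv', hcy', hk', hgk'⟩ := h.mixed v₀ y s v₀.2 (h.two v₀.2) hy hpp hyodd hsy
          ((hfix y v₀).1 hyv) ((hfix s v₀).1 hsv) g₀
        have hkz : ψ k z₀ = z₀ := (hfix k z₀).2 hk
        have hk'z : ψ k' z₀ = z₀ := (hfix k' z₀).2 hk'
        rw [hgk, map_mul, MulAut.mul_apply, hkz]
        have hx : x₀ = ψ c' z₀ := by rw [hx₀, hgk', map_mul, MulAut.mul_apply, hk'z]
        rw [← trace_normalizer ψ A (hyN c hcy)]
        have hz : trace ψ A z₀ = v₀ := by
          have h1 : ψ c' (trace ψ A z₀) = ψ c' v₀ := by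
            rw [trace_normalizer ψ A (hyN c' hcy'), (hfix c' v₀).2 hcv', ← hx]
          exact (ψ c').injective h1
        rw [hz, (hfix c v₀).2 hcv]
      intro g
      rw [hall g, ← hall 1, map_one, MulAut.one_apply]
    refine hO.eq_of_fixed A hAodd huni fun a ha => (hfix a m).2 ?_
    obtain ⟨i, rfl⟩ := mem_zpowers_iff.1 ha
    exact (show Commute y (m : G) from hm).zpow_left i
  -- stabilisers
  have hstab : ∀ m : ↥V, m ≠ 1 → m ≠ σ →
      (∀ P : Sylow 2 ↥(centralizer ({(m : G)} : Set G)), (P : Subgroup ↥(centralizer ({(m : G)} : Set G))).Normal) ∧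
        Odd (centralizer ({(m : G)} : Set G)).index := by
    intro m h1 h2
    set Cm := centralizer ({(m : G)} : Set G) with hCm
    have hcl : ∀ P : Sylow 2 ↥Cm, (P : Subgroup ↥Cm).Normal := by
      refine fun P => two_closed_of_no_real (fun y t hy hpp hyodd hinv => ?_) P
      have hy' : (y : G) ≠ 1 := fun e => hy (Subtype.ext e)
      rcases hreal y t hy' (by rwa [Subgroup.orderOf_coe]) (by rwa [Subgroup.orderOf_coe])
        (by exact_mod_cast congrArg Subtype.val hinv) m (mem_centralizer_iff'.1 y.2) with e | e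
      · exact h1 e
      · exact h2 e
    refine ⟨hcl, ?_⟩
    rcases h.alt m m.2 (h.two m.2) with ho | ht
    · exact ho
    exfalso
    obtain ⟨P⟩ : Nonempty (Sylow 2 ↥Cm) := inferInstance
    haveI := hcl P
    obtain ⟨K, hK⟩ := Subgroup.exists_right_complement'_of_coprime P.card_coprime_index
    set A := K.map Cm.subtype with hA
    have hAodd : Odd (Nat.card ↥A) := by
      rw [hA, card_map_of_injective Cm.subtype_injective, ← hK.symm.index_eq_card, Nat.odd_iff,
        ← Nat.two_dvd_ne_zero]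
      exact P.not_dvd_index
    obtain ⟨q, hq⟩ := exists_fixed_point (P.isPGroup'.map Cm.subtype) (G ⧸ C)
      (by rw [← index_eq_card]; exact h.index_odd)
    obtain ⟨g₀, rfl⟩ := QuotientGroup.mk_surjective q
    have hAm : ∀ a ∈ A, ψ a m = m := by
      rintro _ ⟨a, -, rfl⟩
      exact (hfix _ m).2 (mem_centralizer_iff'.1 a.2)
    have hall : ∀ g : G, trace ψ A (ψ g z₀) = trace ψ A (ψ g₀ z₀) := by
      intro g
      obtain ⟨c, k, hc, hk, hgk⟩ := ht g
      obtain ⟨c', k', hc', hk', hgk'⟩ := ht g₀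
      -- an element of `C(m)` carrying the fixed point to `g`
      let d : ↥Cm := ⟨c * c'⁻¹, mem_centralizer_iff'.2
        ((show Commute c (m : G) from hc).mul_left (show Commute c' (m : G) from hc').inv_left).eq⟩
      obtain ⟨⟨⟨a, ha⟩, ⟨p, hp⟩⟩, hap⟩ := hK.symm.2 d
      have hkz : ψ k z₀ = z₀ := (hfix k z₀).2 hk
      have hk'z : ψ k' z₀ = z₀ := (hfix k' z₀).2 hk'
      have hp0 : ψ (p : G) (ψ g₀ z₀) = ψ g₀ z₀ := by
        have := congrArg (orbitPoint hO)
          (show (p : G) • ((g₀ : G) : G ⧸ C) = _ from hq ⟨(p : G), mem_map_of_mem _ hp⟩)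
        rwa [orbitPoint_smul, orbitPoint_mk] at this
      have hd : (a : G) * p = c * c'⁻¹ := congrArg Subtype.val hap
      have hg : ψ g z₀ = ψ (a : G) (ψ g₀ z₀) := by
        rw [hgk, map_mul, MulAut.mul_apply, hkz]
        calc ψ c z₀ = ψ (c * c'⁻¹) (ψ c' z₀) := by
              rw [← MulAut.mul_apply, ← map_mul, inv_mul_cancel_right]
          _ = ψ (a : G) (ψ (p : G) (ψ g₀ z₀)) := by
              rw [← hd, map_mul, MulAut.mul_apply]
              congr 2
              rw [hgk', map_mul, MulAut.mul_apply, hk'z]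
          _ = _ := by rw [hp0]
      rw [hg]
      exact trace_shift ψ A (mem_map_of_mem _ ha) _
    have huni : ∀ g : G, trace ψ A (ψ g z₀) = trace ψ A z₀ := fun g => by
      rw [hall g, ← hall 1, map_one, MulAut.one_apply]
    rcases hO.eq_of_fixed A hAodd huni hAm with e | e
    · exact h1 e
    · exact h2 e
  -- the quotient by `σ`
  set Z0 : Subgroup ↥V := zpowers σ with hZ0
  have hZ0mem : ∀ m : ↥V, m ∈ Z0 → m = 1 ∨ m = σ := by
    intro m hm
    obtain ⟨i, rfl⟩ := mem_zpowers_iff.1 hm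
    rcases Int.even_or_odd' i with ⟨j, rfl | rfl⟩
    · left; rw [zpow_mul, zpow_two, hO.two, one_zpow]
    · right; rw [zpow_add, zpow_mul, zpow_two, hO.two, one_zpow, one_mul, zpow_one]
  have hZmap : ∀ g : G, Z0.map ((ψ g : ↥V ≃* ↥V) : ↥V →* ↥V) = Z0 := by
    intro g
    rw [hZ0, MonoidHom.map_zpowers]
    congr 1
    exact orbitProd_fixed hO g
  let Φ : G →* MulAut (↥V ⧸ Z0) :=
    { toFun := fun g => QuotientGroup.congr Z0 Z0 (ψ g) (hZmap g)
      map_one' := MulEquiv.ext fun q => by
        obtain ⟨m, rfl⟩ := QuotientGroup.mk_surjective q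
        show ((ψ 1 m : ↥V) : ↥V ⧸ Z0) = _
        rw [map_one]
        rfl
      map_mul' := fun a b => MulEquiv.ext fun q => by
        obtain ⟨m, rfl⟩ := QuotientGroup.mk_surjective q
        show ((ψ (a * b) m : ↥V) : ↥V ⧸ Z0) = ((ψ a (ψ b m) : ↥V) : ↥V ⧸ Z0)
        rw [map_mul]
        rfl }
  have hΦ : ∀ (g : G) (m : ↥V), Φ g (m : ↥V ⧸ Z0) = ((ψ g m : ↥V) : ↥V ⧸ Z0) := fun g m => rfl
  let π : G →* ↥Φ.range := Φ.rangeRestrict
  have hπ : Function.Surjective π := Φ.rangeRestrict_surjective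
  -- stabiliser of a vector of the quotient
  have hstab' : ∀ m : ↥V, (m : ↥V ⧸ Z0) ≠ 1 →
      (MulAction.stabilizer ↥Φ.range (m : ↥V ⧸ Z0)).comap π = centralizer ({(m : G)} : Set G) := by
    intro m hm
    have h1 : m ≠ 1 := fun e => hm (by rw [e]; rfl)
    have h2 : m ≠ σ := fun e => hm ((QuotientGroup.eq_one_iff m).2 (e ▸ mem_zpowers σ))
    obtain ⟨hcl, hodd⟩ := hstab m h1 h2
    have hle : centralizer ({(m : G)} : Set G) ≤ (MulAction.stabilizer ↥Φ.range (m : ↥V ⧸ Z0)).comap π := by
      intro g hg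
      show Φ g (m : ↥V ⧸ Z0) = (m : ↥V ⧸ Z0)
      rw [hΦ, (hfix g m).2 (mem_centralizer_iff'.1 hg)]
    refine le_antisymm ?_ hle
    by_contra hnot
    have h2i : (centralizer ({(m : G)} : Set G)).relIndex
        ((MulAction.stabilizer ↥Φ.range (m : ↥V ⧸ Z0)).comap π) = 2 := by
      obtain ⟨t, ht, htn⟩ := SetLike.not_le_iff_exists.1 hnot
      have hval : ∀ g ∈ (MulAction.stabilizer ↥Φ.range (m : ↥V ⧸ Z0)).comap π,
          ψ g m = m ∨ ψ g m = m * σ := by
        intro g hg
        have hg' : ((ψ g m : ↥V) : ↥V ⧸ Z0) = (m : ↥V ⧸ Z0) := hg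
        have hg'' := hZ0mem _ (QuotientGroup.eq.1 hg'.symm)
        rcases hg'' with e | e
        · left; rw [← mul_inv_cancel_left m (ψ g m), e, mul_one]
        · right; rw [← mul_inv_cancel_left m (ψ g m), e]
      rw [relIndex, index_eq_two_iff]
      refine ⟨⟨t, ht⟩, fun b => ?_⟩
      simp only [mem_subgroupOf, Subgroup.coe_mul, mem_centralizer_iff', ← hfix]
      have htσ : ψ t m = m * σ := (hval t ht).resolve_left fun e => htn (mem_centralizer_iff'.2 ((hfix t m).1 e))
      have hne : m * σ ≠ m := fun e => by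
        rw [mul_eq_left] at e
        exact htn (mem_centralizer_iff'.2 ((hfix t m).1 (by rw [htσ, e, mul_one])))
      rw [map_mul, MulAut.mul_apply, htσ, map_mul, orbitProd_fixed hO]
      rcases hval b b.2 with e | e <;> rw [e]
      · exact Or.inr ⟨rfl, hne⟩
      · refine Or.inl ⟨?_, hne⟩
        rw [mul_assoc, hO.two, mul_one]
    have hd : 2 ∣ (centralizer ({(m : G)} : Set G)).index := by
      rw [← relIndex_mul_index hle, h2i]; exact dvd_mul_right 2 _
    exact Nat.two_dvd_ne_zero.2 (Nat.odd_iff.1 hodd) hd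
  refine ⟨↥Φ.range, ↥V ⧸ Z0, inferInstance, inferInstance, inferInstance, inferInstance, inferInstance,
    inferInstance, ?_, ?_⟩
  · -- not solvable
    intro hsol
    apply hns
    have hzne : (z₀ : ↥V ⧸ Z0) ≠ 1 := by
      intro e
      rcases hZ0mem _ ((QuotientGroup.eq_one_iff z₀).1 e) with e' | e'
      · have := h.z_inv
        rw [show z = 1 from congrArg Subtype.val e', orderOf_one] at this
        omega
      · refine h.not_central (eq_top_iff.2 fun g _ => mem_centralizer_iff'.2 ?_)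
        have := hσc g
        rwa [show (σ : G) = z from (congrArg Subtype.val e').symm] at this
    have hker : π.ker ≤ C := by
      intro g hg
      rw [hC, ← show (z₀ : G) = z from rfl, ← hstab' z₀ hzne, mem_comap, MonoidHom.mem_ker.1 hg]
      exact one_mem _
    haveI := isSolvable_centralizer h
    haveI : Group.IsSolvable ↥π.ker := solvable_of_solvable_injective (Subgroup.inclusion_injective hker)
    exact Group.isSolvable_of_ker_le_range π.ker.subtype π (by rw [Subgroup.range_subtype])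
  refine ⟨?_, ?_, ?_, ?_, ?_⟩
  · intro x
    obtain ⟨m, rfl⟩ := QuotientGroup.mk_surjective x
    rw [← QuotientGroup.mk_mul, hO.two]
    rfl
  · refine ⟨(z₀ : ↥V ⧸ Z0), fun e => ?_⟩
    rcases hZ0mem _ ((QuotientGroup.eq_one_iff z₀).1 e) with e' | e'
    · have := h.z_inv
      rw [show z = 1 from congrArg Subtype.val e', orderOf_one] at this
      omega
    · refine h.not_central (eq_top_iff.2 fun g _ => mem_centralizer_iff'.2 ?_)
      have := hσc g
      rwa [show (σ : G) = z from (congrArg Subtype.val e').symm] at this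
  · intro x hx
    obtain ⟨m, rfl⟩ := QuotientGroup.mk_surjective x
    have h1 : m ≠ 1 := fun e => hx (by rw [e]; rfl)
    have h2 : m ≠ σ := fun e => hx ((QuotientGroup.eq_one_iff m).2 (e ▸ mem_zpowers σ))
    have := (hstab m h1 h2).2
    rwa [← hstab' m hx, index_comap_of_surjective _ hπ] at this
  · intro x hx P
    obtain ⟨m, rfl⟩ := QuotientGroup.mk_surjective x
    have h1 : m ≠ 1 := fun e => hx (by rw [e]; rfl)
    have h2 : m ≠ σ := fun e => hx ((QuotientGroup.eq_one_iff m).2 (e ▸ mem_zpowers σ))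
    refine two_closed_of_no_real (fun y t hy hpp hyodd hinv => ?_) P
    let φ : ↥(centralizer ({(m : G)} : Set G)) →* ↥(MulAction.stabilizer ↥Φ.range (m : ↥V ⧸ Z0)) :=
      (π.comp (centralizer ({(m : G)} : Set G)).subtype).codRestrict _ fun c => by
        exact (hstab' m hx).ge c.2
    have hφ : Function.Surjective φ := by
      rintro ⟨g, hg⟩
      obtain ⟨g₀, rfl⟩ := hπ g
      exact ⟨⟨g₀, by rw [← hstab' m hx]; exact hg⟩, rfl⟩
    obtain ⟨y₀, t₀, -, ha, -, hb, hc⟩ := exists_real_lift φ hφ hpp hyodd hinv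
    obtain ⟨P₀⟩ : Nonempty (Sylow 2 ↥(centralizer ({(m : G)} : Set G))) := inferInstance
    exact ha (TwoClosedInverted.eq_one_of_inverted (hstab m h1 h2).1 hb hc)
  · intro y t hy hpp hyodd hinv
    obtain ⟨y₀, t₀, hy₀, ha, hb, hc, hd⟩ := exists_real_lift π hπ hpp hyodd hinv
    obtain ⟨Pz⟩ : Nonempty (Sylow 2 ↥C) := inferInstance
    haveI := h.two_closed Pz
    let P₀ : Sylow 2 G := (Pz.isPGroup'.map C.subtype).toSylow (by
      rw [index_map, C.ker_subtype, sup_bot_eq, C.range_subtype]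
      exact Nat.prime_two.not_dvd_mul Pz.not_dvd_index (Nat.two_dvd_ne_zero.2 (Nat.odd_iff.1 h.index_odd)))
    set P₁ := P₀.mapSurjective hπ with hP₁
    have hmove : ∀ P : Sylow 2 ↥Φ.range, ∃ c : ↥Φ.range, c * y = y * c ∧ c • P₁ = P := by
      intro P
      obtain ⟨g, hg⟩ := MulAction.exists_smul_eq ↥Φ.range P₁ P
      obtain ⟨g₀, rfl⟩ := hπ g
      obtain ⟨c, k, -, hcy, hk, rfl⟩ := h.mixed 1 y₀ t₀ (one_mem _) (one_mul 1) ha hb hc hd
        (by rw [mul_one, one_mul]) (by rw [mul_one, one_mul]) g₀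
      refine ⟨π c, by rw [← hy₀, ← map_mul, ← map_mul, hcy], ?_⟩
      rw [← hg, map_mul, mul_smul]
      congr 1
      symm
      rw [Sylow.smul_eq_iff_mem_normalizer]
      refine mem_normalizer_fintype fun w hw => ?_
      obtain ⟨w₀, hw₀, rfl⟩ := hw
      obtain ⟨⟨w₁, hw₁c⟩, hw₁, rfl⟩ := hw₀
      rw [← map_inv, ← map_mul, ← map_mul]
      refine mem_map_of_mem π ⟨⟨k, mem_centralizer_iff'.2 hk⟩ * ⟨w₁, hw₁c⟩ * ⟨k, mem_centralizer_iff'.2 hk⟩⁻¹,
        Subgroup.Normal.conj_mem ‹_› _ hw₁ _, rfl⟩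
    intro P Q
    obtain ⟨c, hc1, hc2⟩ := hmove P
    obtain ⟨c', hc1', hc2'⟩ := hmove Q
    refine ⟨c' * c⁻¹, ((show Commute c' y from hc1').mul_left (show Commute c y from hc1).inv_left).eq, ?_⟩
    rw [← hc2, ← hc2', mul_smul, inv_smul_smul]

end Cfsg.Agent.RealClassGraph
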