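import Cfsg.Agent.Lib.RealClassGraph.Final
import Cfsg.Agent.Lib.RealClassGraph.FromGraph
import Cfsg.Agent.Lib.RealClassGraph.ToData

/-!
# A disconnected real class graph forces solubility (owner: helper55)

`exists_even_real_class` : some real class size is even; `isSolvable_of_disconnected` : the group is solvable.
-/

set_option autoImplicit false

namespace Cfsg.Agent.RealClassGraph

open Subgroup
open scoped Pointwise

universe u

variable {G : Type u} [Group G] [Finite G] {π₁ π₂ : Set ℕ}

theorem Setup.isSolvable {z : G} (h : Setup G z) : Group.IsSolvable G := by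
  by_contra hns
  obtain ⟨H, U, i₁, i₂, i₃, i₄, i₅, i₆, hH, D⟩ := exists_data h hns
  exact D.false hH

theorem Split.isSolvable (hS : Split G π₁ π₂) {z tz : G} (hz : tz * z * tz⁻¹ = z⁻¹) {q : ℕ}
    (hq : q ∈ π₂) (hqp : q.Prime) (hqz : q ∣ (centralizer ({z} : Set G)).index) : Group.IsSolvable G := by
  haveI : Fact (Nat.Prime 2) := ⟨Nat.prime_two⟩
  rcases solvable_or_setup hS hz hq hqp hqz with h | h
  · exact h
  · haveI := h.isSolvable
    haveI : Group.IsSolvable ↥(pPrimeCore 2 G) :=
      OddOrderTheorem.solvable (Nat.coprime_two_right.1 (Cores.coprime_card_pPrimeCore 2))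
    exact Group.isSolvable_of_ker_le_range (pPrimeCore 2 G).subtype (QuotientGroup.mk' (pPrimeCore 2 G))
      (by rw [QuotientGroup.ker_mk', Subgroup.range_subtype])

end Cfsg.Agent.RealClassGraph
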