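import Cfsg.Agent.Lib.RealClassGraph.DataBasic

/-!
# The Sylow 2-subgroups of a minimal non-solvable normal subgroup as points (owner: helper55)

For a minimal non-solvable normal subgroup `N`, the fixed spaces of the points `P ⊓ N` partition the
non-trivial vectors; counting gives `n * m = |U| - 1` and, for an involution `u ∈ N` lying in `k` of
them, `k * m = |fix u| - 1`.  Inverted elements of `N` of odd prime-power order fix no point.
-/

set_option autoImplicit false

namespace Cfsg.Agent.RealClassGraph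

open Subgroup
open scoped Pointwise

universe u

variable {H U : Type u} [Group H] [CommGroup U] [MulDistribMulAction H U]

/-- A minimal non-solvable normal subgroup. -/
structure Residual (N : Subgroup H) : Prop where
  normal : N.Normal
  nonsol : ¬ Group.IsSolvable ↥N
  minimal : ∀ L : Subgroup H, L.Normal → L ≤ N → L ≠ N → Group.IsSolvable ↥L

variable [Finite H]

theorem exists_residual (hns : ¬ Group.IsSolvable H) : ∃ N : Subgroup H, Residual N := by
  have hex : ∃ N : Subgroup H, N.Normal ∧ ¬ Group.IsSolvable ↥N :=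
    ⟨⊤, inferInstance, fun h => hns (solvable_of_surjective (f := (⊤ : Subgroup H).subtype)
      fun x => ⟨⟨x, mem_top x⟩, rfl⟩)⟩
  obtain ⟨N, ⟨hN, hNs⟩, hmin⟩ := Set.Finite.exists_minimal (Set.toFinite
    {N : Subgroup H | N.Normal ∧ ¬ Group.IsSolvable ↥N}) hex
  exact ⟨N, hN, hNs, fun L hL hLN hne => by
    by_contra hLs
    exact hne (le_antisymm hLN (hmin ⟨hL, hLs⟩ hLN))⟩

theorem Residual.commutator_eq {N : Subgroup H} (R : Residual N) : ⁅N, N⁆ = N := by
  haveI := R.normal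
  by_contra hne
  have hle : ⁅N, N⁆ ≤ N := commutator_le_self N
  haveI := R.minimal _ inferInstance hle hne
  apply R.nonsol
  have hc : Group.IsSolvable ↥(commutator ↥N) := by
    refine solvable_of_solvable_injective
      (f := (N.subtype.comp (commutator ↥N).subtype).codRestrict ⁅N, N⁆ ?_) ?_
    · intro c
      rw [← map_subtype_commutator N]
      exact mem_map_of_mem _ c.2
    · intro a b hab
      exact Subtype.ext (Subtype.ext (congrArg (fun w : ↥⁅N, N⁆ => (w : H)) hab))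
  haveI := hc
  haveI : Group.IsSolvable (↥N ⧸ commutator ↥N) :=
    isSolvable_of_comm fun a b => mul_comm (G := Abelianization ↥N) a b
  exact Group.isSolvable_of_ker_le_range (commutator ↥N).subtype (QuotientGroup.mk' (commutator ↥N))
    (by rw [QuotientGroup.ker_mk', Subgroup.range_subtype])

/-- The points: intersections of Sylow 2-subgroups with `N`. -/
def Pts (N : Subgroup H) : Type u := {S : Subgroup H // ∃ P : Sylow 2 H, (P : Subgroup H) ⊓ N = S}

instance (N : Subgroup H) : Finite (Pts N) := Subtype.finite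
instance (N : Subgroup H) : Nonempty (Pts N) :=
  ⟨⟨_, (Classical.arbitrary (Sylow 2 H)), rfl⟩⟩

theorem conj_smul_normal {N : Subgroup H} (hN : N.Normal) (g : H) : MulAut.conj g • N = N := by
  haveI := hN
  exact Subgroup.Normal.conjAct hN g

instance ptsAction (N : Subgroup H) [hN : N.Normal] : MulAction H (Pts N) where
  smul g S := ⟨MulAut.conj g • S.1, by
    obtain ⟨P, hP⟩ := S.2
    refine ⟨g • P, ?_⟩
    rw [← hP, smul_inf, conj_smul_normal hN, Sylow.coe_subgroup_smul]⟩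
  one_smul S := Subtype.ext (by show MulAut.conj (1 : H) • S.1 = S.1; rw [map_one, one_smul])
  mul_smul a b S := Subtype.ext (by
    show MulAut.conj (a * b) • S.1 = MulAut.conj a • MulAut.conj b • S.1
    rw [map_mul, mul_smul])

theorem pts_smul_val {N : Subgroup H} [N.Normal] (g : H) (S : Pts N) :
    (g • S).1 = MulAut.conj g • S.1 := rfl

theorem mem_conj_smul {g x : H} {S : Subgroup H} : x ∈ MulAut.conj g • S ↔ g⁻¹ * x * g ∈ S := by
  rw [mem_pointwise_smul_iff_inv_smul_mem]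
  simp [MulAut.smul_def]

theorem pts_smul_eq_iff {N : Subgroup H} [N.Normal] (g : H) (S : Pts N) :
    g • S = S ↔ g ∈ normalizer (S.1 : Set H) := by
  constructor
  · intro h
    refine mem_normalizer_fintype fun x hx => ?_
    have h1 : g * x * g⁻¹ ∈ (g • S).1 := by
      rw [pts_smul_val, mem_conj_smul, show g⁻¹ * (g * x * g⁻¹) * g = x by group]
      exact hx
    rwa [h] at h1
  · intro h
    refine Subtype.ext (Subgroup.ext fun x => ?_)
    rw [pts_smul_val, mem_conj_smul]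
    exact (Subgroup.mem_normalizer_iff''.1 h x).symm

instance ptsTransitive (N : Subgroup H) [hN : N.Normal] : MulAction.IsPretransitive H (Pts N) := by
  haveI : Fact (Nat.Prime 2) := ⟨Nat.prime_two⟩
  refine ⟨fun S T => ?_⟩
  obtain ⟨P, hP⟩ := S.2
  obtain ⟨Q, hQ⟩ := T.2
  obtain ⟨g, rfl⟩ := MulAction.exists_smul_eq H P Q
  refine ⟨g, Subtype.ext ?_⟩
  rw [pts_smul_val, ← hP, ← hQ, smul_inf, conj_smul_normal hN, Sylow.coe_subgroup_smul]

theorem pts_le {N : Subgroup H} (S : Pts N) : S.1 ≤ N := by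
  obtain ⟨P, hP⟩ := S.2; rw [← hP]; exact inf_le_right

theorem pts_pgroup {N : Subgroup H} (S : Pts N) : IsPGroup 2 ↥S.1 := by
  obtain ⟨P, hP⟩ := S.2; rw [← hP]; exact P.isPGroup'.to_le inf_le_left

theorem exists_pt_ge {N Q : Subgroup H} (hQN : Q ≤ N) (hQ : IsPGroup 2 ↥Q) :
    ∃ S : Pts N, Q ≤ S.1 := by
  obtain ⟨P, hP⟩ := hQ.exists_le_sylow
  exact ⟨⟨_, P, rfl⟩, le_inf hP hQN⟩

theorem pts_card {N : Subgroup H} [N.Normal] (S T : Pts N) : Nat.card ↥S.1 = Nat.card ↥T.1 := by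
  obtain ⟨g, rfl⟩ := MulAction.exists_smul_eq H S T
  rw [pts_smul_val]
  exact (Nat.card_congr (Subgroup.equivSMul (MulAut.conj g) S.1).toEquiv)

theorem pts_max {N Q : Subgroup H} [N.Normal] {S : Pts N} (hSQ : S.1 ≤ Q) (hQN : Q ≤ N)
    (hQ : IsPGroup 2 ↥Q) : Q = S.1 := by
  obtain ⟨T, hT⟩ := exists_pt_ge hQN hQ
  exact (Subgroup.eq_of_le_of_card_ge hSQ (pts_card S T ▸ card_le_of_le hT)).symm

theorem pts_ext {N : Subgroup H} [N.Normal] {S T : Pts N} (h : S.1 ≤ T.1) : S = T :=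
  Subtype.ext (pts_max h (pts_le T) (pts_pgroup T)).symm

theorem mem_pt_of_normalizes {N : Subgroup H} [N.Normal] {S : Pts N} {t : H} (htN : t ∈ N) {k : ℕ}
    (ht : orderOf t = 2 ^ k) (hn : t ∈ normalizer (S.1 : Set H)) : t ∈ S.1 := by
  haveI : Fact (Nat.Prime 2) := ⟨Nat.prime_two⟩
  have h := (isPGroup_zpowers_two ht).to_sup_of_normal_right' (pts_pgroup S) (zpowers_le.2 hn)
  have := pts_max (S := S) le_sup_right (sup_le (zpowers_le.2 htN) (pts_le S)) h
  rw [← this]
  exact mem_sup_left (mem_zpowers t)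

theorem Residual.exists_involution {N : Subgroup H} (R : Residual N) (S : Pts N) :
    ∃ u ∈ S.1, orderOf u = 2 := by
  haveI := R.normal
  haveI : Fact (Nat.Prime 2) := ⟨Nat.prime_two⟩
  have h2 : 2 ∣ Nat.card ↥N := by
    by_contra h
    exact R.nonsol (OddOrderTheorem.solvable (Nat.odd_iff.2 (Nat.two_dvd_ne_zero.1 h)))
  obtain ⟨v, hv⟩ := exists_prime_orderOf_dvd_card' 2 h2
  rw [← orderOf_coe] at hv
  obtain ⟨T, hT⟩ := exists_pt_ge (zpowers_le.2 v.2) (isPGroup_zpowers_two (k := 1) (by rw [hv, pow_one]))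
  obtain ⟨g, rfl⟩ := MulAction.exists_smul_eq H S T
  have := hT (mem_zpowers (v : H))
  rw [pts_smul_val, mem_conj_smul] at this
  refine ⟨_, this, ?_⟩
  rw [show g⁻¹ * (v : H) * g = MulAut.conj g⁻¹ (v : H) by simp, MulEquiv.orderOf_eq, hv]

theorem Residual.iSup_pts {N : Subgroup H} (R : Residual N) : ⨆ S : Pts N, S.1 = N := by
  haveI := R.normal
  haveI : Fact (Nat.Prime 2) := ⟨Nat.prime_two⟩
  set L := ⨆ S : Pts N, S.1 with hL
  have hLN : L ≤ N := iSup_le pts_le
  by_contra hne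
  haveI hLn : L.Normal := by
    refine normalizer_eq_top_iff.1 (eq_top_iff.2 fun g _ => mem_normalizer_fintype fun x hx => ?_)
    have h1 : L ≤ L.comap (MulAut.conj g).toMonoidHom := iSup_le fun S y hy => by
      show MulAut.conj g y ∈ L
      exact (le_iSup (fun S : Pts N => S.1) (g • S)) (smul_mem_pointwise_smul y _ S.1 hy)
    exact h1 hx
  haveI := R.minimal L hLn hLN hne
  haveI : Group.IsSolvable ↥(L.subgroupOf N) :=
    solvable_of_surjective (f := (subgroupOfEquivOfLe hLN).symm.toMonoidHom)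
      (subgroupOfEquivOfLe hLN).symm.surjective
  haveI : Group.IsSolvable (↥N ⧸ L.subgroupOf N) := by
    refine OddOrderTheorem.solvable (Nat.odd_iff.2 (Nat.two_dvd_ne_zero.1 fun h2 => ?_))
    obtain ⟨q, hq⟩ := exists_prime_orderOf_dvd_card' 2 h2
    obtain ⟨g, rfl⟩ := QuotientGroup.mk_surjective q
    obtain ⟨o, k, ho, hk⟩ := exists_two_part g
    rw [← orderOf_coe] at hk
    obtain ⟨S, hS⟩ := exists_pt_ge (zpowers_le.2 (g ^ o).2) (isPGroup_zpowers_two hk)
    have hmem : g ^ o ∈ L.subgroupOf N :=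
      (le_iSup (fun S : Pts N => S.1) S) (hS (mem_zpowers _))
    have h1 : ((g : ↥N ⧸ L.subgroupOf N)) ^ o = 1 := by
      rw [← QuotientGroup.mk_pow]; exact (QuotientGroup.eq_one_iff _).2 hmem
    have h3 := orderOf_dvd_of_pow_eq_one h1
    rw [hq] at h3
    exact Nat.two_dvd_ne_zero.2 (Nat.odd_iff.1 ho) h3
  exact R.nonsol (Group.isSolvable_of_ker_le_range (L.subgroupOf N).subtype
    (QuotientGroup.mk' (L.subgroupOf N)) (by rw [QuotientGroup.ker_mk', Subgroup.range_subtype]))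

theorem Residual.pts_nontrivial {N : Subgroup H} (R : Residual N) : Nontrivial (Pts N) := by
  haveI := R.normal
  haveI : Fact (Nat.Prime 2) := ⟨Nat.prime_two⟩
  by_contra h
  rw [not_nontrivial_iff_subsingleton] at h
  obtain ⟨S⟩ : Nonempty (Pts N) := inferInstance
  have h1 : N = S.1 := by
    refine le_antisymm ?_ (pts_le S)
    conv_lhs => rw [← R.iSup_pts]
    exact iSup_le fun T => by rw [Subsingleton.elim T S]
  have h2 : IsPGroup 2 ↥N := h1 ▸ pts_pgroup S
  haveI := h2.isNilpotent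
  exact R.nonsol inferInstance

variable [Finite U] [FaithfulSMul H U] {N : Subgroup H}

theorem smul_mem_fix_pt [N.Normal] (g : H) {S : Pts N} {x : U} (hx : x ∈ fix U (S.1 : Set H)) :
    g • x ∈ fix U ((g • S).1 : Set H) := by
  intro h hh
  rw [SetLike.mem_coe, pts_smul_val, mem_conj_smul] at hh
  calc h • g • x = g • (g⁻¹ * h * g) • x := by
        simp only [← mul_smul, mul_assoc, mul_inv_cancel_left]
    _ = g • x := by rw [hx _ hh]

theorem Data.pt_of (D : Data H U) [N.Normal] {x : U} (hx : x ≠ 1) :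
    ∃ S : Pts N, x ∈ fix U (S.1 : Set H) ∧
      ∀ Q : Subgroup H, Q ≤ N → IsPGroup 2 ↥Q → x ∈ fix U (Q : Set H) → Q ≤ S.1 := by
  obtain ⟨P, hP, hmax⟩ := D.sylow_fix hx
  exact ⟨⟨_, P, rfl⟩, fun g hg => hP g hg.1, fun Q hQN hQ hQx => le_inf (hmax Q hQ hQx) hQN⟩

theorem Data.pt_unique (D : Data H U) [N.Normal] {x : U} (hx : x ≠ 1) {S T : Pts N}
    (hS : x ∈ fix U (S.1 : Set H)) (hT : x ∈ fix U (T.1 : Set H)) : S = T := by
  obtain ⟨R, -, hR⟩ := D.pt_of (N := N) hx
  rw [pts_ext (hR _ (pts_le S) (pts_pgroup S) hS), pts_ext (hR _ (pts_le T) (pts_pgroup T) hT)]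

theorem Data.fix_involution_iff (D : Data H U) [N.Normal] {u : H} (hu : orderOf u = 2) (huN : u ∈ N)
    {x : U} (hx : x ≠ 1) {S : Pts N} (hS : x ∈ fix U (S.1 : Set H)) : u • x = x ↔ u ∈ S.1 := by
  refine ⟨fun h => ?_, fun h => hS u h⟩
  obtain ⟨R, hRx, hR⟩ := D.pt_of (N := N) hx
  rw [D.pt_unique hx hS hRx]
  refine hR (zpowers u) (zpowers_le.2 huN) (isPGroup_zpowers_two (k := 1) (by rw [hu, pow_one])) ?_
    (mem_zpowers u)
  exact fun g hg => (zpowers_le.2 (MulAction.mem_stabilizer_iff.2 h) :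
    zpowers u ≤ MulAction.stabilizer H x) hg

theorem Data.fix_pt_ne_bot (D : Data H U) (S : Pts N) : fix U (S.1 : Set H) ≠ ⊥ := by
  intro h
  obtain ⟨a, ha⟩ := D.nontriv
  have htop : (⊤ : Subgroup U) ≠ ⊥ := fun e => ha (by rw [← mem_bot, ← e]; exact mem_top a)
  obtain ⟨w, -, hw1, hw⟩ := D.exists_fixed_in htop (pts_pgroup S) fun _ _ _ _ => mem_top _
  exact hw1 (by rw [← mem_bot, ← h]; exact hw)

/-- The number of non-trivial vectors fixed by a point. -/
noncomputable def fixCount (U : Type u) [CommGroup U] [MulDistribMulAction H U] {N : Subgroup H}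
    (S : Pts N) : ℕ := Nat.card {x : ↥(fix U (S.1 : Set H)) // x ≠ 1}

theorem fixCount_eq [N.Normal] (S T : Pts N) : fixCount U S = fixCount U T := by
  obtain ⟨g, rfl⟩ := MulAction.exists_smul_eq H S T
  refine Nat.card_congr
    { toFun := fun x => ⟨⟨g • x.1.1, smul_mem_fix_pt g x.1.2⟩, fun e => x.2 (Subtype.ext (by
        have := congrArg Subtype.val e
        simpa using congrArg (fun v : U => g⁻¹ • v) this))⟩
      invFun := fun x => ⟨⟨g⁻¹ • x.1.1, by
          have := smul_mem_fix_pt g⁻¹ x.1.2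
          rwa [inv_smul_smul] at this⟩, fun e => x.2 (Subtype.ext (by
        have := congrArg Subtype.val e
        simpa using congrArg (fun v : U => g • v) this))⟩
      left_inv := fun x => Subtype.ext (Subtype.ext (inv_smul_smul g x.1.1))
      right_inv := fun x => Subtype.ext (Subtype.ext (smul_inv_smul g x.1.1)) }

omit [Finite H] [FaithfulSMul H U] in
theorem card_ne_one (W : Subgroup U) : Nat.card {x : ↥W // x ≠ 1} = Nat.card ↥W - 1 := by
  classical
  haveI := Fintype.ofFinite ↥W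
  rw [Nat.card_eq_fintype_card, Nat.card_eq_fintype_card, Fintype.card_subtype_compl,
    Fintype.card_subtype_eq]

theorem fixCount_def (S : Pts N) : fixCount U S = Nat.card ↥(fix U (S.1 : Set H)) - 1 := card_ne_one _

theorem Data.card_union (D : Data H U) [N.Normal] (W : Subgroup U) (p : Pts N → Prop)
    (h : ∀ (S : Pts N) (x : U), x ≠ 1 → x ∈ fix U (S.1 : Set H) → (x ∈ W ↔ p S)) (S₀ : Pts N) :
    Nat.card {S : Pts N // p S} * fixCount U S₀ = Nat.card ↥W - 1 := by
  classical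
  haveI := Fintype.ofFinite {S : Pts N // p S}
  rw [← card_ne_one]
  have hsig : Nat.card (Σ S : {S : Pts N // p S}, {x : ↥(fix U (S.1.1 : Set H)) // x ≠ 1}) =
      Nat.card {x : ↥W // x ≠ 1} := by
    refine Nat.card_eq_of_bijective
      (fun q => ⟨⟨q.2.1.1, (h q.1.1 q.2.1.1 (fun e => q.2.2 (Subtype.ext e)) q.2.1.2).2 q.1.2⟩,
        fun e => q.2.2 (Subtype.ext (congrArg (fun w : ↥W => (w : U)) e))⟩) ⟨?_, ?_⟩
    · rintro ⟨⟨S, hS⟩, ⟨x, hx⟩, hx1⟩ ⟨⟨T, hT⟩, ⟨y, hy⟩, hy1⟩ heq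
      have hxy : x = y := congrArg (fun w : {x : ↥W // x ≠ 1} => ((w : ↥W) : U)) heq
      subst hxy
      obtain rfl := D.pt_unique (fun e => hx1 (Subtype.ext e)) hx hy
      rfl
    · rintro ⟨⟨x, hxW⟩, hx1⟩
      have hx : x ≠ 1 := fun e => hx1 (Subtype.ext e)
      obtain ⟨S, hS, -⟩ := D.pt_of (N := N) hx
      exact ⟨⟨⟨S, (h S x hx hS).1 hxW⟩, ⟨x, hS⟩, fun e => hx (congrArg Subtype.val e)⟩, rfl⟩
  have hc : ∀ a : {S : Pts N // p S},
      Nat.card {x : ↥(fix U (a.1.1 : Set H)) // x ≠ 1} = fixCount U S₀ := fun a => fixCount_eq a.1 S₀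
  rw [← hsig, Nat.card_sigma, Finset.sum_congr rfl (fun a _ => hc a), Finset.sum_const, Finset.card_univ,
    smul_eq_mul, Nat.card_eq_fintype_card]

theorem Data.real_trans (D : Data H U) [N.Normal] {y t : H} (hy : y ≠ 1) (hpp : IsPrimePow (orderOf y))
    (hodd : Odd (orderOf y)) (hinv : t * y * t⁻¹ = y⁻¹) (S T : Pts N) :
    ∃ c : H, c * y = y * c ∧ c • S = T := by
  obtain ⟨P, hP⟩ := S.2
  obtain ⟨Q, hQ⟩ := T.2
  obtain ⟨c, hc, rfl⟩ := D.trans y t hy hpp hodd hinv P Q
  refine ⟨c, hc, Subtype.ext ?_⟩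
  rw [pts_smul_val, ← hP, ← hQ, smul_inf, conj_smul_normal ‹N.Normal›, Sylow.coe_subgroup_smul]

/-- An inverted element of `N` of odd prime-power order moves every point. -/
theorem Data.real_moves (D : Data H U) [N.Normal] (R : Residual N) {y t : H} (hy : y ≠ 1) (hyN : y ∈ N)
    (htN : t ∈ N) (hpp : IsPrimePow (orderOf y)) (hodd : Odd (orderOf y)) (hinv : t * y * t⁻¹ = y⁻¹)
    (S : Pts N) : y • S ≠ S := by
  haveI : Fact (Nat.Prime 2) := ⟨Nat.prime_two⟩
  intro hS
  have hall : ∀ T : Pts N, y • T = T := by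
    intro T
    obtain ⟨c, hc, rfl⟩ := D.real_trans hy hpp hodd hinv S T
    rw [← mul_smul, ← hc, mul_smul, hS]
  set Kr := (MulAction.toPermHom H (Pts N)).ker ⊓ N with hKr
  have hKrfix : ∀ g ∈ Kr, ∀ T : Pts N, g • T = T := fun g hg T => by
    have := MonoidHom.mem_ker.1 hg.1
    exact congrArg (fun e : Equiv.Perm (Pts N) => e T) this
  have htwo : ∀ g ∈ Kr, ∀ k : ℕ, orderOf g = 2 ^ k → g = 1 := by
    intro g hg k hk
    set I := Kr ⊓ ⨅ T : Pts N, T.1 with hI
    have hgI : g ∈ I := ⟨hg, mem_iInf.2 fun T =>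
      mem_pt_of_normalizes hg.2 hk ((pts_smul_eq_iff g T).1 (hKrfix g hg T))⟩
    have hIn : I.Normal := by
      refine ⟨fun a ha b => ⟨(inferInstance : Kr.Normal).conj_mem a ha.1 b, mem_iInf.2 fun T => ?_⟩⟩
      have := mem_iInf.1 ha.2 (b⁻¹ • T)
      rw [pts_smul_val, mem_conj_smul] at this
      rwa [inv_inv] at this
    have hI2 : IsPGroup 2 ↥I := (pts_pgroup S).to_le (inf_le_right.trans (iInf_le _ S))
    rw [← mem_bot, ← D.normal_two_eq_bot hIn hI2]
    exact hgI
  have hyK : y ∈ Kr := ⟨MonoidHom.mem_ker.2 (Equiv.ext hall), hyN⟩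
  have hcent : N ≤ centralizer ({y} : Set H) := by
    conv_lhs => rw [← R.iSup_pts]
    refine iSup_le fun T s hs => ?_
    obtain ⟨k, hk⟩ := IsPGroup.iff_orderOf.1 (pts_pgroup T) ⟨_, T.1.mul_mem
      ((Subgroup.mem_normalizer_iff.1 ((pts_smul_eq_iff y T).1 (hall T)) s).1 hs) (T.1.inv_mem hs)⟩
    rw [Subgroup.orderOf_mk] at hk
    have hmem : y * s * y⁻¹ * s⁻¹ ∈ Kr := by
      rw [show y * s * y⁻¹ * s⁻¹ = y * (s * y⁻¹ * s⁻¹) by group]
      exact Kr.mul_mem hyK ((inferInstance : Kr.Normal).conj_mem _ (Kr.inv_mem hyK) s)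
    have := htwo _ hmem k hk
    rw [mul_inv_eq_one, mul_inv_eq_iff_eq_mul] at this
    exact mem_centralizer_singleton_iff.2 this.symm
  exact hy (not_commute_of_inverted hodd hinv (mem_centralizer_singleton_iff.1 (hcent htN)))

end Cfsg.Agent.RealClassGraph
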