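import Cfsg.Agent.Lib.RealClassGraph.Irred
import Cfsg.Agent.Lib.RealClassGraph.Points
import Cfsg.Agent.Lib.PairsCyclic.Basic
import Mathlib.GroupTheory.Sylow

/-!
# Pivots (owner: helper55)

A pivot is a real element of odd prime-power order with cyclic centraliser, present together with the
fact that all normal subgroups of odd prime-power order are cyclic.  Here: the generic tools and the
case of a primitive prime divisor.
-/

set_option autoImplicit false

namespace Cfsg.Agent.RealClassGraph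

open Subgroup
open scoped Pointwise

universe u

/-- A real element of odd prime-power order with cyclic centraliser, all odd normal prime-power
subgroups being cyclic. -/
structure Pivot {H : Type u} [Group H] (g : H) : Prop where
  ne_one : g ≠ 1
  pp : IsPrimePow (orderOf g)
  odd : Odd (orderOf g)
  real : ∃ t : H, t * g * t⁻¹ = g⁻¹
  cyclic : IsCyclic ↥(centralizer ({g} : Set H))
  normal_cyclic : ∀ (r : ℕ), r.Prime → r ≠ 2 → ∀ R : Subgroup H, R.Normal → IsPGroup r ↥R → IsCyclic ↥R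

section Generic

variable {G : Type u} [Group G] [Finite G]

theorem real_of_normalizing {g : G} (hpp : IsPrimePow (orderOf g)) (hodd : Odd (orderOf g)) (k : ℕ) :
    ∀ s : G, orderOf s ∣ 2 ^ k → s * g * s⁻¹ ∈ zpowers g → s * g ≠ g * s →
      ∃ t : G, t * g * t⁻¹ = g⁻¹ := by
  induction k with
  | zero =>
    intro s hs _ hne
    rw [pow_zero, Nat.dvd_one, orderOf_eq_one_iff] at hs
    exact absurd (by rw [hs, one_mul, mul_one]) hne
  | succ k ih =>
    intro s hs hmem hne
    obtain ⟨e, he⟩ := mem_zpowers_iff.1 hmem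
    have hsq : s ^ 2 * g * (s ^ 2)⁻¹ = g ^ (e * e) := by
      rw [pow_two, conj_mul_eq, ← he, ← conj_zpow, ← he, ← zpow_mul]
    by_cases hc : s ^ 2 * g = g * s ^ 2
    · refine ⟨s, ?_⟩
      have h1 : g ^ (e * e - 1) = 1 := by
        rw [zpow_sub, zpow_one, ← hsq, hc, mul_inv_cancel_right, mul_inv_cancel]
      obtain ⟨p, a, hp, ha, hpa⟩ := hpp
      rw [← Nat.prime_iff] at hp
      have hp2 : p ≠ 2 := fun h2 => by
        rw [← hpa, h2] at hodd
        exact absurd hodd (Nat.not_odd_iff_even.2 (Nat.even_pow.2 ⟨even_two, ha.ne'⟩))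
      have hdvd : ((p : ℤ) ^ a) ∣ (e - 1) * (e + 1) := by
        rw [show (e - 1) * (e + 1) = e * e - 1 by ring, ← Nat.cast_pow, hpa]
        exact orderOf_dvd_iff_zpow_eq_one.2 h1
      have hp' : Prime (p : ℤ) := Nat.prime_iff_prime_int.1 hp
      by_cases h4 : (p : ℤ) ∣ e - 1
      · have h5 : ¬ (p : ℤ) ∣ e + 1 := fun h5 => hp2 ((Nat.prime_dvd_prime_iff_eq hp Nat.prime_two).1 (by
          have := dvd_sub h5 h4
          rw [show e + 1 - (e - 1) = ((2 : ℕ) : ℤ) by push_cast; ring] at this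
          exact_mod_cast this))
        have h6 := hp'.pow_dvd_of_dvd_mul_right a h5 hdvd
        rw [← Nat.cast_pow, hpa, orderOf_dvd_iff_zpow_eq_one, zpow_sub, zpow_one, mul_inv_eq_one] at h6
        rw [he, mul_inv_eq_iff_eq_mul] at h6
        exact absurd h6 hne
      · have h6 := hp'.pow_dvd_of_dvd_mul_left a h4 hdvd
        rw [← Nat.cast_pow, hpa, orderOf_dvd_iff_zpow_eq_one, zpow_add, zpow_one, mul_eq_one_iff_eq_inv]
          at h6
        rw [← he, h6]
    · refine ih (s ^ 2) ?_ ?_ hc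
      · refine orderOf_dvd_of_pow_eq_one ?_
        rw [← pow_mul, ← pow_succ']
        exact orderOf_dvd_iff_pow_eq_one.1 hs
      · exact hsq ▸ zpow_mem (mem_zpowers g) _

theorem real_of_cyclic_normalised {g s y : G} (hpp : IsPrimePow (orderOf g)) (hodd : Odd (orderOf g))
    {P : Subgroup G} (hP : IsCyclic ↥P) (hgP : g ∈ P) (hsP : s ∈ normalizer (P : Set G))
    {k : ℕ} (hs : orderOf s = 2 ^ k) (hy : y ≠ 1) (hyodd : Odd (orderOf y)) (hsy : s * y * s⁻¹ = y⁻¹)
    (hyg : y * g = g * y) (hC : IsCyclic ↥(centralizer ({g} : Set G))) :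
    ∃ t : G, t * g * t⁻¹ = g⁻¹ := by
  refine real_of_normalizing hpp hodd k s (hs ▸ dvd_rfl) ?_ fun hcomm => ?_
  · refine PairsCyclic.mem_zpowers_of_cyclic hP hgP ((Subgroup.mem_normalizer_iff.1 hsP g).1 hgP) ?_
    rw [conj_pow, pow_orderOf_eq_one, mul_one, mul_inv_cancel]
  · letI := hC.commGroup
    have h1 := mul_comm (⟨s, mem_centralizer_singleton_iff.2 hcomm⟩ : ↥(centralizer ({g} : Set G)))
      ⟨y, mem_centralizer_singleton_iff.2 hyg⟩
    exact hy (not_commute_of_inverted hyodd hsy (congrArg Subtype.val h1))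

/-- An inverter of `y` can be adjusted to a 2-element normalising a given Sylow subgroup of `C(y)`. -/
theorem exists_inverter_normalising {p : ℕ} [Fact p.Prime] {y t : G} (hty : t * y * t⁻¹ = y⁻¹)
    (P : Sylow p ↥(centralizer ({y} : Set G))) :
    ∃ (s : G) (k : ℕ), orderOf s = 2 ^ k ∧ s * y * s⁻¹ = y⁻¹ ∧
      s ∈ normalizer (((P : Subgroup ↥(centralizer ({y} : Set G))).map
        (centralizer ({y} : Set G)).subtype : Subgroup G) : Set G) := by
  set P₀ := (P : Subgroup ↥(centralizer ({y} : Set G))).map (centralizer ({y} : Set G)).subtype with hP₀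
  have hQC : MulAut.conj t • P₀ ≤ (centralizer ({y} : Set G)) := by
    intro z hz
    rw [mem_pointwise_smul_iff_inv_smul_mem] at hz
    obtain ⟨w, -, hw⟩ := mem_map.1 hz
    rw [mem_centralizer_singleton_iff]
    have hw' : (w : G) = t⁻¹ * z * t := by
      rw [← coe_subtype, hw]; simp [MulAut.smul_def]
    have h1 := mem_centralizer_singleton_iff.1 w.2
    have h3 : t * y⁻¹ * t⁻¹ = y := by
      rw [← conj_inv, hty, inv_inv]
    have h2 : t⁻¹ * z * t * y⁻¹ = y⁻¹ * (t⁻¹ * z * t) := by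
      rw [← hw']
      exact (Commute.inv_right h1).eq
    calc z * y = z * (t * y⁻¹ * t⁻¹) := by rw [h3]
      _ = t * (t⁻¹ * z * t * y⁻¹) * t⁻¹ := by group
      _ = t * (y⁻¹ * (t⁻¹ * z * t)) * t⁻¹ := by rw [h2]
      _ = (t * y⁻¹ * t⁻¹) * z := by group
      _ = y * z := by rw [h3]
  have hcard : Nat.card ↥((MulAut.conj t • P₀).subgroupOf (centralizer ({y} : Set G))) = p ^ (Nat.card ↥(centralizer ({y} : Set G))).factorization p := by
    rw [Nat.card_congr (subgroupOfEquivOfLe hQC).toEquiv,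
      ← Nat.card_congr (Subgroup.equivSMul (MulAut.conj t) P₀).toEquiv,
      ← Nat.card_congr (Subgroup.equivMapOfInjective _ _ (centralizer ({y} : Set G)).subtype_injective).toEquiv]
    exact P.card_eq_multiplicity
  obtain ⟨c, hc⟩ := MulAction.exists_smul_eq ↥(centralizer ({y} : Set G)) P (Sylow.ofCard _ hcard)
  have hc' : ∀ z : G, z ∈ P₀ → (c : G) * z * (c : G)⁻¹ ∈ MulAut.conj t • P₀ := by
    intro z hz
    obtain ⟨w, hw, rfl⟩ := mem_map.1 hz
    have h1 : MulAut.conj c w ∈ ((c • P : Sylow p ↥(centralizer ({y} : Set G))) : Subgroup ↥(centralizer ({y} : Set G))) := by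
      rw [Sylow.coe_subgroup_smul]
      exact smul_mem_pointwise_smul w _ (P : Subgroup ↥(centralizer ({y} : Set G))) hw
    rw [hc] at h1
    exact h1
  set t' := (c : G)⁻¹ * t with ht'
  have ht'n : t' ∈ normalizer (P₀ : Set G) := by
    have h1 : (t'⁻¹ : G) ∈ normalizer (P₀ : Set G) := by
      refine mem_normalizer_fintype fun z hz => ?_
      have h2 := hc' z hz
      rw [mem_conj_smul] at h2
      rw [ht', mul_inv_rev, inv_inv, mul_inv_rev, inv_inv]
      simp only [mul_assoc] at h2 ⊢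
      exact h2
    rw [← inv_inv t']
    exact inv_mem h1
  have ht'y : t' * y * t'⁻¹ = y⁻¹ := by
    rw [ht', conj_mul_eq, hty, inv_inv]
    have h1 : (c : G) * y⁻¹ = y⁻¹ * (c : G) := (Commute.inv_right (mem_centralizer_singleton_iff.1 c.2)).eq
    rw [mul_assoc, ← h1, inv_mul_cancel_left]
  obtain ⟨o, k, ho, hk⟩ := exists_two_part t'
  exact ⟨t' ^ o, k, hk, conj_odd_pow ht'y ho, pow_mem ht'n o⟩

omit [Finite G] in
theorem isCyclic_of_central_elem {P : Subgroup G} {c : G} (hc : ∀ p ∈ P, p * c = c * p)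
    (hC : IsCyclic ↥(centralizer ({c} : Set G))) : IsCyclic ↥P :=
  haveI := hC
  isCyclic_of_le fun p hp => mem_centralizer_singleton_iff.2 (hc p hp)

theorem exists_central_prime {r : ℕ} [Fact r.Prime] {P : Subgroup G} (hP : IsPGroup r ↥P) (hne : P ≠ ⊥) :
    ∃ c ∈ P, orderOf c = r ∧ ∀ p ∈ P, p * c = c * p := by
  haveI : Nontrivial ↥P := (P.nontrivial_iff_ne_bot).2 hne
  haveI := hP.center_nontrivial
  obtain ⟨n, hn⟩ := (hP.to_subgroup (center ↥P)).exists_card_eq
  have hn0 : n ≠ 0 := fun e => by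
    have := Finite.one_lt_card (α := ↥(center ↥P))
    rw [hn, e, pow_zero] at this
    omega
  obtain ⟨c, hc⟩ := exists_prime_orderOf_dvd_card' r (hn ▸ dvd_pow_self r hn0 : r ∣ Nat.card ↥(center ↥P))
  refine ⟨(c : ↥P), (c : ↥P).2, ?_, fun p hp => ?_⟩
  · rw [orderOf_coe, orderOf_coe, hc]
  · exact congrArg Subtype.val (mem_center_iff.1 c.2 ⟨p, hp⟩)

end Generic

variable {H U : Type u} [Group H] [Finite H] [CommGroup U] [Finite U] [MulDistribMulAction H U]
  [FaithfulSMul H U] {N : Subgroup H}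

theorem dvd_card_centralizer [N.Normal] (D : Data H U) {y t : H} (hy : y ≠ 1)
    (hpp : IsPrimePow (orderOf y)) (hodd : Odd (orderOf y)) (hinv : t * y * t⁻¹ = y⁻¹) :
    Nat.card (Pts N) ∣ Nat.card ↥(centralizer ({y} : Set H)) := by
  haveI : MulAction.IsPretransitive ↥(centralizer ({y} : Set H)) (Pts N) := ⟨fun S T => by
    obtain ⟨c, hc, hcS⟩ := D.real_trans hy hpp hodd hinv S T
    exact ⟨⟨c, mem_centralizer_singleton_iff.2 hc⟩, hcS⟩⟩
  obtain ⟨S⟩ : Nonempty (Pts N) := inferInstance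
  rw [← MulAction.index_stabilizer_of_transitive ↥(centralizer ({y} : Set H)) S]
  exact index_dvd_card _

theorem pivot_of_primitive (D : Data H U) {y t : H} (hy : y ≠ 1) (hodd : Odd (orderOf y))
    (hinv : t * y * t⁻¹ = y⁻¹) {z d : ℕ} (hz : z.Prime) (hz2 : z ≠ 2) (hd : Nat.card U = 2 ^ d)
    (hn : ∀ b, 0 < b → b < d → ¬ z ∣ 2 ^ b - 1)
    (hdvd : z ∣ Nat.card ↥(centralizer ({y} : Set H))) :
    ∃ g : H, Pivot g := by
  haveI : Fact z.Prime := ⟨hz⟩
  have hprim : ∀ c : H, orderOf c = z → IsCyclic ↥(centralizer ({c} : Set H)) := fun c hc =>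
    (D.semireg_of_primitive hz hc hd hn hz2).2.isCyclic D.nontriv
  obtain ⟨P⟩ : Nonempty (Sylow z ↥(centralizer ({y} : Set H))) := inferInstance
  set P₀ := (P : Subgroup ↥(centralizer ({y} : Set H))).map (centralizer ({y} : Set H)).subtype
  have hP₀ : IsPGroup z ↥P₀ := P.isPGroup'.map _
  have hP₀ne : P₀ ≠ ⊥ := fun e =>
    P.ne_bot_of_dvd_card hdvd ((map_eq_bot_iff_of_injective _ (centralizer ({y} : Set H)).subtype_injective).1 e)
  obtain ⟨g, hgP, hg, hgc⟩ := exists_central_prime hP₀ hP₀ne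
  obtain ⟨s, k, hk, hsy, hsn⟩ := exists_inverter_normalising hinv P
  have hyg : y * g = g * y := by
    obtain ⟨w, -, hw⟩ := mem_map.1 hgP
    rw [← hw]
    exact (mem_centralizer_singleton_iff.1 w.2).symm
  have hgodd : Odd (orderOf g) := hg ▸ hz.odd_of_ne_two hz2
  have hreal := real_of_cyclic_normalised (g := g) (hg ▸ hz.isPrimePow) hgodd
    (isCyclic_of_central_elem hgc (hprim g hg)) hgP hsn hk hy hodd hsy hyg (hprim g hg)
  refine ⟨g, fun e => hz.ne_one (by rw [← hg, e, orderOf_one]), hg ▸ hz.isPrimePow, hgodd, hreal,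
    hprim g hg, fun r hr hr2 R hR hRp => ?_⟩
  haveI : Fact r.Prime := ⟨hr⟩
  haveI := hR
  by_cases hrz : r = z
  · subst hrz
    have hPg : IsPGroup r ↥(R ⊔ zpowers g) := hRp.to_sup_of_normal_left
      (IsPGroup.of_card (n := 1) (by rw [Nat.card_zpowers, hg, pow_one]))
    have hne : R ⊔ zpowers g ≠ ⊥ := fun e => hr.ne_one (by
      have : g = 1 := by rw [← mem_bot, ← e]; exact mem_sup_right (mem_zpowers g)
      rw [← hg, this, orderOf_one])
    obtain ⟨c, -, hc, hcc⟩ := exists_central_prime hPg hne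
    exact isCyclic_of_central_elem (fun p hp => hcc p (mem_sup_left hp)) (hprim c hc)
  · refine isCyclic_of_central_elem (fun p hp => ?_) (hprim g hg)
    exact (D.commute_of_fpf hz hg hz2 (fun v hv => (D.semireg_of_primitive hz hg hd hn hz2).1 1
      (by rw [pow_one]; exact fun e => hz.ne_one (by rw [← hg, e, orderOf_one])) v (by rwa [pow_one]))
      hrz hr2 hRp (normalizer_eq_top_iff.2 hR ▸ mem_top g) hp).symm

end Cfsg.Agent.RealClassGraph
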