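import Cfsg.Agent.Lib.RealClassGraph.Counting
import Cfsg.Agent.Lib.CyclicRegular.Basic
import Cfsg.Agent.S3559
import Mathlib.GroupTheory.Nilpotent

/-!
# With a pivot, `H` is doubly transitive on the points (owner: helper55)

Solvable normal subgroups below the perfect `N` are centralised by it, so the normalizer of a point is
maximal; the pivot's centraliser supplies a regular cyclic subgroup.
-/

set_option autoImplicit false

namespace Cfsg.Agent.RealClassGraph

open Subgroup
open scoped Pointwise commutatorElement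

universe u

variable {H U : Type u} [Group H] [Finite H] [CommGroup U] [Finite U] [MulDistribMulAction H U]
  [FaithfulSMul H U] {N : Subgroup H} {g : H}

omit [Finite H] in
theorem le_centralizer_cyclic (hperf : ⁅N, N⁆ = N) {R : Subgroup H} (hR : R.Normal) (hcyc : IsCyclic ↥R) :
    N ≤ centralizer (R : Set H) := by
  obtain ⟨⟨r, hr⟩, hgen⟩ := hcyc.exists_generator
  have hgen' : ∀ x ∈ R, x ∈ zpowers r := fun x hx => by
    obtain ⟨i, hi⟩ := mem_zpowers_iff.1 (hgen ⟨x, hx⟩)
    exact mem_zpowers_iff.2 ⟨i, congrArg Subtype.val hi⟩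
  rw [← hperf, commutator_le]
  intro a _ b _
  obtain ⟨i, hi⟩ := mem_zpowers_iff.1 (hgen' _ (hR.conj_mem r hr a))
  obtain ⟨j, hj⟩ := mem_zpowers_iff.1 (hgen' _ (hR.conj_mem r hr b))
  have h1 : a * b * r * (a * b)⁻¹ = b * a * r * (b * a)⁻¹ := by
    rw [conj_mul_eq, conj_mul_eq, ← hi, ← hj, ← conj_zpow, ← conj_zpow, ← hi, ← hj, ← zpow_mul, ← zpow_mul,
      mul_comm i j]
  rw [Subgroup.mem_centralizer_iff]
  intro x hx
  obtain ⟨l, hl⟩ := mem_zpowers_iff.1 (hgen' _ (hR.conj_mem x hx (b * a)⁻¹))
  rw [inv_inv] at hl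
  have h2 : a * b * r ^ l * (a * b)⁻¹ = b * a * r ^ l * (b * a)⁻¹ := by
    rw [← conj_zpow, ← conj_zpow, h1]
  rw [hl] at h2
  have h3 : ⁅a, b⁆ * x * ⁅a, b⁆⁻¹ = x := by
    calc ⁅a, b⁆ * x * ⁅a, b⁆⁻¹ = a * b * ((b * a)⁻¹ * x * (b * a)) * (a * b)⁻¹ := by
          rw [commutatorElement_def]; group
      _ = _ := by rw [h2]; group
  exact (mul_inv_eq_iff_eq_mul.1 h3).symm

theorem le_centralizer_solvable (D : Data H U) (hperf : ⁅N, N⁆ = N) (hg : Pivot g) :
    ∀ (n : ℕ) (L : Subgroup H), Nat.card ↥L ≤ n → L.Normal → L ≤ N → Group.IsSolvable ↥L →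
      N ≤ centralizer (L : Set H) := by
  intro n
  induction n with
  | zero => intro L hL; exact absurd hL (Nat.not_le.2 Nat.card_pos)
  | succ n ih =>
    intro L hL hLn hLN hLs
    haveI := hLn
    haveI := hLs
    rcases eq_or_ne L ⊥ with rfl | hne
    · intro x _
      rw [Subgroup.mem_centralizer_iff]
      intro y hy
      rw [SetLike.mem_coe, mem_bot] at hy
      rw [hy, one_mul, mul_one]
    haveI : Nontrivial ↥L := (nontrivial_iff_ne_bot L).2 hne
    -- the derived subgroup is centralised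
    have hder : ⁅L, L⁆ < L := by
      refine lt_of_le_of_ne (commutator_le_self L) fun e => ?_
      apply (Group.IsSolvable.commutator_lt_top_of_nontrivial ↥L).ne
      apply map_injective L.subtype_injective
      rw [map_subtype_commutator, e, ← MonoidHom.range_eq_map, range_subtype]
    have h' : N ≤ centralizer ((⁅L, L⁆ : Subgroup H) : Set H) := by
      refine ih _ ?_ inferInstance (hder.le.trans hLN)
        (solvable_of_solvable_injective (f := Subgroup.inclusion hder.le) (Subgroup.inclusion_injective hder.le))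
      have := Set.ncard_lt_ncard (SetLike.coe_ssubset_coe.2 hder) (Set.toFinite _)
      rw [← Nat.card_coe_set_eq, ← Nat.card_coe_set_eq] at this
      have h2 : Nat.card ↥(⁅L, L⁆ : Subgroup H) < Nat.card ↥L := this
      omega
    -- so `L` is nilpotent
    haveI hnil : Group.IsNilpotent ↥L := by
      refine Subgroup.isNilpotent_of_ker_le_center (Abelianization.of (G := ↥L)) ?_
      intro c hc
      rw [Abelianization.ker_of] at hc
      have hcm : (c : H) ∈ ⁅L, L⁆ := by rw [← map_subtype_commutator]; exact mem_map_of_mem _ hc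
      refine mem_center_iff.2 fun l => Subtype.ext ?_
      exact ((Subgroup.mem_centralizer_iff.1 (h' (hLN l.2)) _ hcm)).symm
    -- each Sylow subgroup of `L` is centralised
    have hsyl : ∀ (p : ℕ) [Fact p.Prime] (P : Sylow p ↥L),
        (P : Subgroup ↥L).map L.subtype ≤ centralizer (N : Set H) := by
      intro p _ P
      haveI hPn : (P : Subgroup ↥L).Normal := P.normal_of_normalizerCondition Group.normalizerCondition_of_isNilpotent
      haveI := P.characteristic_of_normal hPn
      have hp : IsPGroup p ↥((P : Subgroup ↥L).map L.subtype) := P.isPGroup'.map _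
      rw [← le_centralizer_iff]
      by_cases hp2 : p = 2
      · subst hp2
        rw [D.normal_two_eq_bot inferInstance hp]
        intro x _
        rw [Subgroup.mem_centralizer_iff]
        intro y hy
        rw [SetLike.mem_coe, mem_bot] at hy
        rw [hy, one_mul, mul_one]
      · exact le_centralizer_cyclic hperf inferInstance (hg.normal_cyclic p Fact.out hp2 _ inferInstance hp)
    rw [le_centralizer_iff]
    have hdvd : Nat.card ↥L ∣ Nat.card ↥(centralizer (N : Set H) ⊓ L : Subgroup H) := by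
      rw [Nat.dvd_iff_prime_pow_dvd_dvd]
      intro p k hp hk
      haveI : Fact p.Prime := ⟨hp⟩
      obtain ⟨P⟩ : Nonempty (Sylow p ↥L) := inferInstance
      have h1 : Nat.card ↥((P : Subgroup ↥L).map L.subtype) = Nat.card ↥(P : Subgroup ↥L) :=
        (Nat.card_congr (equivMapOfInjective _ _ L.subtype_injective).toEquiv).symm
      refine dvd_trans ?_ (card_dvd_of_le (le_inf (hsyl p P) (map_subtype_le _)))
      rw [h1]
      exact P.pow_dvd_card_of_pow_dvd_card hk
    have := eq_of_le_of_card_ge (inf_le_right : centralizer (N : Set H) ⊓ L ≤ L) (Nat.le_of_dvd Nat.card_pos hdvd)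
    exact this ▸ inf_le_left

/-- The point as a Sylow 2-subgroup of `N`. -/
def ptSylow [N.Normal] (S : Pts N) : Sylow 2 ↥N where
  toSubgroup := S.1.subgroupOf N
  isPGroup' := (pts_pgroup S).comap_of_injective _ N.subtype_injective
  is_maximal' := fun {Q} hQ hle => by
    have h1 : S.1 ≤ Q.map N.subtype := fun s hs =>
      ⟨⟨s, pts_le S hs⟩, hle (show _ ∈ S.1.subgroupOf N from hs), rfl⟩
    have h2 : Q.map N.subtype = S.1 := pts_max h1 (map_subtype_le Q) (hQ.map _)
    refine le_antisymm (fun q hq => ?_) hle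
    show (q : H) ∈ S.1
    rw [← h2]
    exact mem_map_of_mem _ hq

theorem exists_mem_smul_eq [N.Normal] (S T : Pts N) : ∃ n ∈ N, n • S = T := by
  haveI : Fact (Nat.Prime 2) := ⟨Nat.prime_two⟩
  obtain ⟨n, hn⟩ := MulAction.exists_smul_eq ↥N (ptSylow S) (ptSylow T)
  refine ⟨n, n.2, pts_ext fun x hx => ?_⟩
  rw [pts_smul_val, mem_conj_smul] at hx
  have h1 : MulAut.conj n (⟨(n : H)⁻¹ * x * n, pts_le S hx⟩ : ↥N) ∈
      ((n • ptSylow S : Sylow 2 ↥N) : Subgroup ↥N) := by
    rw [Sylow.coe_subgroup_smul]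
    exact smul_mem_pointwise_smul _ (MulAut.conj n) (ptSylow S : Subgroup ↥N) hx
  rw [hn] at h1
  have h2 : (n : H) * ((n : H)⁻¹ * x * n) * (n : H)⁻¹ ∈ T.1 := h1
  rwa [show (n : H) * ((n : H)⁻¹ * x * n) * (n : H)⁻¹ = x by group] at h2

theorem isCoatom_stabilizer (D : Data H U) (R : Residual N) [hN : N.Normal] (hg : Pivot g) (S : Pts N) :
    IsCoatom (MulAction.stabilizer H S) := by
  classical
  haveI : Fact (Nat.Prime 2) := ⟨Nat.prime_two⟩
  haveI := R.pts_nontrivial
  refine ⟨?_, fun M hM => ?_⟩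
  · intro h
    obtain ⟨T, hT⟩ := exists_ne S
    obtain ⟨c, rfl⟩ := MulAction.exists_smul_eq H S T
    exact hT (MulAction.mem_stabilizer_iff.1 (h ▸ mem_top c))
  have hperf := R.commutator_eq
  have hnorm : ∀ a, a ∈ MulAction.stabilizer H S ↔ a ∈ normalizer (S.1 : Set H) := fun a => pts_smul_eq_iff a S
  by_cases hall : ∀ y t : H, y ∈ M → t ∈ M → y ≠ 1 → IsPrimePow (orderOf y) → Odd (orderOf y) →
      t * y * t⁻¹ = y⁻¹ → y ∈ centralizer (N : Set H)
  · exfalso
    set C' := (centralizer (N : Set H)).subgroupOf M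
    have hSM : S.1 ≤ M := fun s hs => hM.le ((hnorm s).2 (Subgroup.le_normalizer hs))
    obtain ⟨P, hP⟩ := ((pts_pgroup S).comap_of_injective M.subtype M.subtype_injective).exists_le_sylow
    set L := (P : Subgroup ↥M) ⊔ C' with hL
    haveI hLn : L.Normal := by
      have hQn := two_closed_of_no_real (K := ↥M ⧸ C') (fun y' t' hy' hpp hodd hinv => by
        obtain ⟨y, t, hfy, hy, hypp, hyodd, hyinv⟩ :=
          exists_real_lift (QuotientGroup.mk' C') (QuotientGroup.mk'_surjective C') hpp hodd hinv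
        refine hy' (hfy ▸ (QuotientGroup.eq_one_iff y).2 ?_)
        exact hall y t y.2 t.2 (fun e => hy (Subtype.ext e)) (by rwa [orderOf_coe]) (by rwa [orderOf_coe])
          (congrArg Subtype.val hyinv))
        (P.mapSurjective (QuotientGroup.mk'_surjective C'))
      have h1 : L = ((P : Subgroup ↥M).map (QuotientGroup.mk' C')).comap (QuotientGroup.mk' C') := by
        rw [comap_map_eq, QuotientGroup.ker_mk']
      rw [h1]
      exact Subgroup.Normal.comap hQn _
    have htop := Sylow.normalizer_sup_eq_top' (N := L) P le_sup_left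
    have hsup : normalizer ((P : Subgroup ↥M) : Set ↥M) ⊔ C' = ⊤ := by
      refine top_le_iff.1 (htop ▸ sup_le le_sup_left (sup_le (Subgroup.le_normalizer.trans le_sup_left) le_sup_right))
    have hNP : ∀ m ∈ normalizer ((P : Subgroup ↥M) : Set ↥M), (m : H) ∈ MulAction.stabilizer H S := by
      intro m hm
      rw [hnorm]
      have h2 : (P : Subgroup ↥M).map M.subtype ⊓ N = S.1 :=
        pts_max (le_inf (fun s hs => ⟨⟨s, hSM hs⟩, hP hs, rfl⟩) (pts_le S)) inf_le_right
          ((P.isPGroup'.map _).to_le inf_le_left)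
      refine mem_normalizer_fintype fun x hx => ?_
      show (m : H) * x * (m : H)⁻¹ ∈ S.1
      rw [← h2] at hx ⊢
      obtain ⟨⟨x', hx', rfl⟩, hxN⟩ := hx
      exact ⟨⟨m * x' * m⁻¹, (Subgroup.mem_normalizer_iff.1 hm x').1 hx', rfl⟩, hN.conj_mem _ hxN _⟩
    have hC' : C' ≤ (MulAction.stabilizer H S).subgroupOf M := by
      intro c hc
      show (c : H) ∈ MulAction.stabilizer H S
      rw [hnorm]
      refine mem_normalizer_fintype fun x hx => ?_
      rw [show (c : H) * x = x * (c : H) from
        ((Subgroup.mem_centralizer_iff.1 (hc : (c : H) ∈ centralizer (N : Set H))) x (pts_le S hx)).symm,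
        mul_inv_cancel_right]
      exact hx
    have h3 : (⊤ : Subgroup ↥M) ≤ (MulAction.stabilizer H S).subgroupOf M :=
      hsup ▸ sup_le (fun m hm => hNP m hm) hC'
    exact hM.not_ge fun m hm => h3 (mem_top ⟨m, hm⟩)
  · push_neg at hall
    obtain ⟨y, t, hyM, -, hy, hpp, hodd, hinv, hyN⟩ := hall
    set Y := normalClosure ({y} : Set H) with hY
    have hYM : Y ≤ M := by
      rw [hY, Subgroup.normalClosure, closure_le]
      intro z hz
      rw [Group.mem_conjugatesOfSet_iff] at hz
      obtain ⟨w, hw, hz⟩ := hz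
      rw [Set.mem_singleton_iff] at hw
      subst w
      obtain ⟨a, rfl⟩ := isConj_iff.1 hz
      obtain ⟨c, hc, hcS⟩ := D.real_trans hy hpp hodd hinv S (a⁻¹ • S)
      have hk : a * c ∈ MulAction.stabilizer H S := by
        rw [MulAction.mem_stabilizer_iff, mul_smul, hcS, smul_inv_smul]
      have : a * y * a⁻¹ = (a * c) * y * (a * c)⁻¹ := by
        rw [conj_mul_eq, hc, mul_inv_cancel_right]
      rw [SetLike.mem_coe, this]
      exact M.mul_mem (M.mul_mem (hM.le hk) hyM) (M.inv_mem (hM.le hk))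
    set L := ⁅Y, N⁆ with hL
    haveI : L.Normal := inferInstance
    have hLN : L ≤ N := commutator_le_right _ _
    by_cases hLe : L = N
    · have hNM : N ≤ M := hLe ▸ (commutator_le_left Y N).trans hYM
      refine eq_top_iff.2 fun a _ => ?_
      obtain ⟨n, hn, hnS⟩ := exists_mem_smul_eq S (a • S)
      have hk : n⁻¹ * a ∈ MulAction.stabilizer H S := by
        rw [MulAction.mem_stabilizer_iff, mul_smul, ← hnS, inv_smul_smul]
      rw [show a = n * (n⁻¹ * a) by group]
      exact M.mul_mem (hNM hn) (hM.le hk)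
    · exfalso
      have hc := le_centralizer_solvable D hperf hg _ L le_rfl inferInstance hLN (R.minimal L inferInstance hLN hLe)
      have h1 : ⁅⁅Y, N⁆, N⁆ = ⊥ := commutator_eq_bot_iff_le_centralizer.2 (le_centralizer_iff.1 hc)
      have h2 : ⁅⁅N, Y⁆, N⁆ = ⊥ := by rw [commutator_comm N Y]; exact h1
      have h3 : ⁅⁅N, N⁆, Y⁆ = ⊥ := commutator_commutator_eq_bot_of_rotate h2 h1
      rw [hperf, commutator_comm, commutator_eq_bot_iff_le_centralizer] at h3
      exact hyN (h3 (subset_normalClosure rfl))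

theorem Data.two_transitive (D : Data H U) (R : Residual N) [hN : N.Normal] {u : H} {S₁ : Pts N} {h k : ℕ}
    (E : Doubled U u S₁ h k) (S T T' : Pts N) (hT : T ≠ S) (hT' : T' ≠ S) :
    ∃ c ∈ MulAction.stabilizer H S, c • T = T' := by
  classical
  obtain ⟨g, hg⟩ := D.exists_pivot E
  haveI := R.pts_nontrivial
  haveI hprim : MulAction.IsPreprimitive H (Pts N) :=
    (MulAction.isCoatom_stabilizer_iff_preprimitive H S).1 (isCoatom_stabilizer D R hg S)
  let φ := MulAction.toPermHom H (Pts N)
  let G' := φ.range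
  haveI hprim' : MulAction.IsPreprimitive ↥G' (Pts N) := by
    let f : Pts N →ₑ[(φ.rangeRestrict : H → ↥G')] Pts N := ⟨id, fun _ _ => rfl⟩
    exact MulAction.IsPreprimitive.of_surjective (f := f) Function.surjective_id
  haveI htr : MulAction.IsPretransitive ↥G' (Pts N) := hprim'.toIsPretransitive
  haveI : Finite ↥G' := inferInstance
  haveI := hg.cyclic
  set C := (centralizer ({g} : Set H)).map φ.rangeRestrict with hC
  haveI hCcyc : IsCyclic ↥C :=
    isCyclic_of_surjective (φ.rangeRestrict.subgroupMap (centralizer ({g} : Set H)))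
      (MonoidHom.subgroupMap_surjective _ _)
  obtain ⟨t, ht⟩ := hg.real
  haveI hCtr : MulAction.IsPretransitive ↥C (Pts N) := ⟨fun A B => by
    obtain ⟨c, hc, hcA⟩ := D.real_trans hg.ne_one hg.pp hg.odd ht A B
    exact ⟨⟨φ.rangeRestrict c, mem_map_of_mem _ (mem_centralizer_singleton_iff.2 hc)⟩, hcA⟩⟩
  have hfree : ∀ a : Pts N, MulAction.stabilizer ↥C a = ⊥ := by
    intro a
    letI := IsCyclic.commGroup (α := ↥C)
    rw [eq_bot_iff]
    intro c hc
    rw [mem_bot]
    refine Subtype.ext (Subtype.ext (Equiv.ext fun b => ?_))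
    obtain ⟨d, rfl⟩ := MulAction.exists_smul_eq ↥C a b
    show c • d • a = d • a
    rw [← mul_smul, mul_comm, mul_smul, MulAction.mem_stabilizer_iff.1 hc]
  obtain ⟨hm, hh⟩ := E.fixCount_pos D
  have hn : Nat.card (Pts N) = k * (2 ^ h + 1) := by
    refine Nat.eq_of_mul_eq_mul_right hm ?_
    rw [E.pts, mul_right_comm, E.fix_pts, two_mul, pow_add]
    have := Nat.one_le_two_pow (n := h)
    rw [Nat.sub_mul, one_mul, Nat.mul_succ]
    omega
  have hn2 : 2 ≤ Nat.card (Pts N) := Finite.one_lt_card
  have h2tr : MulAction.IsMultiplyPretransitive ↥G' (Pts N) 2 := by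
    by_cases hpp : IsPrimePow (Nat.card (Pts N))
    · obtain ⟨p, e, hp, he, hpe⟩ := hpp
      rw [← Nat.prime_iff] at hp
      refine CyclicRegular.isMultiplyPretransitive_of_prime_pow htr hprim' hp ?_ hpe.symm C hCcyc ⟨hCtr, hfree⟩
      by_contra he2
      obtain rfl : e = 1 := by omega
      rw [pow_one] at hpe
      rw [← hpe] at hn
      rcases (Nat.dvd_prime hp).1 (Dvd.intro _ hn.symm) with e1 | e1
      · have := E.two_le; omega
      · have h1 : k * 1 = k * (2 ^ h + 1) := by rw [mul_one, ← hn]; exact e1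
        have := Nat.eq_of_mul_eq_mul_left (by have := E.two_le; omega) h1
        have := Nat.one_le_two_pow (n := h)
        omega
    · exact (S3559.result htr hn2 hpp C hCcyc ⟨hCtr, hfree⟩).resolve_left (not_not_intro hprim')
  obtain ⟨c, hc1, hc2⟩ := MulAction.is_two_pretransitive_iff.1 h2tr hT.symm hT'.symm
  obtain ⟨d, hd⟩ := φ.rangeRestrict_surjective c
  exact ⟨d, by rw [MulAction.mem_stabilizer_iff]; exact (by rw [← hd] at hc1; exact hc1), by rw [← hd] at hc2; exact hc2⟩

end Cfsg.Agent.RealClassGraph
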