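import Cfsg.Agent.Lib.RealClassGraph.Basic

/-!
# The two reduced situations (owner: helper55)

* `Setup G z` : what a disconnected real class graph leaves in `G ⧸ O(G)` about the image `z` of
  the involution with an isolated class size;
* `Data H U` : a group acting on an elementary abelian 2-group in which every non-trivial vector has
  a 2-closed stabiliser of odd index and every real element of odd prime-power order has a
  centraliser transitive on the Sylow 2-subgroups.
-/

set_option autoImplicit false

namespace Cfsg.Agent.RealClassGraph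

open Subgroup
open scoped Pointwise

universe u

structure Setup (G : Type u) [Group G] (z : G) : Prop where
  z_inv : orderOf z = 2
  comm : ∀ g : G, g * z * g⁻¹ * z = z * (g * z * g⁻¹)
  two_closed : ∀ P : Sylow 2 ↥(centralizer ({z} : Set G)), (P : Subgroup ↥(centralizer ({z} : Set G))).Normal
  index_odd : Odd (centralizer ({z} : Set G)).index
  not_central : centralizer ({z} : Set G) ≠ ⊤
  mixed : ∀ v y t : G, v ∈ normalClosure ({z} : Set G) → v * v = 1 → y ≠ 1 → IsPrimePow (orderOf y) →
    Odd (orderOf y) → t * y * t⁻¹ = y⁻¹ → y * v = v * y → t * v = v * t →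
    ∀ g : G, ∃ c k : G, c * v = v * c ∧ c * y = y * c ∧ k * z = z * k ∧ g = c * k
  alt : ∀ v : G, v ∈ normalClosure ({z} : Set G) → v * v = 1 →
    Odd (centralizer ({v} : Set G)).index ∨
      ∀ g : G, ∃ c k : G, c * v = v * c ∧ k * z = z * k ∧ g = c * k

structure Data (H U : Type u) [Group H] [Finite H] [CommGroup U] [Finite U] [MulDistribMulAction H U]
    [FaithfulSMul H U] : Prop where
  two : ∀ x : U, x * x = 1
  nontriv : ∃ x : U, x ≠ 1
  stab_odd : ∀ x : U, x ≠ 1 → Odd (MulAction.stabilizer H x).index
  stab_closed : ∀ x : U, x ≠ 1 → ∀ P : Sylow 2 ↥(MulAction.stabilizer H x), (P : Subgroup ↥(MulAction.stabilizer H x)).Normal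
  trans : ∀ y t : H, y ≠ 1 → IsPrimePow (orderOf y) → Odd (orderOf y) → t * y * t⁻¹ = y⁻¹ →
    ∀ P Q : Sylow 2 H, ∃ c : H, c * y = y * c ∧ c • P = Q

end Cfsg.Agent.RealClassGraph
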