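import Cfsg.Agent.Lib.RealClassGraph.Irred
import Cfsg.Agent.Lib.Involution.BaerSuzuki

/-!
# `|U| = 64`: real elements and their centralisers (owner: helper55)

When real elements of odd prime-power order have centralisers transitive on the 63 non-trivial vectors,
real elements of prime order have order 3, their centralisers have odd order and contain an element of
order 7 which acts without fixed points.
-/

set_option autoImplicit false

namespace Cfsg.Agent.RealClassGraph

open Subgroup
open scoped Pointwise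

universe u

variable {H U : Type u} [Group H] [Finite H] [CommGroup U] [Finite U] [MulDistribMulAction H U]
  [FaithfulSMul H U]

variable (H U) in
/-- `|U| = 64` and real elements have centralisers transitive on the non-trivial vectors. -/
structure Big63 : Prop where
  data : Data H U
  card : Nat.card U = 2 ^ 6
  trans : ∀ z s : H, z ≠ 1 → IsPrimePow (orderOf z) → Odd (orderOf z) → s * z * s⁻¹ = z⁻¹ →
    ∀ v w : U, v ≠ 1 → w ≠ 1 → ∃ c : H, c * z = z * c ∧ c • v = w

theorem Big63.invariant_eq (B : Big63 H U) {z s : H} (hz : z ≠ 1) (hpp : IsPrimePow (orderOf z))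
    (hodd : Odd (orderOf z)) (hinv : s * z * s⁻¹ = z⁻¹) (W : Subgroup U)
    (hW : ∀ c : H, c * z = z * c → ∀ w ∈ W, c • w ∈ W) : W = ⊥ ∨ W = ⊤ := by
  by_cases h : W = ⊥
  · exact Or.inl h
  · obtain ⟨⟨v, hvW⟩, hv⟩ := Subgroup.ne_bot_iff_exists_ne_one.1 h
    refine Or.inr (eq_top_iff.2 fun w _ => ?_)
    by_cases hw : w = 1
    · rw [hw]; exact W.one_mem
    · obtain ⟨c, hc, rfl⟩ := B.trans z s hz hpp hodd hinv v w (fun e => hv (Subtype.ext e)) hw
      exact hW c hc v hvW

theorem Big63.semireg_real (B : Big63 H U) {z s : H} (hz : z ≠ 1) (hodd : Odd (orderOf z))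
    (hinv : s * z * s⁻¹ = z⁻¹) : Semireg U z := fun i hi x hx =>
  B.data.fpf (t := s) hi (hodd.of_dvd_nat (orderOf_pow_dvd i)) (conj_pow_pow hinv i) hx

theorem Big63.dvd_63 (B : Big63 H U) {g : H} (hg : Semireg U g) : orderOf g ∣ 63 := by
  have := orderOf_dvd_card_sub_one hg (W := ⊤) fun _ _ => mem_top _
  rwa [card_top, B.card] at this

/-- The relation `p v * (q v * v) = 1`. -/
def relHom (p q : H) : U →* U where
  toFun v := p • v * (q • v * v)
  map_one' := by simp
  map_mul' v w := by simp only [smul_mul']; ac_rfl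

omit [Finite H] [Finite U] [FaithfulSMul H U] in
theorem relHom_apply (p q : H) (v : U) : relHom p q v = p • v * (q • v * v) := rfl

theorem Big63.order_eq_three (B : Big63 H U) {y t : H} (hy : (orderOf y).Prime) (hodd : Odd (orderOf y))
    (hinv : t * y * t⁻¹ = y⁻¹) : orderOf y = 3 := by
  classical
  have hy1 : y ≠ 1 := fun e => hy.ne_one (by rw [e, orderOf_one])
  have hs := B.semireg_real hy1 hodd hinv
  have h63 := B.dvd_63 hs
  have h37 : orderOf y = 3 ∨ orderOf y = 7 := by
    have h1 : orderOf y ∣ 3 ∨ orderOf y ∣ 3 ∨ orderOf y ∣ 7 := by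
      rw [show (63 : ℕ) = 3 * (3 * 7) by norm_num] at h63
      rcases hy.dvd_mul.1 h63 with h | h
      · exact Or.inl h
      · exact Or.inr (hy.dvd_mul.1 h)
    rcases h1 with h | h | h
    · exact Or.inl ((Nat.prime_dvd_prime_iff_eq hy Nat.prime_three).1 h)
    · exact Or.inl ((Nat.prime_dvd_prime_iff_eq hy Nat.prime_three).1 h)
    · exact Or.inr ((Nat.prime_dvd_prime_iff_eq hy (by norm_num)).1 h)
  refine h37.resolve_right fun h7 => ?_
  have hy7 : y ^ 7 = 1 := h7 ▸ pow_orderOf_eq_one y
  have hred : ∀ (k : ℕ) (v : U), y ^ k • v = y ^ (k % 7) • v := fun k v => by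
    rw [← pow_mod_orderOf y k, h7]
  have hS : ∀ v : U, relHom (y ^ 3) (y ^ 1) (relHom (y ^ 3) (y ^ 2) v) = 1 := by
    intro v
    set S := y ^ 6 • v * (y ^ 5 • v * (y ^ 4 • v * (y ^ 3 • v * (y ^ 2 • v * (y ^ 1 • v * v))))) with hSdef
    have h1 : relHom (y ^ 3) (y ^ 1) (relHom (y ^ 3) (y ^ 2) v) = (y ^ 3 • v * y ^ 3 • v) * S := by
      simp only [relHom_apply, hSdef, smul_mul', ← mul_smul, ← pow_add, Nat.reduceAdd]
      ac_rfl
    rw [h1, B.data.two, one_mul]
    refine hs 1 (by rwa [pow_one]) S ?_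
    simp only [hSdef, smul_mul', ← mul_smul, ← pow_add, Nat.reduceAdd]
    rw [hy7, one_smul]
    ac_rfl
  have hker : ∀ j : ℕ, (relHom (U := U) (y ^ 3) (y ^ j)).ker = ⊥ ∨ (relHom (U := U) (y ^ 3) (y ^ j)).ker = ⊤ := by
    intro j
    refine B.invariant_eq hy1 hy.isPrimePow hodd hinv _ fun c hc w hw => ?_
    rw [MonoidHom.mem_ker, relHom_apply] at hw ⊢
    have hcp : ∀ k : ℕ, y ^ k • c • w = c • y ^ k • w := fun k => by
      rw [← mul_smul, ← mul_smul, ((Commute.pow_right (show Commute c y from hc)) k).eq]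
    rw [hcp, hcp, ← smul_mul', ← smul_mul', hw, smul_one]
  have hconj : ∀ i j : ℕ, (∀ v : U, y ^ i • v * (y ^ j • v * v) = 1) →
      ∀ v : U, y ^ ((6 * i + 3) % 7) • v * (y ^ ((6 * j + 3) % 7) • v * y ^ 3 • v) = 1 := by
    intro i j h v
    have hy6 : y⁻¹ = y ^ 6 := inv_eq_of_mul_eq_one_right (by rw [← pow_succ', hy7])
    have ht : ∀ (k : ℕ) (x : U), t • y ^ k • x = y ^ (6 * k) • t • x := fun k x => by
      rw [← mul_smul, ← mul_smul]
      congr 1
      rw [pow_mul, ← hy6, ← conj_pow_inv_aux hinv k]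
      group
    have h1 := congrArg (fun z : U => t • z) (h (t⁻¹ • y ^ 3 • v))
    simp only [smul_mul', smul_one, ht, smul_inv_smul, ← mul_smul (y ^ _) (y ^ _), ← pow_add] at h1
    rw [← hred, ← hred]
    exact h1
  have hboth : ∀ v : U, y ^ 2 • v = y ^ 1 • v := by
    have hfin : (∀ v : U, y ^ 3 • v * (y ^ 1 • v * v) = 1) → (∀ v : U, y ^ 3 • v * (y ^ 2 • v * v) = 1) →
        ∀ v : U, y ^ 2 • v = y ^ 1 • v := fun h1 h2 v =>
      mul_right_cancel (mul_left_cancel ((h2 v).trans (h1 v).symm))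
    rcases hker 2 with h2 | h2
    · have h1' : ∀ v : U, y ^ 3 • v * (y ^ 1 • v * v) = 1 := by
        rcases hker 1 with h1 | h1
        · obtain ⟨a, ha⟩ := B.data.nontriv
          exact absurd (by
            have := MonoidHom.mem_ker.2 (hS a)
            rw [h1, mem_bot] at this
            have := MonoidHom.mem_ker.2 this
            rwa [h2, mem_bot] at this) ha
        · intro v; exact MonoidHom.mem_ker.1 (h1 ▸ mem_top v : v ∈ (relHom (y ^ 3) (y ^ 1)).ker)
      refine hfin h1' fun v => ?_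
      have h3 := hconj 3 1 h1' v
      norm_num at h3
      rw [← h3]
      ac_rfl
    · have h2' : ∀ v : U, y ^ 3 • v * (y ^ 2 • v * v) = 1 := fun v =>
        MonoidHom.mem_ker.1 (h2 ▸ mem_top v : v ∈ (relHom (y ^ 3) (y ^ 2)).ker)
      refine hfin (fun v => ?_) h2'
      have h3 := hconj 3 2 h2' v
      norm_num at h3
      rw [← h3, pow_one]
      ac_rfl
  refine hy1 (eq_of_smul_eq_smul (α := U) fun v => ?_)
  have h := hboth v
  rw [pow_two, pow_one, mul_smul] at h
  rw [one_smul]
  exact MulAction.injective y h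
where
  conj_pow_inv_aux {G : Type u} [Group G] {t y : G} (h : t * y * t⁻¹ = y⁻¹) (k : ℕ) :
      t * y ^ k * t⁻¹ = y⁻¹ ^ k := by rw [← conj_pow, h]

theorem Big63.rel_three (B : Big63 H U) {z : H} (hs : Semireg U z) (hz : orderOf z = 3) (v : U) :
    z • z • v = z • v * v := by
  have hz3 : z ^ 3 = 1 := hz ▸ pow_orderOf_eq_one z
  have h1 : z • (z • z • v * (z • v * v)) = z • z • v * (z • v * v) := by
    have h3 : z • z • z • v = v := by rw [← mul_smul, ← mul_smul, ← pow_three', hz3, one_smul]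
    simp only [smul_mul', h3]
    ac_rfl
  have h2 := hs 1 (by rw [pow_one]; intro e; rw [e, orderOf_one] at hz; omega) _ (by rwa [pow_one])
  exact B.data.eq_one_iff.1 h2

/-- Two commuting elements of order 3 without fixed points split `U`. -/
theorem Big63.split (B : Big63 H U) {y z : H} (hys : Semireg U y) (hy : orderOf y = 3)
    (hzs : Semireg U z) (hz : orderOf z = 3) (hc : y * z = z * y) :
    Nat.card {v : U // z • v = y • v} * Nat.card {v : U // z • v = y • y • v} = Nat.card U := by
  have hY := B.rel_three hys hy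
  have hZ := B.rel_three hzs hz
  have hcm : ∀ v : U, z • y • v = y • z • v := fun v => by rw [← mul_smul, ← mul_smul, hc]
  have hY3 : ∀ v : U, y • y • y • v = v := fun v => by
    rw [← mul_smul, ← mul_smul, ← pow_three', ← hy, pow_orderOf_eq_one, one_smul]
  rw [← Nat.card_prod]
  refine Nat.card_eq_of_bijective (fun p => p.1.1 * p.2.1) ⟨?_, fun v => ?_⟩
  · rintro ⟨⟨a, ha⟩, ⟨b, hb⟩⟩ ⟨⟨a', ha'⟩, ⟨b', hb'⟩⟩ h
    replace h : a * b = a' * b' := h
    have h1 : a * a' = b * b' := by
      apply B.data.eq_one_iff.1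
      rw [show a * a' * (b * b') = (a * b) * (a' * b') by ac_rfl, h, B.data.two]
    have h2 : z • (a * a') = y • (a * a') := by rw [smul_mul', smul_mul', ha, ha']
    have h3 : z • (a * a') = y • y • (a * a') := by rw [h1, smul_mul', smul_mul', smul_mul', hb, hb']
    have h4 : a * a' = 1 := hys 1 (by rw [pow_one]; intro e; rw [e, orderOf_one] at hy; omega) _ (by
      rw [pow_one]
      exact MulAction.injective y (h2.symm.trans h3).symm)
    obtain rfl := B.data.eq_one_iff.1 h4
    obtain rfl := mul_left_cancel h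
    rfl
  · have hcan : ∀ p q : U, p * (p * q) = q := fun p q => by rw [← mul_assoc, B.data.two, one_mul]
    refine ⟨⟨⟨z • v * y • y • v, ?_⟩, ⟨z • v * y • v, ?_⟩⟩, ?_⟩
    · simp only [smul_mul', hcm, hY3, hZ, hY, mul_comm, mul_left_comm, mul_assoc, B.data.two, hcan, mul_one,
        one_mul]
    · simp only [smul_mul', hcm, hY3, hZ, hY, mul_comm, mul_left_comm, mul_assoc, B.data.two, hcan, mul_one,
        one_mul]
    · show z • v * y • y • v * (z • v * y • v) = v
      rw [hY, show z • v * (y • v * v) * (z • v * y • v) = (z • v * z • v) * (y • v * y • v) * v by ac_rfl,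
        B.data.two, B.data.two, one_mul, one_mul]

theorem Big63.centralizer_odd (B : Big63 H U) {y t : H} (hy : orderOf y = 3) (hinv : t * y * t⁻¹ = y⁻¹) :
    Odd (Nat.card ↥(centralizer ({y} : Set H))) := by
  haveI : Fact (Nat.Prime 2) := ⟨Nat.prime_two⟩
  have hy1 : y ≠ 1 := fun e => by rw [e, orderOf_one] at hy; omega
  have hodd : Odd (orderOf y) := hy ▸ (by decide : Odd 3)
  have hys := B.semireg_real hy1 hodd hinv
  by_contra hC
  obtain ⟨v, hv⟩ := exists_prime_orderOf_dvd_card' 2 (even_iff_two_dvd.1 (Nat.not_odd_iff_even.1 hC))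
  obtain ⟨y', hy', hy'odd, hy'inv⟩ := Involution.exists_inverted_odd hv fun O hO hO2 hvO => by
    haveI := hO
    set O' := O.map (centralizer ({y} : Set H)).subtype with hO'
    have hfix : fix U (O' : Set H) = ⊥ ∨ fix U (O' : Set H) = ⊤ := by
      refine B.invariant_eq hy1 (hy ▸ Nat.prime_three.isPrimePow) hodd hinv _ fun c hc w hw => ?_
      rintro _ ⟨o, ho, rfl⟩
      set c' : ↥(centralizer ({y} : Set H)) := ⟨c, mem_centralizer_singleton_iff.2 hc⟩
      have h1 := hw _ ⟨_, hO.conj_mem o ho c'⁻¹, rfl⟩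
      simp only [coe_subtype, coe_mul, coe_inv, inv_inv, c', mul_smul] at h1
      rw [coe_subtype]
      rwa [inv_smul_eq_iff] at h1
    rcases hfix with h | h
    · obtain ⟨a, ha⟩ := B.data.nontriv
      obtain ⟨w, -, hw1, hw⟩ := B.data.exists_fixed_in (W := ⊤) (fun e => ha (by
        rw [← mem_bot, ← e]; exact mem_top a)) (hO2.map _) fun _ _ _ _ => mem_top _
      exact hw1 (by rw [← mem_bot, ← h]; exact hw)
    · have h1 : (v : H) = 1 := eq_of_smul_eq_smul (α := U) fun w => by
        rw [one_smul]; exact (h ▸ mem_top w : w ∈ fix U (O' : Set H)) _ ⟨v, hvO, rfl⟩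
      have h2 := orderOf_coe v
      rw [h1, orderOf_one, hv] at h2
      omega
  obtain ⟨r, hr, hrd⟩ := Nat.exists_prime_and_dvd (fun e : orderOf y' = 1 => hy' (orderOf_eq_one_iff.1 e))
  set z' := y' ^ (orderOf y' / r)
  have hz'o : orderOf z' = r := orderOf_pow_orderOf_div (orderOf_pos y').ne' hrd
  have hz'inv : (v : H) * (z' : H) * (v : H)⁻¹ = (z' : H)⁻¹ :=
    congrArg Subtype.val (conj_pow_pow (t := v) hy'inv (orderOf y' / r))
  have hzo : orderOf (z' : H) = r := by rw [orderOf_coe, hz'o]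
  have hzodd : Odd (orderOf (z' : H)) := hzo ▸ hy'odd.of_dvd_nat hrd
  have hz1 : (z' : H) ≠ 1 := fun e => hr.ne_one (by rw [← hzo, e, orderOf_one])
  have hz3 : orderOf (z' : H) = 3 := B.order_eq_three (t := (v : H)) (hzo ▸ hr) hzodd hz'inv
  have hzs := B.semireg_real (s := (v : H)) hz1 hzodd hz'inv
  set z := (z' : H) with hzdef
  set s := (v : H)
  have hyz : y * z = z * y := (mem_centralizer_singleton_iff.1 z'.2).symm
  have hsy : ∀ w : U, s • y • w = y • s • w := fun w => by
    rw [← mul_smul, ← mul_smul, mem_centralizer_singleton_iff.1 v.2]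
  have hzs' : ∀ w : U, z • s • w = s • z • z • w := by
    intro w
    have h1 : z * s = s * (z * z) := by
      have h3 : z⁻¹ = z * z := inv_eq_of_mul_eq_one_right (by
        rw [← pow_three, ← hz3, pow_orderOf_eq_one])
      have h4 : s * z⁻¹ * s⁻¹ = z := by rw [← conj_inv, hz'inv, inv_inv]
      rw [← h3]
      conv_lhs => rw [← h4]
      rw [inv_mul_cancel_right]
    simp only [← mul_smul, ← mul_assoc, h1]
  have hY3 : ∀ w : U, y • y • y • w = w := fun w => by
    rw [← mul_smul, ← mul_smul, ← pow_three', ← hy, pow_orderOf_eq_one, one_smul]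
  have hcm : ∀ w : U, z • y • w = y • z • w := fun w => by rw [← mul_smul, ← mul_smul, hyz]
  have heq : Nat.card {w : U // z • w = y • w} = Nat.card {w : U // z • w = y • y • w} := by
    refine Nat.card_eq_of_bijective (fun w => ⟨s • w.1, ?_⟩) ⟨?_, fun w => ⟨⟨s⁻¹ • w.1, ?_⟩, ?_⟩⟩
    · rw [hzs', w.2, hcm, w.2, hsy, hsy]
    · intro a b h
      exact Subtype.ext (MulAction.injective s (congrArg Subtype.val h))
    · have hzz : ∀ x : U, z • z • z • x = x := fun x => by
        rw [← mul_smul, ← mul_smul, ← pow_three', ← hz3, pow_orderOf_eq_one, one_smul]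
      show z • (s⁻¹ • w.1) = y • (s⁻¹ • w.1)
      have h5 := hzs' (s⁻¹ • w.1)
      rw [smul_inv_smul, w.2] at h5
      have h6 : z • z • (s⁻¹ • w.1) = y • y • (s⁻¹ • w.1) := MulAction.injective s
        (show s • z • z • (s⁻¹ • w.1) = s • y • y • (s⁻¹ • w.1) by rw [← h5, hsy, hsy, smul_inv_smul])
      have h7 := congrArg (fun x : U => y • z • x) h6
      simp only [hzz, hcm, hY3] at h7
      exact h7.symm
    · exact Subtype.ext (smul_inv_smul s w.1)
  have h1 := B.split hys hy hzs hz3 hyz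
  rw [← heq, B.card] at h1
  have h8 : Nat.card {w : U // z • w = y • w} = 8 := by
    have : Nat.card {w : U // z • w = y • w} * Nat.card {w : U // z • w = y • w} = 8 * 8 := by rw [h1]; norm_num
    nlinarith
  let W : Subgroup U :=
    { carrier := {w | z • w = y • w}
      one_mem' := by simp
      mul_mem' := fun {a b} ha hb => by
        show z • (a * b) = y • (a * b)
        rw [smul_mul', smul_mul', ha, hb]
      inv_mem' := fun {a} ha => by
        show z • a⁻¹ = y • a⁻¹
        rw [smul_inv', smul_inv', ha] }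
  have h9 := orderOf_dvd_card_sub_one hys (W := W) fun w hw => by
    show z • y • w = y • y • w
    rw [hcm, hw]
  rw [hy, show Nat.card ↥W = 8 from h8] at h9
  norm_num at h9

theorem Big63.card_dvd_centralizer (B : Big63 H U) {y t : H} (hy : orderOf y = 3)
    (hinv : t * y * t⁻¹ = y⁻¹) : 63 ∣ Nat.card ↥(centralizer ({y} : Set H)) := by
  have hy1 : y ≠ 1 := fun e => by rw [e, orderOf_one] at hy; omega
  obtain ⟨a, ha⟩ := B.data.nontriv
  have horb : MulAction.orbit ↥(centralizer ({y} : Set H)) a = ({1} : Set U)ᶜ := by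
    ext w
    refine ⟨?_, fun hw => ?_⟩
    · rintro ⟨c, rfl⟩
      exact fun e => ha (MulAction.injective (c : H) (e.trans (smul_one (c : H)).symm))
    · obtain ⟨c, hc, hcw⟩ := B.trans y t hy1 (hy ▸ Nat.prime_three.isPrimePow) (hy ▸ by decide) hinv a w ha hw
      exact ⟨⟨c, mem_centralizer_singleton_iff.2 hc⟩, hcw⟩
  have := MulAction.index_stabilizer ↥(centralizer ({y} : Set H)) a
  rw [horb, Set.ncard_compl, Set.ncard_singleton, B.card] at this
  exact (show (2 : ℕ) ^ 6 - 1 = 63 by norm_num) ▸ this ▸ index_dvd_card _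

theorem Big63.semireg_seven (B : Big63 H U) {y x : H} (hys : Semireg U y) (hy : orderOf y = 3)
    (hx : orderOf x = 7) (hxy : x * y = y * x) : Semireg U x := by
  haveI : Fact (Nat.Prime 7) := ⟨by norm_num⟩
  haveI : Fact (Nat.Prime 2) := ⟨Nat.prime_two⟩
  refine semireg_of_prime (by rw [hx]; norm_num) fun v hv => ?_
  obtain ⟨b, hb⟩ := (B.data.pgroup.to_subgroup (fix U ({x} : Set H))).exists_card_eq
  have h1 := orderOf_dvd_card_sub_one hys (W := fix U ({x} : Set H)) fun w hw => by
    rw [mem_fix_singleton] at hw ⊢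
    rw [← mul_smul, hxy, mul_smul, hw]
  rw [hy, hb] at h1
  have hp : IsPGroup 7 ↥(zpowers x) := IsPGroup.of_card (n := 1) (by rw [Nat.card_zpowers, hx, pow_one])
  have h2 := hp.card_modEq_card_fixedPoints U
  rw [show Nat.card (MulAction.fixedPoints ↥(zpowers x) U) = 2 ^ b by
    rw [← hb]
    refine Nat.card_congr (Equiv.subtypeEquivRight fun w => ?_)
    rw [mem_fix_singleton, MulAction.mem_fixedPoints]
    refine ⟨fun h => h ⟨x, mem_zpowers x⟩, fun h => ?_⟩
    rintro ⟨p, hp'⟩
    exact (zpowers_le.2 (MulAction.mem_stabilizer_iff.2 h) :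
      zpowers x ≤ MulAction.stabilizer H w) hp', B.card] at h2
  have hb6 : b ≤ 6 := by
    have := card_le_card_group (fix U ({x} : Set H))
    rw [hb, B.card] at this
    exact (Nat.pow_le_pow_iff_right (by norm_num : 1 < 2)).1 this
  interval_cases b
  case «0» =>
    have h3 : fix U ({x} : Set H) = ⊥ := card_eq_one.1 (by rw [hb, pow_zero])
    rw [← mem_bot, ← h3]
    exact mem_fix_singleton.2 hv
  case «6» =>
    have h3 := eq_top_of_card_eq _ (hb.trans B.card.symm)
    have : x = 1 := eq_of_smul_eq_smul (α := U) fun w => by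
      rw [one_smul]; exact mem_fix_singleton.1 (h3 ▸ mem_top w)
    rw [this, orderOf_one] at hx
    omega
  all_goals (revert h1 h2; unfold Nat.ModEq; norm_num)

theorem Big63.irred_of_product (B : Big63 H U) {x y : H} (hys : Semireg U y) (hy : orderOf y = 3)
    (hx : orderOf x = 7) (hxy : x * y = y * x) :
    Semireg U (x * y) ∧ orderOf (x * y) = 21 ∧ Irred U (x * y) := by
  have hxs := B.semireg_seven hys hy hx hxy
  have hcomm : Commute x y := hxy
  have hord : orderOf (x * y) = 21 := by
    rw [hcomm.orderOf_mul_eq_mul_orderOf_of_coprime (by rw [hx, hy]; norm_num), hx, hy]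
  have hs : Semireg U (x * y) := by
    intro i hi v hv
    by_contra hv1
    apply hi
    have hmem : (x * y) ^ i ∈ MulAction.stabilizer H v := hv
    have h7 : 7 ∣ i := by
      have h3 := pow_mem hmem 3
      rw [← pow_mul, hcomm.mul_pow,
        (orderOf_dvd_iff_pow_eq_one.1 (hy ▸ dvd_mul_left 3 i) : y ^ (i * 3) = 1), mul_one] at h3
      by_contra h7
      refine hv1 (hxs (i * 3) (fun e => h7 ?_) v h3)
      have := orderOf_dvd_of_pow_eq_one e
      rw [hx] at this
      omega
    have h3 : 3 ∣ i := by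
      rw [hcomm.mul_pow, (orderOf_dvd_iff_pow_eq_one.1 (hx ▸ h7) : x ^ i = 1), one_mul] at hmem
      by_contra h3
      exact hv1 (hys i (fun e => h3 (hy ▸ orderOf_dvd_of_pow_eq_one e)) v hmem)
    exact orderOf_dvd_iff_pow_eq_one.1 (hord ▸ (Nat.Coprime.mul_dvd_of_dvd_of_dvd (by norm_num) h7 h3))
  refine ⟨hs, hord, B.data.irred B.card hs fun b hb0 hb6 => ?_⟩
  rw [hord]
  interval_cases b <;> norm_num

end Cfsg.Agent.RealClassGraph
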