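import Cfsg.Agent.Lib.RealClassGraph.SixtyThree
import Cfsg.Agent.Lib.RealClassGraph.Pivot
import Cfsg.Agent.Lib.Solvable.Basic
import Cfsg.Agent.Lib.OddOrderTheorem.Basic

/-!
# A pivot of order 9 when `|U| = 64` (owner: helper55)
-/

set_option autoImplicit false

namespace Cfsg.Agent.RealClassGraph

open Subgroup
open scoped Pointwise

universe u

variable {H U : Type u} [Group H] [Finite H] [CommGroup U] [Finite U] [MulDistribMulAction H U]
  [FaithfulSMul H U] {x y g : H}

theorem Big63.card_dvd (B : Big63 H U) (Q : Subgroup H)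
    (hQ : ∀ q ∈ Q, q ≠ 1 → ∀ v : U, q • v = v → v = 1) : Nat.card ↥Q ∣ 63 := by
  classical
  letI act : MulAction ↥Q {v : U // v ≠ 1} :=
    { smul := fun p v => ⟨(p : H) • v.1, fun e =>
        v.2 (MulAction.injective (p : H) (e.trans (smul_one (p : H)).symm))⟩
      one_smul := fun v => Subtype.ext (one_smul H v.1)
      mul_smul := fun p q v => Subtype.ext (mul_smul (p : H) (q : H) v.1) }
  have hfree : ∀ b : {v : U // v ≠ 1}, MulAction.stabilizer ↥Q b = ⊥ := by
    intro b
    rw [eq_bot_iff]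
    rintro ⟨p, hp⟩ hpb
    rw [mem_bot]
    by_contra hne
    exact b.2 (hQ p hp (fun e => hne (Subtype.ext e)) b.1
      (congrArg Subtype.val (MulAction.mem_stabilizer_iff.1 hpb)))
  have h1 := Nat.card_congr (MulAction.selfEquivOrbitsQuotientProd hfree)
  rw [Nat.card_prod] at h1
  have h2 : Nat.card {v : U // v ≠ 1} = 63 := by
    haveI := Fintype.ofFinite U
    rw [Nat.card_eq_fintype_card, Fintype.card_subtype_compl, Fintype.card_subtype_eq,
      ← Nat.card_eq_fintype_card, B.card]
    norm_num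
  rw [← h2, h1]
  exact dvd_mul_left _ _

theorem Big63.product_centralizer (B : Big63 H U) (hys : Semireg U y) (hy : orderOf y = 3)
    (hx : orderOf x = 7) (hxy : x * y = y * x) :
    IsCyclic ↥(centralizer ({x * y} : Set H)) ∧
      Nat.card ↥(centralizer ({x * y} : Set H)) ∣ 63 ∧ 21 ∣ Nat.card ↥(centralizer ({x * y} : Set H)) := by
  obtain ⟨hs, hord, hI⟩ := B.irred_of_product hys hy hx hxy
  refine ⟨hI.isCyclic B.data.nontriv, B.card_dvd _ fun q hq hq1 v hv => ?_, ?_⟩
  · by_contra hv1
    exact hq1 (hI.eq_one_of_fix (mem_centralizer_singleton_iff.1 hq) hv1 hv)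
  · rw [← hord, ← Nat.card_zpowers]
    exact card_dvd_of_le (zpowers_le.2 (mem_centralizer_singleton_iff.2 rfl))

omit [Finite H] in
theorem mem_centralizer_product {q : H} (hqx : q * x = x * q) (hqy : q * y = y * q) :
    q ∈ centralizer ({x * y} : Set H) :=
  mem_centralizer_singleton_iff.2 ((show Commute q x from hqx).mul_right hqy).eq

theorem Big63.nine_cyclic (B : Big63 H U) (hs : Semireg U g) (hg : orderOf g = 9) :
    IsCyclic ↥(centralizer ({g} : Set H)) := by
  refine (B.data.irred B.card hs fun b hb0 hb6 => ?_).isCyclic B.data.nontriv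
  rw [hg]
  interval_cases b <;> norm_num

theorem semireg_of_mem {Q : Subgroup H} (hQ : ∀ q ∈ Q, q ≠ 1 → ∀ v : U, q • v = v → v = 1) (hgQ : g ∈ Q) :
    Semireg U g := fun i hi v hv => hQ _ (pow_mem hgQ i) hi v hv

theorem Big63.product_semireg (B : Big63 H U) (hys : Semireg U y) (hy : orderOf y = 3) (hx : orderOf x = 7)
    (hxy : x * y = y * x) {q : H} (hq : q ∈ centralizer ({x * y} : Set H)) : Semireg U q := by
  obtain ⟨-, -, hI⟩ := B.irred_of_product hys hy hx hxy
  refine semireg_of_mem (Q := centralizer ({x * y} : Set H)) (fun q hq hq1 v hv => ?_) hq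
  by_contra hv1
  exact hq1 (hI.eq_one_of_fix (mem_centralizer_singleton_iff.1 hq) hv1 hv)

theorem zpow_normalizes {s : H} (h : s * g * s⁻¹ ∈ zpowers g) :
    s ∈ normalizer ((zpowers g : Subgroup H) : Set H) := by
  refine mem_normalizer_fintype fun w hw => ?_
  obtain ⟨l, rfl⟩ := mem_zpowers_iff.1 hw
  rw [← conj_zpow]
  exact zpow_mem h l

/-- An element of order 9 centralising `y` and normalised by an inverter of `y` is a pivot. -/
theorem Big63.pivot_of_real (B : Big63 H U) (hys : Semireg U y) (hy : orderOf y = 3) (hx : orderOf x = 7)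
    (hxy : x * y = y * x) (hs : Semireg U g) (hg : orderOf g = 9) (hgy : g * y = y * g)
    (hreal : ∃ t : H, t * g * t⁻¹ = g⁻¹) : Pivot g := by
  have hC := B.nine_cyclic hs hg
  have hxs := B.semireg_seven hys hy hx hxy
  obtain ⟨hQc, -, -⟩ := B.product_centralizer hys hy hx hxy
  have hy1 : y ≠ 1 := fun e => by rw [e, orderOf_one] at hy; omega
  have hx1 : x ≠ 1 := fun e => by rw [e, orderOf_one] at hx; omega
  refine ⟨fun e => by rw [e, orderOf_one] at hg; omega, ?_, by rw [hg]; decide, hreal, hC,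
    fun r hr hr2 R hR hRp => ?_⟩
  · rw [hg, show (9 : ℕ) = 3 ^ 2 by norm_num]
    exact ⟨3, 2, Nat.prime_iff.1 Nat.prime_three, by norm_num, rfl⟩
  haveI : Fact r.Prime := ⟨hr⟩
  haveI := hR
  have hRy : ∀ p ∈ R, p * y = y * p := by
    intro p hp
    by_cases hr3 : r = 3
    · subst hr3
      have hP : IsPGroup 3 ↥(R ⊔ zpowers g) := hRp.to_sup_of_normal_left
        (IsPGroup.of_card (n := 2) (by rw [Nat.card_zpowers, hg]; norm_num))
      have hne : R ⊔ zpowers g ≠ ⊥ := fun e => by
        have : g = 1 := by rw [← mem_bot, ← e]; exact mem_sup_right (mem_zpowers g)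
        rw [this, orderOf_one] at hg
        omega
      obtain ⟨c, -, hc, hcc⟩ := exists_central_prime hP hne
      have hyc : y ∈ zpowers c := PairsCyclic.mem_zpowers_of_cyclic hC
        (mem_centralizer_singleton_iff.2 (hcc g (mem_sup_right (mem_zpowers g))).symm)
        (mem_centralizer_singleton_iff.2 hgy.symm) (by rw [hc, ← hy, pow_orderOf_eq_one])
      obtain ⟨i, rfl⟩ := mem_zpowers_iff.1 hyc
      exact ((show Commute p c from hcc p (mem_sup_left hp)).zpow_right i).eq
    · exact (B.data.commute_of_fpf Nat.prime_three hy (by norm_num)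
        (fun v hv => hys 1 (by rwa [pow_one]) v (by rwa [pow_one])) hr3 hr2 hRp
        (normalizer_eq_top_iff.2 hR ▸ mem_top y) hp).symm
  by_cases hr7 : r = 7
  · subst hr7
    have hP : IsPGroup 7 ↥(R ⊔ zpowers x) := hRp.to_sup_of_normal_left
      (IsPGroup.of_card (n := 1) (by rw [Nat.card_zpowers, hx]; norm_num))
    have hne : R ⊔ zpowers x ≠ ⊥ := fun e => hx1 (by
      rw [← mem_bot, ← e]; exact mem_sup_right (mem_zpowers x))
    obtain ⟨c, hcP, hc, hcc⟩ := exists_central_prime hP hne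
    have hle : R ⊔ zpowers x ≤ centralizer ({y} : Set H) :=
      sup_le (fun p hp => mem_centralizer_singleton_iff.2 (hRy p hp))
        (zpowers_le.2 (mem_centralizer_singleton_iff.2 hxy))
    have hcy := mem_centralizer_singleton_iff.1 (hle hcP)
    obtain ⟨hcC, -, -⟩ := B.product_centralizer hys hy hc hcy
    haveI := hcC
    exact isCyclic_of_le fun p hp => mem_centralizer_product (hcc p (mem_sup_left hp)) (hRy p hp)
  · haveI := hQc
    refine isCyclic_of_le (H' := centralizer ({x * y} : Set H))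
      fun p hp => mem_centralizer_product ?_ (hRy p hp)
    exact (B.data.commute_of_fpf (by norm_num : (7).Prime) hx (by norm_num)
      (fun v hv => hxs 1 (by rwa [pow_one]) v (by rwa [pow_one])) hr7 hr2 hRp
      (normalizer_eq_top_iff.2 hR ▸ mem_top x) hp).symm

/-- Case of an element of order 9 generating a normal subgroup of `C(y)`. -/
theorem Big63.pivot_of_normal (B : Big63 H U) {t : H} (hys : Semireg U y) (hy : orderOf y = 3)
    (hinv : t * y * t⁻¹ = y⁻¹) (hx : orderOf x = 7) (hxy : x * y = y * x) (hg : orderOf g = 9)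
    (hgy : g * y = y * g) (hn : ∀ c : H, c * y = y * c → c * g * c⁻¹ ∈ zpowers g) : ∃ g : H, Pivot g := by
  haveI : Fact (Nat.Prime 3) := ⟨Nat.prime_three⟩
  have hy1 : y ≠ 1 := fun e => by rw [e, orderOf_one] at hy; omega
  have hxs := B.semireg_seven hys hy hx hxy
  obtain ⟨hQc, -, -⟩ := B.product_centralizer hys hy hx hxy
  obtain ⟨s, k, hk, hsy⟩ := exists_two_inverter hinv
  have hxc : ∀ p : H, orderOf p = 9 → x * p * x⁻¹ ∈ zpowers p → x * p = p * x := fun p hp h =>
    B.data.commute_of_fpf (by norm_num : (7).Prime) hx (by norm_num)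
      (fun v hv => hxs 1 (by rw [pow_one]; intro e; rw [e, orderOf_one] at hx; omega) v (by rwa [pow_one]))
      (by norm_num : (3 : ℕ) ≠ 7) (by norm_num)
      (IsPGroup.of_card (n := 2) (by rw [Nat.card_zpowers, hp]; norm_num)) (zpow_normalizes h)
      (mem_zpowers p)
  have hgs : Semireg U g := B.product_semireg hys hy hx hxy
    (mem_centralizer_product (hxc g hg (hn x hxy)).symm hgy)
  have hC := B.nine_cyclic hgs hg
  have hsinv : s⁻¹ * y * s = y⁻¹ := by
    have h1 : s * y⁻¹ * s⁻¹ = y := by rw [← conj_inv, hsy, inv_inv]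
    conv_lhs => rw [← h1]
    group
  set g' := s * g * s⁻¹ with hg'
  have hg'o : orderOf g' = 9 := by rw [hg', ← MulAut.conj_apply, MulEquiv.orderOf_eq, hg]
  have hg'y : g' * y = y * g' := by
    have h1 : g * y⁻¹ = y⁻¹ * g := ((show Commute g y from hgy).inv_right).eq
    calc g' * y = s * (g * (s⁻¹ * y * s)) * s⁻¹ := by rw [hg']; group
      _ = s * (y⁻¹ * g) * s⁻¹ := by rw [hsinv, h1]
      _ = (s * y⁻¹ * s⁻¹) * g' := by rw [hg']; group
      _ = y * g' := by rw [← conj_inv, hsy, inv_inv]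
  have hn' : x * g' * x⁻¹ ∈ zpowers g' := by
    have h2 : (s⁻¹ * x * s) * y = y * (s⁻¹ * x * s) := by
      have h1 : x * y⁻¹ = y⁻¹ * x := ((show Commute x y from hxy).inv_right).eq
      calc (s⁻¹ * x * s) * y = s⁻¹ * (x * (s * y * s⁻¹)) * s := by group
        _ = s⁻¹ * (y⁻¹ * x) * s := by rw [hsy, h1]
        _ = (s⁻¹ * y⁻¹ * s) * (s⁻¹ * x * s) := by group
        _ = y * (s⁻¹ * x * s) := by
          rw [show s⁻¹ * y⁻¹ * s = (s⁻¹ * y * s)⁻¹ by group, hsinv, inv_inv]
    obtain ⟨l, hl⟩ := mem_zpowers_iff.1 (hn _ h2)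
    refine mem_zpowers_iff.2 ⟨l, ?_⟩
    rw [hg', conj_zpow, hl]
    group
  have hmem : g' ∈ zpowers g := PairsCyclic.mem_zpowers_of_cyclic hQc
    (mem_centralizer_product (hxc g hg (hn x hxy)).symm hgy)
    (mem_centralizer_product (hxc g' hg'o hn').symm hg'y) (by rw [hg, ← hg'o, pow_orderOf_eq_one])
  refine ⟨g, B.pivot_of_real hys hy hx hxy hgs hg hgy (real_of_cyclic_normalised ?_ (by rw [hg]; decide)
    (P := zpowers g) inferInstance (mem_zpowers g) (zpow_normalizes hmem) hk hy1 (hy ▸ by decide) hsy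
    hgy.symm hC)⟩
  rw [hg, show (9 : ℕ) = 3 ^ 2 by norm_num]
  exact ⟨3, 2, Nat.prime_iff.1 Nat.prime_three, by norm_num, rfl⟩

/-- Case of a regular centraliser. -/
theorem Big63.pivot_of_regular (B : Big63 H U) {t : H} (hys : Semireg U y) (hy : orderOf y = 3)
    (hinv : t * y * t⁻¹ = y⁻¹) (hx : orderOf x = 7) (hxy : x * y = y * x)
    (hcard : Nat.card ↥(centralizer ({y} : Set H)) = 63) : ∃ g : H, Pivot g := by
  haveI : Fact (Nat.Prime 3) := ⟨Nat.prime_three⟩
  have hy1 : y ≠ 1 := fun e => by rw [e, orderOf_one] at hy; omega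
  have hreg : ∀ q ∈ centralizer ({y} : Set H), q ≠ 1 → ∀ v : U, q • v = v → v = 1 := by
    intro q hq hq1 v hv
    by_contra hv1
    set St := MulAction.stabilizer ↥(centralizer ({y} : Set H)) v
    have h1 : 63 ∣ St.index := by
      have horb : MulAction.orbit ↥(centralizer ({y} : Set H)) v = ({1} : Set U)ᶜ := by
        ext w
        refine ⟨?_, fun hw => ?_⟩
        · rintro ⟨c, rfl⟩
          exact fun e => hv1 (MulAction.injective (c : H) (e.trans (smul_one (c : H)).symm))
        · obtain ⟨c, hc, hcw⟩ := B.trans y t hy1 (hy ▸ Nat.prime_three.isPrimePow) (hy ▸ by decide) hinv v w hv1 hw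
          exact ⟨⟨c, mem_centralizer_singleton_iff.2 hc⟩, hcw⟩
      rw [MulAction.index_stabilizer, horb, Set.ncard_compl, Set.ncard_singleton, B.card]
      norm_num
    have h2 := St.card_mul_index
    rw [hcard] at h2
    have h3 : Nat.card ↥St = 1 := by
      obtain ⟨k, hk⟩ := h1
      rw [hk, mul_left_comm] at h2
      exact Nat.eq_one_of_mul_eq_one_right (mul_left_cancel₀ (by norm_num : (63 : ℕ) ≠ 0) (h2.trans (mul_one 63).symm))
    have h4 : (⟨q, hq⟩ : ↥(centralizer ({y} : Set H))) ∈ St := hv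
    rw [card_eq_one.1 h3, mem_bot] at h4
    exact hq1 (congrArg Subtype.val h4)
  obtain ⟨T⟩ : Nonempty (Sylow 3 ↥(centralizer ({y} : Set H))) := inferInstance
  obtain ⟨s, k, hk, hsy, hsn⟩ := exists_inverter_normalising hinv T
  set T₀ := (T : Subgroup ↥(centralizer ({y} : Set H))).map (centralizer ({y} : Set H)).subtype with hT₀
  have hT₀le : T₀ ≤ centralizer ({y} : Set H) := map_subtype_le _
  have hT9 : Nat.card ↥T₀ = 9 := by
    rw [hT₀, ← Nat.card_congr (equivMapOfInjective _ _ (centralizer ({y} : Set H)).subtype_injective).toEquiv,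
      T.card_eq_multiplicity, hcard, show (63 : ℕ) = 3 ^ 2 * 7 by norm_num]
    rw [Nat.factorization_mul (by norm_num) (by norm_num), Finsupp.add_apply, Nat.prime_three.factorization_pow,
      Finsupp.single_eq_same, Nat.factorization_eq_zero_of_not_dvd (by norm_num : ¬ 3 ∣ 7)]
    norm_num
  have hyT : y ∈ T₀ := by
    have h1 : IsPGroup 3 ↥(T₀ ⊔ zpowers y) := by
      refine IsPGroup.to_sup_of_normal_left' (T.isPGroup'.map _)
        (IsPGroup.of_card (n := 1) (by rw [Nat.card_zpowers, hy]; norm_num)) ?_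
      rw [zpowers_le]
      refine mem_normalizer_fintype fun w hw => ?_
      rw [show y * w = w * y from (mem_centralizer_singleton_iff.1 (hT₀le hw)).symm, mul_inv_cancel_right]
      exact hw
    obtain ⟨n, hn⟩ := h1.exists_card_eq
    have h2 := card_dvd_of_le (sup_le hT₀le (zpowers_le.2 (mem_centralizer_singleton_iff.2 rfl)) :
      T₀ ⊔ zpowers y ≤ centralizer ({y} : Set H))
    rw [hn, hcard] at h2
    have h3 : 3 ^ n ∣ 3 ^ 2 := Nat.Coprime.dvd_of_dvd_mul_right (Nat.Coprime.pow_left n (by norm_num : Nat.Coprime 3 7))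
      (by norm_num; exact h2)
    have h4 : T₀ = T₀ ⊔ zpowers y := eq_of_le_of_card_ge le_sup_left (by
      rw [hn, hT9]; exact le_trans (Nat.le_of_dvd (by norm_num) h3) (by norm_num))
    rw [h4]
    exact mem_sup_right (mem_zpowers y)
  have hTreg : ∀ q ∈ T₀, Semireg U q := fun q hq => semireg_of_mem hreg (hT₀le hq)
  obtain ⟨g, hgT, hg⟩ : ∃ g ∈ T₀, orderOf g = 9 := by
    by_contra hcon
    push_neg at hcon
    have h3 : ∀ q ∈ T₀, q ≠ 1 → orderOf q = 3 := by
      intro q hq hq1
      have h1 : orderOf q ∣ 3 ^ 2 := by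
        rw [show (3 : ℕ) ^ 2 = Nat.card ↥T₀ by rw [hT9]; norm_num, ← Subgroup.orderOf_mk q hq]
        exact orderOf_dvd_natCard _
      obtain ⟨i, hi, hqi⟩ := (Nat.dvd_prime_pow Nat.prime_three).1 h1
      interval_cases i
      · exact absurd (orderOf_eq_one_iff.1 hqi) hq1
      · exact hqi
      · exact absurd hqi (hcon q hq)
    obtain ⟨z, hzT, hz⟩ : ∃ z ∈ T₀, z ∉ zpowers y := by
      by_contra hall
      push_neg at hall
      have := card_le_of_le (hall : T₀ ≤ zpowers y)
      rw [hT9, Nat.card_zpowers, hy] at this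
      omega
    have hz1 : z ≠ 1 := fun e => hz (e ▸ one_mem _)
    have hzy : y * z = z * y := (mem_centralizer_singleton_iff.1 (hT₀le hzT)).symm
    have h1 := B.split hys hy (hTreg z hzT) (h3 z hzT hz1) hzy
    have hone : ∀ p ∈ zpowers y, Nat.card {v : U // z • v = p • v} = 1 := by
      intro p hp
      rw [Nat.card_eq_one_iff_exists]
      refine ⟨⟨1, by simp⟩, fun v => Subtype.ext ?_⟩
      refine hreg (p⁻¹ * z) (mul_mem (inv_mem (hT₀le ((zpowers_le.2 hyT) hp))) (hT₀le hzT)) (fun e => hz ?_) v.1 ?_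
      · rw [inv_mul_eq_one] at e; exact e ▸ hp
      · rw [mul_smul, v.2, inv_smul_smul]
    have h4 : Nat.card {v : U // z • v = y • y • v} = 1 := by
      simp only [← mul_smul]
      exact hone _ (mul_mem (mem_zpowers y) (mem_zpowers y))
    rw [hone y (mem_zpowers y), h4, B.card] at h1
    norm_num at h1
  have hgy := mem_centralizer_singleton_iff.1 (hT₀le hgT)
  have hgs := hTreg g hgT
  have hTc : IsCyclic ↥T₀ :=
    haveI : IsCyclic ↥(zpowers g) := inferInstance
    isCyclic_of_le (le_of_eq (eq_of_le_of_card_ge (zpowers_le.2 hgT) (by rw [hT9, Nat.card_zpowers, hg])).symm)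
  refine ⟨g, B.pivot_of_real hys hy hx hxy hgs hg hgy (real_of_cyclic_normalised ?_ (by rw [hg]; decide)
    hTc hgT hsn hk hy1 (hy ▸ by decide) hsy hgy.symm (B.nine_cyclic hgs hg))⟩
  rw [hg, show (9 : ℕ) = 3 ^ 2 by norm_num]
  exact ⟨3, 2, Nat.prime_iff.1 Nat.prime_three, by norm_num, rfl⟩

theorem Big63.exists_pivot (B : Big63 H U) {t : H} (hy : orderOf y = 3) (hinv : t * y * t⁻¹ = y⁻¹) :
    ∃ g : H, Pivot g := by
  classical
  haveI : Fact (Nat.Prime 3) := ⟨Nat.prime_three⟩
  haveI : Fact (Nat.Prime 7) := ⟨by norm_num⟩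
  have hy1 : y ≠ 1 := fun e => by rw [e, orderOf_one] at hy; omega
  have hodd : Odd (orderOf y) := hy ▸ (by decide : Odd 3)
  have hys := B.semireg_real hy1 hodd hinv
  have hCodd := B.centralizer_odd hy hinv
  have h63 := B.card_dvd_centralizer hy hinv
  obtain ⟨x', hx'⟩ := exists_prime_orderOf_dvd_card' 7
    (dvd_trans (by norm_num) h63 : 7 ∣ Nat.card ↥(centralizer ({y} : Set H)))
  rw [← orderOf_coe] at hx'
  have hxy := mem_centralizer_singleton_iff.1 x'.2
  have hxs := B.semireg_seven hys hy hx' hxy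
  haveI : Group.IsSolvable ↥(centralizer ({y} : Set H)) := OddOrderTheorem.solvable hCodd
  set y₀ : ↥(centralizer ({y} : Set H)) := ⟨y, mem_centralizer_singleton_iff.2 rfl⟩ with hy₀
  set Y := zpowers y₀
  have hYc : ∀ c, c * y₀ = y₀ * c := fun c => Subtype.ext (mem_centralizer_singleton_iff.1 c.2)
  haveI hYn : Y.Normal := ⟨fun p hp c => by
    obtain ⟨i, rfl⟩ := mem_zpowers_iff.1 hp
    rw [((show Commute c y₀ from hYc c).zpow_right i).eq, mul_inv_cancel_right]
    exact zpow_mem (mem_zpowers y₀) i⟩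
  have hYcard : Nat.card ↥Y = 3 := by rw [Nat.card_zpowers, hy₀, Subgroup.orderOf_mk, hy]
  haveI : Nontrivial (↥(centralizer ({y} : Set H)) ⧸ Y) := by
    rw [← Finite.one_lt_card_iff_nontrivial]
    have h1 := Y.card_eq_card_quotient_mul_card_subgroup
    rw [hYcard] at h1
    obtain ⟨j, hj⟩ := h63
    have h2 : 0 < j := by
      rcases Nat.eq_zero_or_pos j with rfl | h
      · rw [mul_zero] at hj; exact absurd hj Nat.card_pos.ne'
      · exact h
    omega
  obtain ⟨r, hr, M, hM, hMne, hMp⟩ :=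
    Solvable.exists_normal_pGroup_ne_bot (↥(centralizer ({y} : Set H)) ⧸ Y)
  haveI : Fact r.Prime := ⟨hr⟩
  haveI := hM
  set L := M.comap (QuotientGroup.mk' Y) with hL
  haveI hLn : L.Normal := inferInstance
  obtain ⟨j, hj⟩ := hMp.exists_card_eq
  have hj0 : j ≠ 0 := fun e => hMne (card_eq_one.1 (by rw [hj, e, pow_zero]))
  have hLcard : Nat.card ↥L = 3 * r ^ j := by
    rw [← hYcard, ← hj]
    exact QuotientGroup.card_preimage_mk Y (M : Set (↥(centralizer ({y} : Set H)) ⧸ Y))
  have hxfix : ∀ v : U, (x' : H) • v = v → v = 1 := fun v hv => hxs 1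
    (by rw [pow_one]; intro e; rw [e, orderOf_one] at hx'; omega) v (by rwa [pow_one])
  -- a normal subgroup of prime-power order for a prime other than 2, 7 centralises `x'`
  have hxQ : ∀ (q : ℕ) [Fact q.Prime] (Q : Subgroup ↥(centralizer ({y} : Set H))), Q.Normal → IsPGroup q ↥Q →
      q ≠ 7 → q ≠ 2 → Q.map (centralizer ({y} : Set H)).subtype ≤ centralizer ({(x' : H) * y} : Set H) := by
    intro q _ Q hQ hQp hq7 hq2 p hp
    obtain ⟨p', hp', rfl⟩ := mem_map.1 hp
    refine mem_centralizer_product (B.data.commute_of_fpf (by norm_num : (7).Prime) hx' (by norm_num) hxfix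
      hq7 hq2 (hQp.map _) (mem_normalizer_fintype fun w hw => ?_) hp).symm (mem_centralizer_singleton_iff.1 p'.2)
    obtain ⟨w', hw', rfl⟩ := mem_map.1 hw
    exact mem_map.2 ⟨_, hQ.conj_mem w' hw' x', rfl⟩
  have hmapcard : ∀ Q : Subgroup ↥(centralizer ({y} : Set H)),
      Nat.card ↥(Q.map (centralizer ({y} : Set H)).subtype) = Nat.card ↥Q := fun Q =>
    (Nat.card_congr (equivMapOfInjective _ _ (centralizer ({y} : Set H)).subtype_injective).toEquiv).symm
  have hrodd : r ≠ 2 := by
    intro e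
    have h1 : r ∣ Nat.card ↥(centralizer ({y} : Set H)) :=
      dvd_trans (hLcard ▸ dvd_mul_of_dvd_right (dvd_pow_self r hj0) 3) L.card_subgroup_dvd_card
    exact Nat.two_dvd_ne_zero.2 (Nat.odd_iff.1 hCodd) (e ▸ h1)
  by_cases hr3 : r = 3
  · subst hr3
    have hLp : IsPGroup 3 ↥L := IsPGroup.of_card (n := j + 1) (by rw [hLcard, pow_succ']; )
    have hle := hxQ 3 L hLn hLp (by norm_num) (by norm_num)
    obtain ⟨hQc, hQdvd, -⟩ := B.product_centralizer hys hy hx' hxy
    have h1 := (card_dvd_of_le hle).trans hQdvd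
    rw [hmapcard, hLcard] at h1
    have hj1 : j = 1 := by
      by_contra hne
      have h2 : 3 ^ 3 ∣ 3 * 3 ^ j := by rw [← pow_succ']; exact pow_dvd_pow 3 (by omega)
      exact absurd (h2.trans h1) (by norm_num)
    haveI : IsCyclic ↥(L.map (centralizer ({y} : Set H)).subtype) := haveI := hQc; isCyclic_of_le hle
    obtain ⟨g, hg⟩ := IsCyclic.exists_ofOrder_eq_natCard
      (α := ↥(L.map (centralizer ({y} : Set H)).subtype))
    replace hg : orderOf (g : H) = 9 := by rw [orderOf_coe, hg, hmapcard, hLcard, hj1]; norm_num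
    have hgC := map_subtype_le L g.2
    refine B.pivot_of_normal (g := (g : H)) hys hy hinv hx' hxy hg (mem_centralizer_singleton_iff.1 hgC) fun c hc => ?_
    refine PairsCyclic.mem_zpowers_of_cyclic (inferInstance : IsCyclic ↥(L.map (centralizer ({y} : Set H)).subtype))
      g.2 ?_ (by rw [conj_pow, pow_orderOf_eq_one, mul_one, mul_inv_cancel])
    obtain ⟨g', hg', hgg'⟩ := mem_map.1 g.2
    rw [← hgg']
    exact mem_map.2 ⟨_, hLn.conj_mem g' hg' ⟨c, mem_centralizer_singleton_iff.2 hc⟩, rfl⟩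
  · -- a normal `r`-subgroup
    obtain ⟨P⟩ : Nonempty (Sylow r ↥L) := inferInstance
    have hPcard : Nat.card ↥(P : Subgroup ↥L) = r ^ j := by
      rw [P.card_eq_multiplicity, hLcard, Nat.factorization_mul (by norm_num) (pow_ne_zero _ hr.ne_zero),
        Finsupp.add_apply, hr.factorization_pow, Finsupp.single_eq_same,
        Nat.factorization_eq_zero_of_not_dvd (fun h => hr3 ((Nat.prime_dvd_prime_iff_eq hr Nat.prime_three).1 h)),
        zero_add]
    haveI hPn : (P : Subgroup ↥L).Normal := by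
      rw [← normalizer_eq_top_iff]
      apply eq_top_of_card_eq
      refine le_antisymm (card_le_card_group _) (Nat.le_of_dvd Nat.card_pos ?_)
      rw [hLcard]
      refine Nat.Coprime.mul_dvd_of_dvd_of_dvd (Nat.Coprime.pow_right j
        ((Nat.coprime_primes Nat.prime_three hr).2 (Ne.symm hr3))) ?_ (hPcard ▸ card_dvd_of_le le_normalizer)
      have hyL : y₀ ∈ L := by
        rw [hL, mem_comap, QuotientGroup.mk'_apply, (QuotientGroup.eq_one_iff _).2 (mem_zpowers y₀)]
        exact one_mem M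
      have hsub : zpowers (⟨y₀, hyL⟩ : ↥L) ≤ normalizer ((P : Subgroup ↥L) : Set ↥L) := by
        rw [zpowers_le]
        refine mem_normalizer_fintype fun w hw => ?_
        have : (⟨y₀, hyL⟩ : ↥L) * w = w * ⟨y₀, hyL⟩ := Subtype.ext (hYc w).symm
        rw [this, mul_inv_cancel_right]
        exact hw
      have := card_dvd_of_le hsub
      rwa [Nat.card_zpowers, Subgroup.orderOf_mk, hy₀, Subgroup.orderOf_mk, hy] at this
    haveI := P.characteristic_of_normal hPn
    set Q := (P : Subgroup ↥L).map L.subtype with hQ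
    haveI hQn : Q.Normal := inferInstance
    have hQp : IsPGroup r ↥Q := P.isPGroup'.map _
    have hQcard : Nat.card ↥(Q.map (centralizer ({y} : Set H)).subtype) = r ^ j := by
      rw [hmapcard, hQ, ← Nat.card_congr (equivMapOfInjective _ _ L.subtype_injective).toEquiv, hPcard]
    have hr7 : r = 7 := by
      by_contra hr7
      obtain ⟨-, hQdvd, -⟩ := B.product_centralizer hys hy hx' hxy
      have h1 := (card_dvd_of_le (hxQ r Q hQn hQp hr7 hrodd)).trans hQdvd
      rw [hQcard, show (63 : ℕ) = 3 * (3 * 7) by norm_num] at h1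
      rcases (hr.dvd_mul.1 ((dvd_pow_self r hj0).trans h1)).imp_right hr.dvd_mul.1 with h | h | h
      · exact hr3 ((Nat.prime_dvd_prime_iff_eq hr Nat.prime_three).1 h)
      · exact hr3 ((Nat.prime_dvd_prime_iff_eq hr Nat.prime_three).1 h)
      · exact hr7 ((Nat.prime_dvd_prime_iff_eq hr (by norm_num)).1 h)
    subst hr7
    set Q₀ := Q.map (centralizer ({y} : Set H)).subtype with hQ₀
    have hQ₀le : Q₀ ≤ centralizer ({y} : Set H) := map_subtype_le _
    have hQ7 : Nat.card ↥Q₀ = 7 := by
      have h1 : Nat.card ↥Q₀ ∣ 63 := B.card_dvd _ fun q hq hq1 v hv => by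
        by_contra hv1
        obtain ⟨e, he⟩ := IsPGroup.iff_orderOf.1 (hQp.map (centralizer ({y} : Set H)).subtype) ⟨q, hq⟩
        rw [Subgroup.orderOf_mk] at he
        have he0 : e ≠ 0 := fun e0 => hq1 (orderOf_eq_one_iff.1 (by rw [he, e0, pow_zero]))
        have hord : orderOf (q ^ (orderOf q / 7)) = 7 :=
          orderOf_pow_orderOf_div (orderOf_pos q).ne' (he ▸ dvd_pow_self 7 he0)
        have hsr := B.semireg_seven hys hy hord
          (mem_centralizer_singleton_iff.1 (hQ₀le (pow_mem hq _)))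
        refine hv1 (hsr 1 (by rw [pow_one]; intro e1; rw [e1, orderOf_one] at hord; omega) v ?_)
        rw [pow_one]
        exact pow_mem (show q ∈ MulAction.stabilizer H v from hv) _
      rw [hQcard] at h1 ⊢
      have h2 : j ≤ 1 := by
        by_contra hne
        exact absurd ((pow_dvd_pow 7 (by omega : 2 ≤ j)).trans h1) (by norm_num)
      rw [show j = 1 by omega, pow_one]
    haveI hQcyc : IsCyclic ↥Q₀ := isCyclic_of_prime_card hQ7
    obtain ⟨x, hx⟩ := IsCyclic.exists_ofOrder_eq_natCard (α := ↥Q₀)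
    rw [← orderOf_coe, hQ7] at hx
    have hxy' := mem_centralizer_singleton_iff.1 (hQ₀le x.2)
    have hxn : ∀ c : H, c * y = y * c → c * (x : H) * c⁻¹ ∈ zpowers (x : H) := fun c hc => by
      refine PairsCyclic.mem_zpowers_of_cyclic hQcyc x.2 ?_ (by rw [conj_pow, pow_orderOf_eq_one, mul_one, mul_inv_cancel])
      obtain ⟨g', hg', hgg'⟩ := mem_map.1 x.2
      rw [← hgg']
      exact mem_map.2 ⟨_, hQn.conj_mem g' hg' ⟨c, mem_centralizer_singleton_iff.2 hc⟩, rfl⟩
    obtain ⟨hKc, hKdvd, hK21⟩ := B.product_centralizer hys hy hx hxy'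
    obtain ⟨i, hi⟩ := hK21
    rw [hi] at hKdvd
    have hi13 : i = 1 ∨ i = 3 := (Nat.dvd_prime Nat.prime_three).1
      (Nat.dvd_of_mul_dvd_mul_left (by norm_num : 0 < 21) (by simpa using hKdvd))
    rcases hi13 with rfl | rfl
    · -- the centraliser of `y` is regular
      refine B.pivot_of_regular hys hy hinv hx hxy' ?_
      let f : ↥(centralizer ({y} : Set H)) → ↥(zpowers (x : H)) := fun c =>
        ⟨(c : H) * x * (c : H)⁻¹, hxn c (mem_centralizer_singleton_iff.1 c.2)⟩
      let σ : ↥(zpowers (x : H)) → ↥(centralizer ({y} : Set H)) := fun z =>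
        if h : ∃ c, f c = z then h.choose else 1
      have hσ : ∀ c, f (σ (f c)) = f c := fun c => by
        have h : ∃ d, f d = f c := ⟨c, rfl⟩
        simp only [σ, dif_pos h]
        exact h.choose_spec
      have hmem : ∀ c, ((σ (f c))⁻¹ * c : ↥(centralizer ({y} : Set H))).1 ∈ centralizer ({(x : H) * y} : Set H) := by
        intro c
        refine mem_centralizer_product ?_ (mem_centralizer_singleton_iff.1 ((σ (f c))⁻¹ * c).2)
        have h1 := congrArg Subtype.val (hσ c)
        replace h1 : (σ (f c) : H) * x * (σ (f c) : H)⁻¹ = (c : H) * x * (c : H)⁻¹ := h1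
        rw [coe_mul, coe_inv]
        calc (σ (f c) : H)⁻¹ * c * x = (σ (f c) : H)⁻¹ * ((c : H) * x * (c : H)⁻¹) * c := by group
          _ = x * ((σ (f c) : H)⁻¹ * c) := by rw [← h1]; group
      have hle := Nat.card_le_card_of_injective
        (fun c => ((f c, ⟨_, hmem c⟩) : ↥(zpowers (x : H)) × ↥(centralizer ({(x : H) * y} : Set H))))
        fun a b h => by
          simp only [Prod.mk.injEq, Subtype.mk.injEq, coe_mul, coe_inv] at h
          rw [h.1] at h
          exact Subtype.ext (mul_left_cancel h.2)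
      rw [Nat.card_prod, Nat.card_zpowers, hx, hi] at hle
      obtain ⟨l, hl⟩ := h63
      have hl0 : 0 < Nat.card ↥(centralizer ({y} : Set H)) := Nat.card_pos
      have hl2 : l ≠ 2 := fun e => by
        rw [hl, e] at hCodd
        exact absurd hCodd (by decide)
      omega
    · obtain ⟨g₀, hg₀⟩ := IsCyclic.exists_ofOrder_eq_natCard (α := ↥(centralizer ({(x : H) * y} : Set H)))
      rw [hi] at hg₀
      rw [← orderOf_coe] at hg₀
      set g := (g₀ : H) ^ 7 with hgdef
      have hg : orderOf g = 9 := by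
        rw [hgdef, orderOf_pow' _ (by norm_num), hg₀]
        norm_num
      have hgK : g ∈ centralizer ({(x : H) * y} : Set H) := pow_mem g₀.2 7
      letI := hKc.commGroup
      have hcommK : ∀ a ∈ centralizer ({(x : H) * y} : Set H), g * a = a * g := fun a ha =>
        congrArg Subtype.val (mul_comm (⟨g, hgK⟩ : ↥(centralizer ({(x : H) * y} : Set H))) ⟨a, ha⟩)
      have hxK : (x : H) ∈ centralizer ({(x : H) * y} : Set H) := mem_centralizer_product rfl hxy'
      have hyK : y ∈ centralizer ({(x : H) * y} : Set H) := mem_centralizer_product hxy'.symm rfl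
      refine B.pivot_of_normal hys hy hinv hx hxy' hg (hcommK y hyK) fun c hc => ?_
      refine PairsCyclic.mem_zpowers_of_cyclic hKc hgK ?_
        (by rw [conj_pow, pow_orderOf_eq_one, mul_one, mul_inv_cancel])
      have hci : c⁻¹ * y = y * c⁻¹ := ((show Commute c y from hc).inv_left).eq
      refine mem_centralizer_product ?_ ?_
      · obtain ⟨l, hl⟩ := mem_zpowers_iff.1 (hxn c⁻¹ hci)
        rw [inv_inv] at hl
        have h1 : g * (c⁻¹ * (x : H) * c) = (c⁻¹ * (x : H) * c) * g :=
          hcommK _ (by rw [← hl]; exact zpow_mem hxK l)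
        calc c * g * c⁻¹ * x = c * (g * (c⁻¹ * (x : H) * c)) * c⁻¹ := by group
          _ = (x : H) * (c * g * c⁻¹) := by rw [h1]; group
      · have h2 : g * y = y * g := hcommK y hyK
        calc c * g * c⁻¹ * y = c * g * (c⁻¹ * y) := by group
          _ = c * (g * y) * c⁻¹ := by rw [hci]; group
          _ = c * (y * g) * c⁻¹ := by rw [h2]
          _ = (c * y) * g * c⁻¹ := by group
          _ = y * (c * g * c⁻¹) := by rw [hc]; group

end Cfsg.Agent.RealClassGraph
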