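import Cfsg.Agent.Lib.RealClassGraph.Main
import Mathlib.GroupTheory.SchurZassenhaus

/-!
# Structure from a disconnected real class graph (owner: helper55)

* `Split.exists_even` : with odd real classes only, the real elements are commuting involutions and two coprime
  class sizes would make an odd class invariant under a fixed-point-free translation;
* `Split.prime_of_real_odd` : real elements of odd order move every conjugate of the element `z` with an odd
  class size, so their orders only involve primes of the part not containing 2;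
* `exists_real_dvd` : in a solvable group generated by 2-elements every odd prime divisor divides the order of
  a real element of odd order.
-/

set_option autoImplicit false

namespace Cfsg.Agent.RealClassGraph

open Subgroup
open scoped Pointwise

universe u

variable {G : Type u} [Group G] [Finite G]

theorem index_centralizer_eq (x : G) :
    (centralizer ({x} : Set G)).index = Nat.card {w : G // IsConj x w} := by
  let f : G ⧸ centralizer ({x} : Set G) → {w : G // IsConj x w} := Quotient.lift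
    (fun g => (⟨g * x * g⁻¹, isConj_iff.2 ⟨g, rfl⟩⟩ : {w : G // IsConj x w})) fun a b hab => by
      have h := mem_centralizer_iff'.1 (QuotientGroup.leftRel_apply.1 hab)
      refine Subtype.ext ?_
      show a * x * a⁻¹ = b * x * b⁻¹
      calc a * x * a⁻¹ = a * (x * (a⁻¹ * b)) * b⁻¹ := by group
        _ = a * (a⁻¹ * b * x) * b⁻¹ := by rw [h]
        _ = b * x * b⁻¹ := by group
  rw [index_eq_card]
  refine Nat.card_eq_of_bijective f ⟨?_, fun w => ?_⟩
  · intro a b hab
    induction a using QuotientGroup.induction_on with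
    | H a =>
      induction b using QuotientGroup.induction_on with
      | H b =>
        rw [QuotientGroup.eq, mem_centralizer_iff']
        have h : a * x * a⁻¹ = b * x * b⁻¹ := congrArg Subtype.val hab
        calc a⁻¹ * b * x = a⁻¹ * (b * x * b⁻¹) * b := by group
          _ = x * (a⁻¹ * b) := by rw [← h]; group
  · obtain ⟨g, hg⟩ := isConj_iff.1 w.2
    exact ⟨QuotientGroup.mk g, Subtype.ext hg⟩

theorem mul_isConj {x y : G} (hco : (centralizer ({x} : Set G)).index.Coprime (centralizer ({y} : Set G)).index)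
    (a b : G) : IsConj (x * y) (a * x * a⁻¹ * (b * y * b⁻¹)) := by
  obtain ⟨c, hc, d, hd, hcd⟩ := exists_mul_of_coprime _ _ hco (a⁻¹ * b)
  refine isConj_iff.2 ⟨a * c, ?_⟩
  have hb : b = a * c * d := by rw [mul_assoc, ← hcd, mul_inv_cancel_left]
  have hx : c * x * c⁻¹ = x := by rw [mem_centralizer_iff'.1 hc, mul_inv_cancel_right]
  have hy : d * y * d⁻¹ = y := by rw [mem_centralizer_iff'.1 hd, mul_inv_cancel_right]
  rw [hb]
  calc a * c * (x * y) * (a * c)⁻¹ = a * (c * x * c⁻¹) * a⁻¹ * ((a * c) * (d * y * d⁻¹) * (a * c)⁻¹) := by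
        rw [hy]; group
    _ = _ := by rw [hx]; group

theorem false_of_translation {x y : G} (hxy : ∀ g : G, g * y * g⁻¹ * y = y * (g * y * g⁻¹))
    (hy2 : y * y = 1)
    (hodd : Odd (centralizer ({x} : Set G)).index) (hy : (centralizer ({y} : Set G)).index ≠ 1)
    (hco : (centralizer ({x} : Set G)).index.Coprime (centralizer ({y} : Set G)).index)
    (hco' : (centralizer ({x * y} : Set G)).index.Coprime (centralizer ({y} : Set G)).index) : False := by
  classical
  obtain ⟨g, hg⟩ : ∃ g : G, g * y * g⁻¹ ≠ y := by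
    by_contra hall
    push_neg at hall
    refine hy (index_eq_one.2 (eq_top_iff.2 fun g _ => mem_centralizer_iff'.2 ?_))
    exact mul_inv_eq_iff_eq_mul.1 (hall g)
  set t := y * (g * y * g⁻¹) with ht
  have hgy : g * y * g⁻¹ * (g * y * g⁻¹) = 1 := by
    rw [show g * y * g⁻¹ * (g * y * g⁻¹) = g * (y * y) * g⁻¹ by group, hy2]; group
  have htt : t * t = 1 := by
    rw [ht, mul_assoc, ← mul_assoc (g * y * g⁻¹) y, hxy g, mul_assoc y (g * y * g⁻¹), hgy, mul_one, hy2]
  have ht1 : t ≠ 1 := fun e => hg (by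
    rw [ht, mul_eq_one_iff_eq_inv'] at e
    rw [e, inv_eq_of_mul_eq_one_right hy2])
  have hmove : ∀ w : G, IsConj x w → IsConj x (w * t) := by
    intro w hw
    obtain ⟨a, rfl⟩ := isConj_iff.1 hw
    obtain ⟨c, hc⟩ := isConj_iff.1 (mul_isConj hco a 1)
    rw [one_mul, inv_one, mul_one] at hc
    have h2 := mul_isConj hco' c g
    rw [show x * y * y = x by rw [mul_assoc, hy2, mul_one], hc] at h2
    rw [ht, ← mul_assoc]
    exact h2
  haveI := Fintype.ofFinite {w : G // IsConj x w}
  have hsum : ∑ _w : {w : G // IsConj x w}, (1 : ZMod 2) = 0 :=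
    Finset.sum_involution (fun w _ => (⟨w.1 * t, hmove _ w.2⟩ : {w : G // IsConj x w}))
      (fun _ _ => by decide) (fun w _ _ e => ht1 (mul_eq_left.1 (congrArg Subtype.val e)))
      (fun _ _ => Finset.mem_univ _) (fun w _ => Subtype.ext (by
        show w.1 * t * t = w.1
        rw [mul_assoc, htt, mul_one]))
  rw [Finset.sum_const, nsmul_one, Finset.card_univ, ← Nat.card_eq_fintype_card, ← index_centralizer_eq,
    ZMod.natCast_eq_zero_iff_even] at hsum
  exact Nat.not_odd_iff_even.2 hsum hodd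

/-- The hypotheses of a disconnected graph, symmetric in the two parts. -/
structure Disconnected (G : Type u) [Group G] (π₁ π₂ : Set ℕ) : Prop where
  cover : ∀ x t : G, t * x * t⁻¹ = x⁻¹ → ∀ q : ℕ, q.Prime →
    q ∣ (centralizer ({x} : Set G)).index → q ∈ π₁ ∨ q ∈ π₂
  noedge : ∀ x t : G, t * x * t⁻¹ = x⁻¹ → ∀ a ∈ π₁, ∀ b ∈ π₂,
    a ∣ (centralizer ({x} : Set G)).index → b ∣ (centralizer ({x} : Set G)).index → False
  vertex₁ : ∃ q : ℕ, q.Prime ∧ q ∈ π₁ ∧ ∃ x t : G, t * x * t⁻¹ = x⁻¹ ∧ q ∣ (centralizer ({x} : Set G)).index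
  vertex₂ : ∃ q : ℕ, q.Prime ∧ q ∈ π₂ ∧ ∃ x t : G, t * x * t⁻¹ = x⁻¹ ∧ q ∣ (centralizer ({x} : Set G)).index

variable {π₁ π₂ : Set ℕ}

theorem Disconnected.exists_even (hD : Disconnected G π₁ π₂) :
    ∃ x t : G, t * x * t⁻¹ = x⁻¹ ∧ 2 ∣ (centralizer ({x} : Set G)).index := by
  haveI : Fact (Nat.Prime 2) := ⟨Nat.prime_two⟩
  by_contra hcon
  push_neg at hcon
  have hsq : ∀ x t : G, t * x * t⁻¹ = x⁻¹ → x * x = 1 := fun x t ht => by
    by_contra h
    exact hcon x t ht (two_dvd_index ht h)
  obtain ⟨P⟩ : Nonempty (Sylow 2 G) := inferInstance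
  haveI hP : (P : Subgroup G).Normal :=
    two_closed_of_no_real (fun y t hy _ hodd hinv => hy (eq_one_of_sq hodd (hsq y t hinv))) P
  have hinv1 : ∀ v : G, v * v = 1 → (1 : G) * v * (1 : G)⁻¹ = v⁻¹ := fun v hv => inv_of_sq hv
  have hPc : ∀ x : G, x * x = 1 → x ∈ (P : Subgroup G) ∧ ∀ p ∈ (P : Subgroup G), p * x = x * p := by
    intro x hx
    have hodd : ¬ 2 ∣ (centralizer ({x} : Set G)).index := hcon x 1 (hinv1 x hx)
    have h2x : IsPGroup 2 ↥(zpowers x) := by
      refine fun w => ⟨1, ?_⟩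
      obtain ⟨w, hw⟩ := w
      obtain ⟨i, rfl⟩ := mem_zpowers_iff.1 hw
      refine Subtype.ext ?_
      show (x ^ i) ^ (2 ^ 1) = 1
      rw [pow_one, pow_two, ← zpow_add, ← two_mul, zpow_mul, zpow_two, hx, one_zpow]
    refine ⟨(h2x.to_sup_of_normal_right P.isPGroup' |> fun h => P.is_maximal' h le_sup_right).le
      (mem_sup_left (mem_zpowers x)), fun p hp => ?_⟩
    obtain ⟨Q⟩ : Nonempty (Sylow 2 ↥(centralizer ({x} : Set G))) := inferInstance
    let Q' : Sylow 2 G := (Q.isPGroup'.map (centralizer ({x} : Set G)).subtype).toSylow (by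
      rw [index_map, Subgroup.ker_subtype, sup_bot_eq, Subgroup.range_subtype]
      exact Nat.prime_two.not_dvd_mul Q.not_dvd_index hodd)
    haveI := Sylow.unique_of_normal P hP
    have hPQ : P = Q' := Subsingleton.elim _ _
    rw [hPQ] at hp
    obtain ⟨p', -, rfl⟩ := (hp : p ∈ (Q : Subgroup ↥(centralizer ({x} : Set G))).map
      (centralizer ({x} : Set G)).subtype)
    exact mem_centralizer_iff'.1 p'.2
  have hcomm : ∀ x w : G, x * x = 1 → w * w = 1 → x * w = w * x := fun x w hx hw =>
    (hPc w hw).2 x (hPc x hx).1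
  obtain ⟨a, ha, ha1, x, t, hxt, hax⟩ := hD.vertex₁
  obtain ⟨b, hb, hb2, y, s, hys, hby⟩ := hD.vertex₂
  have hx := hsq x t hxt
  have hy := hsq y s hys
  have hodd : ∀ v : G, v * v = 1 → Odd (centralizer ({v} : Set G)).index := fun v hv =>
    Nat.odd_iff.2 (Nat.two_dvd_ne_zero.1 (hcon v 1 (hinv1 v hv)))
  have hconj : ∀ v : G, v * v = 1 → ∀ g : G, g * v * g⁻¹ * v = v * (g * v * g⁻¹) := fun v hv g =>
    hcomm _ _ (by rw [show g * v * g⁻¹ * (g * v * g⁻¹) = g * (v * v) * g⁻¹ by group, hv]; group) hv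
  have hco : (centralizer ({x} : Set G)).index.Coprime (centralizer ({y} : Set G)).index := by
    by_contra hc
    obtain ⟨r, hr, hrx, hry⟩ := Nat.Prime.not_coprime_iff_dvd.1 hc
    rcases hD.cover x t hxt r hr hrx with h | h
    · exact hD.noedge y s hys r h b hb2 hry hby
    · exact hD.noedge x t hxt a ha1 r h hax hrx
  have hxy : (x * y) * (x * y) = 1 := by
    rw [mul_assoc, ← mul_assoc y, ← hcomm x y hx hy, mul_assoc x y, hy, mul_one, hx]
  by_cases hc : (centralizer ({x * y} : Set G)).index.Coprime (centralizer ({y} : Set G)).index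
  · exact false_of_translation (hconj y hy) hy (hodd x hx)
      (fun e => hb.ne_one (Nat.dvd_one.1 (e ▸ hby))) hco hc
  · obtain ⟨r, hr, hrw, hry⟩ := Nat.Prime.not_coprime_iff_dvd.1 hc
    have hr2 : r ∈ π₂ := (hD.cover y s hys r hr hry).resolve_left fun h => hD.noedge y s hys r h b hb2 hry hby
    refine false_of_translation (x := y) (y := x) (hconj x hx) hx (hodd y hy)
      (fun e => ha.ne_one (Nat.dvd_one.1 (e ▸ hax))) hco.symm ?_
    rw [← hcomm x y hx hy]
    by_contra hc'
    obtain ⟨r', hr', hr'w, hr'x⟩ := Nat.Prime.not_coprime_iff_dvd.1 hc'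
    have hr'1 : r' ∈ π₁ := (hD.cover x t hxt r' hr' hr'x).resolve_right fun h =>
      hD.noedge x t hxt a ha1 r' h hax hr'x
    exact hD.noedge (x * y) 1 (hinv1 _ hxy) r' hr'1 r hr2 hr'w hrw

/-- A real element of odd prime order moves every conjugate of an element whose class size involves `π₂`. -/
theorem Split.prime_of_real_odd (hS : Split G π₁ π₂) {z tz : G} (hz : tz * z * tz⁻¹ = z⁻¹) {q : ℕ}
    (hq : q ∈ π₂) (hqz : q ∣ (centralizer ({z} : Set G)).index) {x t : G} (hx : t * x * t⁻¹ = x⁻¹)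
    {r : ℕ} (hr : r.Prime) (hr2 : r ≠ 2) (hxr : orderOf x = r) :
    r ∈ π₂ ∧ x * z ≠ z * x := by
  classical
  haveI : Fact r.Prime := ⟨hr⟩
  have hx1 : x ≠ 1 := fun e => hr.ne_one (by rw [← hxr, e, orderOf_one])
  have hxodd : Odd (orderOf x) := hxr ▸ hr.odd_of_ne_two hr2
  have hodd : Odd (centralizer ({z} : Set G)).index :=
    Nat.odd_iff.2 (Nat.two_dvd_ne_zero.1 fun h2 => hS.noedge z tz hz 2 hS.two_mem q hq h2 hqz)
  have hzz : z * z = 1 := by
    by_contra h
    exact Nat.two_dvd_ne_zero.2 (Nat.odd_iff.1 hodd) (two_dvd_index hz h)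
  have h2x : 2 ∣ (centralizer ({x} : Set G)).index :=
    two_dvd_index hx fun e => hx1 (eq_one_of_sq hxodd e)
  have hco := hS.coprime hz hq hqz hx h2x
  have hall : ∀ w : G, IsConj z w → x * w = w * x → False := by
    intro w hw hxw
    have hfix : ∀ v : G, IsConj z v → x * v = v * x := by
      intro v hv
      obtain ⟨a, rfl⟩ := isConj_iff.1 hw
      obtain ⟨b, rfl⟩ := isConj_iff.1 hv
      obtain ⟨c', hc', d', hd'', hcd'⟩ := exists_mul_of_coprime (centralizer ({x} : Set G))
        (centralizer ({z} : Set G)) hco b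
      obtain ⟨c₀, hc₀, d₀, hd₀, hcd₀⟩ := exists_mul_of_coprime (centralizer ({x} : Set G))
        (centralizer ({z} : Set G)) hco a
      have key : ∀ p k : G, p ∈ centralizer ({x} : Set G) → k ∈ centralizer ({z} : Set G) →
          (x * (p * k * z * (p * k)⁻¹) = p * k * z * (p * k)⁻¹ * x ↔ x * z = z * x) := by
        intro p k hp hk
        have h1 : p * k * z * (p * k)⁻¹ = p * z * p⁻¹ := by
          rw [conj_mul_eq, mem_centralizer_iff'.1 hk, mul_inv_cancel_right]
        have h2 : p⁻¹ * x * p = x := by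
          rw [mul_assoc, ← mem_centralizer_iff'.1 hp, inv_mul_cancel_left]
        rw [h1]
        constructor
        · intro h
          calc x * z = p⁻¹ * (x * (p * z * p⁻¹)) * p := by
                conv_lhs => rw [← h2]
                group
            _ = p⁻¹ * (p * z * p⁻¹ * x) * p := by rw [h]
            _ = z * (p⁻¹ * x * p) := by group
            _ = z * x := by rw [h2]
        · intro h
          have h3 : p * x * p⁻¹ = x := by rw [mem_centralizer_iff'.1 hp, mul_inv_cancel_right]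
          calc x * (p * z * p⁻¹) = p * (x * z) * p⁻¹ := by
                conv_lhs => rw [← h3]
                group
            _ = p * (z * x) * p⁻¹ := by rw [h]
            _ = p * z * p⁻¹ * (p * x * p⁻¹) := by group
            _ = p * z * p⁻¹ * x := by rw [h3]
      rw [hcd'] at *
      rw [hcd₀] at hxw
      exact (key c' d' hc' hd'').2 ((key c₀ d₀ hc₀ hd₀).1 hxw)
    obtain ⟨s, k, hs, hsx⟩ := exists_two_inverter hx
    obtain ⟨v, hv⟩ := exists_fixed_point (isPGroup_zpowers_two hs) (G ⧸ centralizer ({z} : Set G))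
      (by rw [← index_eq_card]; exact hodd)
    obtain ⟨b, rfl⟩ := QuotientGroup.mk_surjective v
    have hsb : s * b * z * (s * b)⁻¹ = b * z * b⁻¹ := by
      have h1 : ((s * b : G) : G ⧸ centralizer ({z} : Set G)) = b := hv ⟨s, mem_zpowers s⟩
      have h2 := mem_centralizer_iff'.1 (QuotientGroup.eq.1 h1)
      calc s * b * z * (s * b)⁻¹ = s * b * (z * ((s * b)⁻¹ * b)) * b⁻¹ := by group
        _ = s * b * ((s * b)⁻¹ * b * z) * b⁻¹ := by rw [h2]
        _ = b * z * b⁻¹ := by group
    set z' := b * z * b⁻¹ with hz'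
    have hz'z : z' * z' = 1 := by
      rw [hz', show b * z * b⁻¹ * (b * z * b⁻¹) = b * (z * z) * b⁻¹ by group, hzz]; group
    have hsz : s * z' = z' * s := by
      rw [conj_mul_eq, ← hz', mul_inv_eq_iff_eq_mul] at hsb
      exact hsb
    have hxz := hfix z' (isConj_iff.2 ⟨b, rfl⟩)
    obtain ⟨hinv2, hne, hco2⟩ := exists_real_mul hsx hxodd hz'z hxz hsz hx1
    refine hS.noedge _ _ hinv2 2 hS.two_mem q hq (two_dvd_index hinv2 hne)
      ((?_ : q ∣ (centralizer ({z'} : Set G)).index).trans (index_dvd_of_le (centralizer_mul_le hxz.symm hco2)))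
    rw [index_centralizer_eq] at hqz ⊢
    convert hqz using 1
    refine Nat.card_congr (Equiv.subtypeEquivRight fun v => ?_)
    have hzz' : IsConj z z' := isConj_iff.2 ⟨b, rfl⟩
    exact ⟨fun h => hzz'.trans h, fun h => hzz'.symm.trans h⟩
  refine ⟨?_, fun e => hall z (IsConj.refl z) e⟩
  have hrz : r ∣ (centralizer ({z} : Set G)).index := by
    rw [index_centralizer_eq]
    letI : MulAction ↥(zpowers x) {w : G // IsConj z w} :=
      { smul := fun p w => ⟨(p : G) * w.1 * (p : G)⁻¹, w.2.trans (isConj_iff.2 ⟨p, rfl⟩)⟩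
        one_smul := fun w => Subtype.ext (by
          show (1 : G) * w.1 * (1 : G)⁻¹ = w.1
          simp)
        mul_smul := fun p p' w => Subtype.ext (conj_mul_eq (p : G) p' w.1) }
    have hpx : IsPGroup r ↥(zpowers x) := IsPGroup.of_card (n := 1) (by rw [Nat.card_zpowers, hxr, pow_one])
    by_contra h
    obtain ⟨w, hw⟩ := hpx.nonempty_fixed_point_of_prime_not_dvd_card _ h
    have := congrArg Subtype.val (hw ⟨x, mem_zpowers x⟩)
    exact hall w.1 w.2 (mul_inv_eq_iff_eq_mul.1 this)
  exact (hS.cover z tz hz r hr hrz).resolve_left fun h => hS.noedge z tz hz r h q hq hrz hqz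

omit [Finite G] in
theorem closure_two_elements_top {K : Type u} [Group K] {L : Type u} [Group L] (f : K →* L)
    (hf : Function.Surjective f) (h : closure {g : K | ∃ k : ℕ, orderOf g = 2 ^ k} = ⊤) :
    closure {g : L | ∃ k : ℕ, orderOf g = 2 ^ k} = ⊤ := by
  refine eq_top_iff.2 ?_
  calc (⊤ : Subgroup L) = (⊤ : Subgroup K).map f := (map_top_of_surjective f hf).symm
    _ ≤ _ := by
      rw [← h, MonoidHom.map_closure, closure_le]
      rintro _ ⟨g, ⟨k, hk⟩, rfl⟩
      obtain ⟨j, -, hj⟩ := (Nat.dvd_prime_pow Nat.prime_two).1 (hk ▸ orderOf_map_dvd f g)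
      exact subset_closure ⟨j, hj⟩

theorem exists_real_dvd {r : ℕ} (hr : r.Prime) (hr2 : r ≠ 2) :
    ∀ (n : ℕ) (K : Type u) [Group K] [Finite K], Nat.card K ≤ n → Group.IsSolvable K →
      closure {g : K | ∃ k : ℕ, orderOf g = 2 ^ k} = ⊤ → r ∣ Nat.card K →
      ∃ y t : K, Odd (orderOf y) ∧ t * y * t⁻¹ = y⁻¹ ∧ r ∣ orderOf y := by
  intro n
  induction n with
  | zero => intro K _ _ hK; exact absurd hK (Nat.not_le.2 Nat.card_pos)
  | succ n ih =>
    intro K _ _ hK hsol hgen hdvd
    haveI := hsol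
    haveI : Nontrivial K := Finite.one_lt_card_iff_nontrivial.1
      (lt_of_lt_of_le hr.one_lt (Nat.le_of_dvd Nat.card_pos hdvd))
    obtain ⟨p, hp, M, hMn, hM0, -, hMc, hMp, hexp, -⟩ :=
      Solvable.exists_minimal_normal_pGroup (N := (⊤ : Subgroup K)) top_ne_bot
    haveI := hMn
    haveI : Fact r.Prime := ⟨hr⟩
    have hcardM := M.card_eq_card_quotient_mul_card_subgroup
    by_cases hq : r ∣ Nat.card (K ⧸ M)
    · have hlt : Nat.card (K ⧸ M) < Nat.card K := by
        rw [hcardM]
        exact lt_mul_of_one_lt_right Nat.card_pos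
          (Finite.one_lt_card_iff_nontrivial.2 ((nontrivial_iff_ne_bot M).2 hM0))
      obtain ⟨y, t, hodd, hinv, hry⟩ := ih (K ⧸ M) (by omega)
        (solvable_of_surjective (QuotientGroup.mk'_surjective M))
        (closure_two_elements_top _ (QuotientGroup.mk'_surjective M) hgen) hq
      set y' := y ^ (orderOf y / r) with hy'
      have hy'o : orderOf y' = r := orderOf_pow_orderOf_div (orderOf_pos y).ne' hry
      obtain ⟨w, s, hfw, -, -, hwodd, hwinv⟩ := exists_real_lift (QuotientGroup.mk' M)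
        (QuotientGroup.mk'_surjective M) (by rw [hy'o]; exact hr.isPrimePow) (by rw [hy'o]; exact hr.odd_of_ne_two hr2)
        (conj_pow_pow hinv (orderOf y / r))
      refine ⟨w, s, hwodd, hwinv, ?_⟩
      have h9 := orderOf_map_dvd (QuotientGroup.mk' M) w
      rw [hfw, ← hy', hy'o] at h9
      exact h9
    · obtain ⟨j, hj⟩ := (haveI : Fact p.Prime := ⟨hp⟩; hMp.exists_card_eq)
      have hrp : r = p := by
        rw [hcardM, hr.dvd_mul] at hdvd
        rcases hdvd with h | h
        · exact absurd h hq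
        · rw [hj] at h
          exact (Nat.prime_dvd_prime_iff_eq hr hp).1 (hr.dvd_of_dvd_pow h)
      subst hrp
      by_cases hcent : ∀ s : K, (∃ k : ℕ, orderOf s = 2 ^ k) → ∀ m ∈ M, s * m = m * s
      · -- a central normal Sylow subgroup is a direct factor
        exfalso
        have hMZ : ∀ m ∈ M, ∀ g : K, g * m = m * g := fun m hm g => by
          have : closure {g : K | ∃ k : ℕ, orderOf g = 2 ^ k} ≤ centralizer ({m} : Set K) := by
            rw [closure_le]
            exact fun s hs => mem_centralizer_iff'.2 (hcent s hs m hm)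
          exact mem_centralizer_iff'.1 (this (hgen ▸ mem_top g))
        have hco : (Nat.card ↥M).Coprime M.index := by
          rw [hj, index_eq_card]
          exact Nat.Coprime.pow_left _ ((hr.coprime_iff_not_dvd).2 hq)
        obtain ⟨C, hC⟩ := exists_right_complement'_of_coprime hco
        have hCn : C.Normal := by
          refine ⟨fun c hc g => ?_⟩
          obtain ⟨⟨m, c'⟩, hmc⟩ := hC.2 g
          replace hmc : (m : K) * c' = g := hmc
          rw [← hmc, conj_mul_eq, ← hMZ m m.2 ((c' : K) * c * (c' : K)⁻¹), mul_inv_cancel_right]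
          exact C.mul_mem (C.mul_mem c'.2 hc) (C.inv_mem c'.2)
        haveI := hCn
        have h2C : {g : K | ∃ k : ℕ, orderOf g = 2 ^ k} ⊆ (C : Set K) := by
          rintro g ⟨k, hk⟩
          rw [SetLike.mem_coe, ← QuotientGroup.eq_one_iff, ← orderOf_eq_one_iff]
          have h1 : orderOf (g : K ⧸ C) ∣ 2 ^ k := hk ▸ orderOf_map_dvd (QuotientGroup.mk' C) g
          have h2 : orderOf (g : K ⧸ C) ∣ r ^ j := by
            rw [← hj, ← hC.index_eq_card, index_eq_card]
            exact orderOf_dvd_natCard _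
          exact Nat.dvd_one.1 ((Nat.Coprime.pow k j ((Nat.coprime_primes Nat.prime_two hr).2 (Ne.symm hr2))).gcd_eq_one ▸
            Nat.dvd_gcd h1 h2)
        have hCtop : C = ⊤ := eq_top_iff.2 (hgen ▸ (closure_le _).2 h2C)
        exact hM0 (by simpa [hCtop] using hC.disjoint)
      · push_neg at hcent
        obtain ⟨s, ⟨k, hk⟩, m, hm, hsm⟩ := hcent
        -- descend to an element whose square centralises `m`
        have key : ∀ (k : ℕ) (s : K), orderOf s ∣ 2 ^ k → (∃ m ∈ M, s * m ≠ m * s) →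
            ∃ y t : K, Odd (orderOf y) ∧ t * y * t⁻¹ = y⁻¹ ∧ r ∣ orderOf y := by
          intro k
          induction k with
          | zero =>
            rintro s hs ⟨m, -, hne⟩
            rw [pow_zero, Nat.dvd_one, orderOf_eq_one_iff] at hs
            exact absurd (by rw [hs, one_mul, mul_one]) hne
          | succ k ihk =>
            rintro s hs ⟨m, hm, hne⟩
            by_cases hsq : ∀ m ∈ M, s ^ 2 * m = m * s ^ 2
            · have hms : s * m * s⁻¹ ∈ M := hMn.conj_mem m hm s
              set y := m⁻¹ * (s * m * s⁻¹) with hy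
              have hyM : y ∈ M := M.mul_mem (M.inv_mem hm) hms
              have hy1 : y ≠ 1 := fun e => hne (by
                rw [hy, inv_mul_eq_one] at e
                exact mul_inv_eq_iff_eq_mul.1 e.symm)
              have hyo : orderOf y = r := orderOf_eq_prime (hexp y hyM) hy1
              refine ⟨y, s, hyo ▸ hr.odd_of_ne_two hr2, ?_, hyo ▸ dvd_rfl⟩
              have h2 : s * (s * m * s⁻¹) * s⁻¹ = m := by
                rw [← conj_mul_eq, ← pow_two, hsq m hm, mul_inv_cancel_right]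
              calc s * y * s⁻¹ = (s * m * s⁻¹)⁻¹ * (s * (s * m * s⁻¹) * s⁻¹) := by rw [hy]; group
                _ = y⁻¹ := by rw [h2, hy]; group
            · push_neg at hsq
              refine ihk (s ^ 2) (orderOf_dvd_of_pow_eq_one ?_) hsq
              rw [← pow_mul, ← pow_succ']
              exact orderOf_dvd_iff_pow_eq_one.1 hs
        exact key k s (hk ▸ dvd_rfl) ⟨m, hm, hsm⟩

/-- For a normal subgroup, the class size inside it divides the class size. -/
theorem relIndex_dvd_index (K C : Subgroup G) [K.Normal] : C.relIndex K ∣ C.index := by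
  obtain ⟨a, ha⟩ := relIndex_dvd_index_of_normal K C
  have h1 : C.relIndex K * K.index = K.relIndex C * C.index :=
    calc C.relIndex K * K.index = (C ⊓ K).relIndex K * K.index := by rw [inf_relIndex_right]
      _ = (C ⊓ K).index := relIndex_mul_index inf_le_right
      _ = (C ⊓ K).relIndex C * C.index := (relIndex_mul_index inf_le_left).symm
      _ = K.relIndex C * C.index := by rw [inf_comm, inf_relIndex_right]
  rw [ha, ← mul_assoc, mul_comm (C.relIndex K), mul_assoc] at h1
  exact Dvd.intro a (Nat.eq_of_mul_eq_mul_left (Nat.pos_of_ne_zero Subgroup.index_ne_zero_of_finite) h1)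

end Cfsg.Agent.RealClassGraph

namespace Cfsg.Agent.RealClassGraph

open Subgroup

universe u

variable {G : Type u} [Group G] [Finite G] {π₁ π₂ : Set ℕ}

theorem Split.two_generated_structure (hS : Split G π₁ π₂) {z tz : G} (hz : tz * z * tz⁻¹ = z⁻¹) {q : ℕ}
    (hq : q ∈ π₂) (hqp : q.Prime) (hqz : q ∣ (centralizer ({z} : Set G)).index)
    (hns : ¬ ∀ P : Sylow 2 G, (P : Subgroup G).Normal) {K : Subgroup G}
    (hK : K = closure {g : G | ∃ k : ℕ, orderOf g = 2 ^ k}) :
    (∃ x t : ↥K, t * x * t⁻¹ = x⁻¹ ∧ 2 ∣ (centralizer ({x} : Set ↥K)).index) ∧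
      (∃ (x t : ↥K) (r : ℕ), r.Prime ∧ r ≠ 2 ∧ t * x * t⁻¹ = x⁻¹ ∧ r ∣ (centralizer ({x} : Set ↥K)).index) ∧
      ∀ x t : ↥K, t * x * t⁻¹ = x⁻¹ → Odd (centralizer ({x} : Set ↥K)).index ∨
        ∃ j : ℕ, (centralizer ({x} : Set ↥K)).index = 2 ^ j := by
  classical
  haveI : Fact (Nat.Prime 2) := ⟨Nat.prime_two⟩
  have hsol : Group.IsSolvable G := hS.isSolvable hz hq hqp hqz
  haveI hKn : K.Normal := by
    refine ⟨fun a ha g => ?_⟩
    have h1 : K ≤ K.comap (MulAut.conj g).toMonoidHom := by
      rw [hK, closure_le]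
      rintro b ⟨k, hk⟩
      show MulAut.conj g b ∈ Subgroup.closure _
      exact subset_closure ⟨k, by rw [MulEquiv.orderOf_eq, hk]⟩
    exact h1 ha
  have htwo : ∀ g : G, (∃ k : ℕ, orderOf g = 2 ^ k) → g ∈ K := fun g hg => hK ▸ subset_closure hg
  have hdvd : ∀ x : ↥K, (centralizer ({x} : Set ↥K)).index ∣ (centralizer ({(x : G)} : Set G)).index := by
    intro x
    have : centralizer ({x} : Set ↥K) = (centralizer ({(x : G)} : Set G)).subgroupOf K := by
      ext c
      rw [mem_subgroupOf, mem_centralizer_iff', mem_centralizer_iff']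
      exact ⟨fun h => congrArg Subtype.val h, fun h => Subtype.ext h⟩
    rw [this]
    exact relIndex_dvd_index K _
  -- a real element of odd prime order inside `K`
  obtain ⟨P, hP⟩ := not_forall.1 hns
  obtain ⟨r, hr, x, t, hr2, hxr, hxt⟩ :=
    TwoClosedInverted.exists_inverted (G := G) (fun h' => hP (h' P))
  obtain ⟨hrπ, hxz⟩ := hS.prime_of_real_odd hz hq hqz hxt hr hr2 hxr
  obtain ⟨s, k, hs, hsx⟩ := exists_two_inverter hxt
  have hsK : s ∈ K := htwo s ⟨k, hs⟩
  have hxodd : Odd (orderOf x) := hxr ▸ hr.odd_of_ne_two hr2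
  have hx2 : x * x ∈ K := by
    have h1 : x * x = x * s * x⁻¹ * s⁻¹ := by
      have h2 : s * x⁻¹ * s⁻¹ = x := by rw [← conj_inv, hsx, inv_inv]
      conv_lhs => arg 2; rw [← h2]
      group
    rw [h1]
    exact K.mul_mem (hKn.conj_mem s hsK x) (K.inv_mem hsK)
  have hxK : x ∈ K := by
    obtain ⟨m, hm⟩ := exists_pow_eq_self_of_coprime (x := x) (Nat.coprime_two_left.2 hxodd)
    rw [← hm, pow_two]
    exact K.pow_mem hx2 m
  refine ⟨⟨⟨x, hxK⟩, ⟨s, hsK⟩, Subtype.ext hsx, two_dvd_index (t := (⟨s, hsK⟩ : ↥K)) (Subtype.ext hsx)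
    fun e => ?_⟩, ?_, ?_⟩
  · have : x = 1 := eq_one_of_sq hxodd (congrArg Subtype.val e)
    rw [this, orderOf_one] at hxr
    exact hr.ne_one hxr.symm
  · have hodd : Odd (centralizer ({z} : Set G)).index :=
      Nat.odd_iff.2 (Nat.two_dvd_ne_zero.1 fun h2 => hS.noedge z tz hz 2 hS.two_mem q hq h2 hqz)
    have hzz : z * z = 1 := by
      by_contra h
      exact Nat.two_dvd_ne_zero.2 (Nat.odd_iff.1 hodd) (two_dvd_index hz h)
    have hzK : z ∈ K := by
      obtain ⟨j, -, hj⟩ := (Nat.dvd_prime_pow Nat.prime_two).1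
        (orderOf_dvd_of_pow_eq_one (by rw [pow_one, pow_two, hzz]) : orderOf z ∣ 2 ^ 1)
      exact htwo z ⟨j, hj⟩
    obtain ⟨p, hp, hpd⟩ := Nat.exists_prime_and_dvd (n := (centralizer ({(⟨z, hzK⟩ : ↥K)} : Set ↥K)).index)
      fun e => hxz (congrArg Subtype.val (mem_centralizer_iff'.1
        (show (⟨x, hxK⟩ : ↥K) ∈ centralizer ({(⟨z, hzK⟩ : ↥K)} : Set ↥K) by
          rw [index_eq_one.1 e]; exact mem_top _)))
    refine ⟨⟨z, hzK⟩, 1, p, hp, fun e => ?_, Subtype.ext (inv_of_sq hzz), hpd⟩
    exact Nat.two_dvd_ne_zero.2 (Nat.odd_iff.1 hodd) (e ▸ hpd.trans (hdvd _))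
  · intro y u hyu
    rcases Nat.even_or_odd (centralizer ({y} : Set ↥K)).index with hev | hodd
    swap
    · exact Or.inl hodd
    refine Or.inr ⟨_, Nat.eq_prime_pow_of_unique_prime_dvd index_ne_zero_of_finite fun {d} hd hdy => ?_⟩
    by_contra hd2
    have hyu' : (u : G) * y * (u : G)⁻¹ = (y : G)⁻¹ := congrArg Subtype.val hyu
    have h2G := (even_iff_two_dvd.1 hev).trans (hdvd y)
    have hdG := hdy.trans (hdvd y)
    haveI : Group.IsSolvable ↥K := inferInstance
    obtain ⟨w, v, hwodd, hwv, hdw⟩ := exists_real_dvd hd hd2 (Nat.card ↥K) ↥K le_rfl inferInstance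
      (by
        have hcl := closure_closure_coe_preimage (k := {g : G | ∃ k : ℕ, orderOf g = 2 ^ k})
        subst hK
        refine (congrArg Subgroup.closure (Set.ext fun g => ?_)).trans hcl
        show (∃ k, orderOf g = 2 ^ k) ↔ ∃ k, orderOf (g : G) = 2 ^ k
        simp only [orderOf_coe])
      (hdy.trans (index_dvd_card _))
    have hw' := congrArg Subtype.val (conj_pow_pow hwv (orderOf w / d))
    have hwo : orderOf ((w ^ (orderOf w / d) : ↥K) : G) = d := by
      rw [orderOf_coe]; exact orderOf_pow_orderOf_div (orderOf_pos w).ne' hdw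
    have hdπ := (hS.prime_of_real_odd hz hq hqz (x := ((w ^ (orderOf w / d) : ↥K) : G)) (t := (v : G)) hw'
      hd hd2 hwo).1
    exact hS.noedge _ _ hyu' 2 hS.two_mem d hdπ h2G hdG

end Cfsg.Agent.RealClassGraph
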